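import Mathlib
import Cfsg.Agent.Lib.PGroup.MaxNormal
import Cfsg.Agent.Lib.PSolv.Basic

/-!
# Groups in which abelian subgroups of equal order are conjugate
-/

set_option autoImplicit false

namespace Cfsg.Agent.Lib.PGroup.ConjAb

open Subgroup

variable {G : Type*} [Group G]

/-- Abelian subgroups of equal order are conjugate. -/
def HB (G : Type*) [Group G] : Prop :=
  ∀ A B : Subgroup G, IsMulCommutative ↥A → IsMulCommutative ↥B → Nat.card ↥A = Nat.card ↥B →
    ∃ g : G, B = A.map (MulAut.conj g).toMonoidHom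

theorem mem_conj_map {A : Subgroup G} {g x : G} :
    x ∈ A.map (MulAut.conj g).toMonoidHom ↔ g⁻¹ * x * g ∈ A := by
  constructor
  · rintro ⟨y, hy, rfl⟩
    have : g⁻¹ * ((MulAut.conj g).toMonoidHom y) * g = y := by
      show g⁻¹ * (g * y * g⁻¹) * g = y
      group
    rw [this]; exact hy
  · intro h
    refine ⟨_, h, ?_⟩
    show g * (g⁻¹ * x * g) * g⁻¹ = x
    group

/-- If a `p`-subgroup contains two distinct subgroups of order `p`, it contains an abelian
subgroup of order `p²` and exponent `p`. -/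
theorem exists_elem_of_not_unique [Finite G] (p : ℕ) [hp : Fact p.Prime] (P : Subgroup G)
    (hP : IsPGroup p P) {A B : Subgroup P} (hA : Nat.card A = p) (hB : Nat.card B = p)
    (hAB : A ≠ B) :
    ∃ E : Subgroup G, IsMulCommutative E ∧ Nat.card E = p ^ 2 ∧ ∀ x ∈ E, x ^ p = 1 := by
  classical
  have hPnt : (⊤ : Subgroup P) ≠ ⊥ := by
    intro h
    have hA1 : A = ⊥ := by
      rw [eq_bot_iff]
      intro x _
      have : x ∈ (⊤ : Subgroup P) := mem_top x
      rwa [h] at this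
    rw [hA1, Subgroup.card_bot] at hA
    exact hp.out.one_lt.ne hA
  obtain ⟨z, -, hzc, hzo⟩ := Cfsg.Agent.Lib.PGroup.exists_central_of_order_prime hP hPnt
  let Z₀ : Subgroup P := zpowers z
  have hZ₀c : Nat.card Z₀ = p := by rw [Nat.card_zpowers, hzo]
  have hZ₀n : Z₀.Normal := by
    constructor
    intro n hn g
    have hc : n ∈ center P := by
      have : Z₀ ≤ center P := by
        rw [Subgroup.zpowers_le]; exact hzc
      exact this hn
    have h1 : g * n * g⁻¹ = n := by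
      have := Subgroup.mem_center_iff.mp hc g
      rw [this]; group
    rw [h1]; exact hn
  obtain ⟨Y, hYc, hYZ⟩ : ∃ Y : Subgroup P, Nat.card Y = p ∧ Y ≠ Z₀ := by
    by_cases h : A = Z₀
    · refine ⟨B, hB, ?_⟩
      intro h2
      exact hAB (h.trans h2.symm)
    · exact ⟨A, hA, h⟩
  have hinf : Y ⊓ Z₀ = ⊥ := by
    by_contra hne
    obtain ⟨⟨a, ha⟩, ha1⟩ := Subgroup.ne_bot_iff_exists_ne_one.mp hne
    have ha1' : a ≠ 1 := fun h => ha1 (Subtype.ext h)
    have haY := (Subgroup.mem_inf.mp ha).1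
    have haZ := (Subgroup.mem_inf.mp ha).2
    have hprime := hp.out
    have h1 : zpowers a = Y := by
      haveI : IsCyclic Y := isCyclic_of_prime_card hYc
      apply Subgroup.eq_of_le_of_card_ge ((Subgroup.zpowers_le).mpr haY)
      rw [hYc, Nat.card_zpowers]
      have h3 : orderOf a ∣ Nat.card Y := by
        have := Subgroup.orderOf_dvd_natCard Y haY
        exact this
      rw [hYc] at h3
      have h4 := (Nat.dvd_prime hprime).mp h3
      rcases h4 with h4 | h4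
      · rw [orderOf_eq_one_iff] at h4; exact absurd h4 ha1'
      · rw [h4]
    have h2 : zpowers a = Z₀ := by
      apply Subgroup.eq_of_le_of_card_ge ((Subgroup.zpowers_le).mpr haZ)
      rw [hZ₀c, Nat.card_zpowers]
      have h3 : orderOf a ∣ Nat.card Z₀ := Subgroup.orderOf_dvd_natCard Z₀ haZ
      rw [hZ₀c] at h3
      have h4 := (Nat.dvd_prime hprime).mp h3
      rcases h4 with h4 | h4
      · rw [orderOf_eq_one_iff] at h4; exact absurd h4 ha1'
      · rw [h4]
    exact hYZ (h1.symm.trans h2)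
  let E₀ : Subgroup P := Y ⊔ Z₀
  have hE₀card : Nat.card E₀ = p ^ 2 := by
    have := Cfsg.Agent.Lib.PSolv.card_sup_mul_card_inf Y Z₀
    rw [hinf, Subgroup.card_bot, mul_one, hYc, hZ₀c] at this
    rw [pow_two]; exact this
  have hYcomm : ∀ a ∈ Y, ∀ b ∈ Y, a * b = b * a := by
    haveI : IsCyclic Y := isCyclic_of_prime_card hYc
    intro a ha b hb
    letI := IsCyclic.commGroup (α := Y)
    have h : (⟨a, ha⟩ : Y) * ⟨b, hb⟩ = ⟨b, hb⟩ * ⟨a, ha⟩ := mul_comm _ _
    exact congrArg Subtype.val h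
  have hZc : ∀ a ∈ Z₀, ∀ b : P, a * b = b * a := by
    intro a ha b
    have : Z₀ ≤ center P := by
      rw [Subgroup.zpowers_le]; exact hzc
    exact (Subgroup.mem_center_iff.mp (this ha) b).symm
  have hYexp : ∀ a ∈ Y, a ^ p = 1 := by
    intro a ha
    have := Subgroup.orderOf_dvd_natCard Y ha
    rw [hYc] at this
    exact orderOf_dvd_iff_pow_eq_one.mp this
  have hZexp : ∀ a ∈ Z₀, a ^ p = 1 := by
    intro a ha
    have := Subgroup.orderOf_dvd_natCard Z₀ ha
    rw [hZ₀c] at this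
    exact orderOf_dvd_iff_pow_eq_one.mp this
  have hE₀mem : ∀ x ∈ E₀, ∃ y ∈ Y, ∃ w ∈ Z₀, y * w = x := fun x hx =>
    (Subgroup.mem_sup_of_normal_right).mp hx
  let f : P →* G := P.subtype
  refine ⟨E₀.map f, ?_, ?_, ?_⟩
  · refine Cfsg.Agent.Lib.PGroup.isMulCommutative_of_comm ?_
    rintro _ ⟨a, ha, rfl⟩ _ ⟨b, hb, rfl⟩
    obtain ⟨y₁, hy₁, w₁, hw₁, rfl⟩ := hE₀mem a ha
    obtain ⟨y₂, hy₂, w₂, hw₂, rfl⟩ := hE₀mem b hb
    rw [← map_mul, ← map_mul]
    congr 1
    calc y₁ * w₁ * (y₂ * w₂) = y₁ * (w₁ * y₂) * w₂ := by group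
      _ = y₁ * (y₂ * w₁) * w₂ := by rw [hZc w₁ hw₁ y₂]
      _ = (y₁ * y₂) * (w₁ * w₂) := by group
      _ = (y₂ * y₁) * (w₁ * w₂) := by rw [hYcomm y₁ hy₁ y₂ hy₂]
      _ = (y₂ * y₁) * (w₂ * w₁) := by rw [hZc w₁ hw₁ w₂]
      _ = y₂ * (y₁ * w₂) * w₁ := by group
      _ = y₂ * (w₂ * y₁) * w₁ := by rw [hZc w₂ hw₂ y₁]
      _ = y₂ * w₂ * (y₁ * w₁) := by group
  · rw [Subgroup.card_map_of_injective P.subtype_injective, hE₀card]
  · rintro _ ⟨a, ha, rfl⟩
    obtain ⟨y, hy, w, hw, rfl⟩ := hE₀mem a ha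
    rw [← map_pow]
    have hcomm : Commute y w := (hZc w hw y).symm
    rw [hcomm.mul_pow, hYexp y hy, hZexp w hw, one_mul, map_one]

/-- The Sylow dichotomy: exponent `p`, or a unique subgroup of order `p`. -/
theorem sylow_dichotomy [Finite G] (hB : HB G) (p : ℕ) [hp : Fact p.Prime] (P : Subgroup G)
    (hP : IsPGroup p P) :
    (∀ x ∈ P, x ^ p = 1) ∨ ∀ A B : Subgroup P, Nat.card A = p → Nat.card B = p → A = B := by
  classical
  by_cases huniq : ∀ A B : Subgroup P, Nat.card A = p → Nat.card B = p → A = B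
  · exact Or.inr huniq
  left
  push Not at huniq
  obtain ⟨A, B, hA, hB', hAB⟩ := huniq
  obtain ⟨E, hEc, hEcard, hEexp⟩ := exists_elem_of_not_unique p P hP hA hB' hAB
  intro z hz
  by_contra hzp
  obtain ⟨k, hk⟩ := hP ⟨z, hz⟩
  have hk' : z ^ p ^ k = 1 := by
    have := congrArg Subtype.val hk
    simpa using this
  obtain ⟨j, hj, hjo⟩ := (Nat.dvd_prime_pow hp.out).mp (orderOf_dvd_of_pow_eq_one hk')
  have hj2 : 2 ≤ j := by
    by_contra hlt
    have hj1 : j ≤ 1 := by omega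
    apply hzp
    rw [← orderOf_dvd_iff_pow_eq_one, hjo]
    calc p ^ j ∣ p ^ 1 := pow_dvd_pow p hj1
      _ = p := pow_one p
  -- an element of order `p ^ 2`
  let w : G := z ^ p ^ (j - 2)
  have hwo : orderOf w = p ^ 2 := by
    have h1 : p ^ (j - 2) ∣ orderOf z := by
      rw [hjo]; exact pow_dvd_pow p (Nat.sub_le _ _)
    rw [orderOf_pow_of_dvd (pow_pos hp.out.pos _).ne' h1, hjo]
    have : p ^ j = p ^ 2 * p ^ (j - 2) := by
      rw [← pow_add]; congr 1; omega
    rw [this, Nat.mul_div_cancel]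
    exact pow_pos hp.out.pos _
  have hwc : Nat.card (zpowers w) = p ^ 2 := by rw [Nat.card_zpowers, hwo]
  obtain ⟨g, hg⟩ := hB E (zpowers w) hEc (Cfsg.Agent.Lib.PGroup.isMulCommutative_zpowers w) (by rw [hEcard, hwc])
  have hw : w ∈ E.map (MulAut.conj g).toMonoidHom := hg ▸ Subgroup.mem_zpowers w
  have h2 := hEexp _ (mem_conj_map.mp hw)
  have h3 : w ^ p = 1 := by
    have h4 : (g⁻¹ * w * g) ^ p = g⁻¹ * w ^ p * g := by
      have := conj_pow (a := g⁻¹) (b := w) (i := p)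
      simpa using this
    rw [h4] at h2
    have h5 : w ^ p = g * (g⁻¹ * w ^ p * g) * g⁻¹ := by group
    rw [h5, h2]; group
  have h6 : p ^ 2 ∣ p := by
    rw [← hwo]; exact orderOf_dvd_of_pow_eq_one h3
  have h7 := Nat.le_of_dvd hp.out.pos h6
  have h8 := hp.out.two_le
  nlinarith

end Cfsg.Agent.Lib.PGroup.ConjAb
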