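import Mathlib
import Cfsg.Agent.Lib.BS.Basic
import Cfsg.Agent.Lib.Techniques.SylowIn
import Cfsg.Agent.Lib.Transfer.Basic
import Cfsg.Agent.Lib.Hall.CoprimeLemmas
import Cfsg.Agent.Lib.PGroup.ConjAb

/-!
# Generalized quaternion Sylow 2-subgroups of order at least 16 and fusion of the elements of order 4
in solvable groups
-/

set_option autoImplicit false

namespace Cfsg.Agent.Lib.PGroup.ConjAb

open Subgroup Cfsg.Agent.Lib.BS Cfsg.Agent.Lib.Techniques

universe u

variable {G : Type u} [Group G]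

theorem exists_normal_prime_index [Finite G] [Group.IsSolvable G] [Nontrivial G] :
    ∃ N : Subgroup G, N.Normal ∧ N.index.Prime := by
  classical
  have hlt : commutator G ≠ ⊤ := (Group.IsSolvable.commutator_lt_top_of_nontrivial G).ne
  obtain ⟨M, hM, hle⟩ : ∃ M, IsCoatom M ∧ commutator G ≤ M := by
    rcases eq_top_or_exists_le_coatom (commutator G) with h | ⟨M, hM, hle⟩
    · exact absurd h hlt
    · exact ⟨M, hM, hle⟩
  have hMn : M.Normal := by
    constructor
    intro n hn g
    have h1 : g * n * g⁻¹ * n⁻¹ ∈ M := by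
      apply hle
      have := Subgroup.commutator_mem_commutator (Subgroup.mem_top g) (Subgroup.mem_top n)
      rw [commutatorElement_def] at this
      exact this
    have h2 : g * n * g⁻¹ = (g * n * g⁻¹ * n⁻¹) * n := by group
    rw [h2]
    exact mul_mem h1 hn
  refine ⟨M, hMn, ?_⟩
  have hidx : M.index ≠ 1 := by
    rw [Ne, Subgroup.index_eq_one]; exact hM.1
  have hq : (M.index.minFac).Prime := Nat.minFac_prime hidx
  haveI : Fact (M.index.minFac).Prime := ⟨hq⟩
  have hdvd : M.index.minFac ∣ Nat.card (G ⧸ M) := Nat.minFac_dvd _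
  obtain ⟨z, hz⟩ := exists_prime_orderOf_dvd_card' M.index.minFac hdvd
  let K : Subgroup G := (zpowers z).comap (QuotientGroup.mk' M)
  have hMK : M ≤ K := by
    intro y hy
    show QuotientGroup.mk' M y ∈ zpowers z
    have : QuotientGroup.mk' M y = 1 := by
      rw [QuotientGroup.mk'_apply, QuotientGroup.eq_one_iff]; exact hy
    rw [this]; exact one_mem _
  obtain ⟨y, rfl⟩ := QuotientGroup.mk'_surjective M z
  have hK : K = ⊤ := by
    apply hM.2
    refine lt_of_le_of_ne hMK ?_
    intro hne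
    have hy : y ∈ K := by
      show QuotientGroup.mk' M y ∈ zpowers (QuotientGroup.mk' M y)
      exact mem_zpowers _
    rw [← hne] at hy
    have h1 : QuotientGroup.mk' M y = 1 := by
      rw [QuotientGroup.mk'_apply, QuotientGroup.eq_one_iff]; exact hy
    rw [h1, orderOf_one] at hz
    exact hq.one_lt.ne hz
  have htop : zpowers (QuotientGroup.mk' M y) = ⊤ := by
    rw [eq_top_iff]
    intro w _
    obtain ⟨t, rfl⟩ := QuotientGroup.mk'_surjective M w
    have : t ∈ K := by rw [hK]; exact mem_top t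
    exact this
  have hc : M.index = M.index.minFac := by
    have h1 : Nat.card (zpowers (QuotientGroup.mk' M y)) = Nat.card (G ⧸ M) := by
      rw [htop]; exact Subgroup.card_top
    rw [Nat.card_zpowers, hz] at h1
    exact h1.symm
  rw [hc]
  exact hq

namespace QData

variable {S : Subgroup G} {a x : G} {m : ℕ}

theorem pow_four_of_not_mem (h : QData S a x m) {s : G} (hs : s ∈ S) (hn : s ∉ zpowers a) :
    s ^ 4 = 1 := by
  rcases h.hS s hs with h1 | ⟨b, hb, rfl⟩
  · exact absurd h1 hn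
  have h2 : (x * b) ^ 2 = a ^ m := by
    have hcb : a ^ m * b = b * a ^ m :=
      Cfsg.Agent.Lib.BS.QData.comm_of_mem (Subgroup.pow_mem _ (mem_zpowers _) _) hb
    calc (x * b) ^ 2 = (x * b * x⁻¹) * x ^ 2 * b := by
            rw [pow_two]; rw [pow_two]; group
      _ = b⁻¹ * a ^ m * b := by rw [h.conj_mem_zpowers hb, h.hx2]
      _ = a ^ m := by rw [mul_assoc, hcb]; group
  calc (x * b) ^ 4 = ((x * b) ^ 2) ^ 2 := by rw [← pow_mul]
    _ = a ^ (m * 2) := by rw [h2, ← pow_mul]
    _ = 1 := by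
      rw [mul_comm, ← h.ha]; exact pow_orderOf_eq_one a

theorem a_pow_four_ne (h : QData S a x m) : a ^ 4 ≠ 1 := by
  intro h2
  have h3 := orderOf_dvd_of_pow_eq_one h2
  rw [h.ha] at h3
  obtain ⟨k, rfl⟩ := h.hm
  have : 2 * 2 ^ (k + 2) ≤ 4 := Nat.le_of_dvd (by norm_num) h3
  have h4 : 0 < 2 ^ k := by positivity
  rw [pow_add] at this
  omega

theorem a_pow_m_ne (h : QData S a x m) : a ^ m ≠ 1 := by
  intro h2
  have h3 := orderOf_dvd_of_pow_eq_one h2
  rw [h.ha] at h3
  have hm := h.m_pos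
  have := Nat.le_of_dvd hm h3
  omega

theorem x_not_mem (h : QData S a x m) : x ∉ zpowers a := by
  intro h1
  have h2 := h.conj_mem_zpowers (mem_zpowers a)
  have h3 : x * a = a * x := Cfsg.Agent.Lib.BS.QData.comm_of_mem h1 (mem_zpowers a)
  rw [h3] at h2
  have h4 : a = a⁻¹ := by
    calc a = a * x * x⁻¹ := by group
      _ = a⁻¹ := h2
  apply a_pow_four_ne h
  have h5 : a * a = 1 := by
    nth_rewrite 1 [h4]; group
  calc a ^ 4 = (a * a) * (a * a) := by
        rw [show (4 : ℕ) = 2 + 2 from rfl, pow_add, pow_two]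
    _ = 1 := by rw [h5, one_mul]

theorem orderOf_eq_four_of_not_mem (h : QData S a x m) {s : G} (hs : s ∈ S) (hn : s ∉ zpowers a) :
    orderOf s = 4 := by
  have h4 := pow_four_of_not_mem h hs hn
  rcases h.hS s hs with h1 | ⟨b, hb, rfl⟩
  · exact absurd h1 hn
  have h2 : (x * b) ^ 2 = a ^ m := by
    have hcb : a ^ m * b = b * a ^ m :=
      Cfsg.Agent.Lib.BS.QData.comm_of_mem (Subgroup.pow_mem _ (mem_zpowers _) _) hb
    calc (x * b) ^ 2 = (x * b * x⁻¹) * x ^ 2 * b := by
            rw [pow_two]; rw [pow_two]; group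
      _ = b⁻¹ * a ^ m * b := by rw [h.conj_mem_zpowers hb, h.hx2]
      _ = a ^ m := by rw [mul_assoc, hcb]; group
  have := orderOf_eq_prime_pow (p := 2) (n := 1) (x := x * b) (by
    rw [pow_one, h2]; exact a_pow_m_ne h) (by simpa using h4)
  simpa using this

/-- An element of odd order normalizing the quaternion group centralizes it. -/
theorem odd_centralizes [Finite G] (h : QData S a x m) {g : G} (hg : g ∈ normalizer (S : Set G))
    (hodd : Odd (orderOf g)) : ∀ s ∈ S, g * s * g⁻¹ = s := by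
  classical
  have hcop : ∀ n : ℕ, Nat.Coprime (orderOf g) (2 ^ n) := fun n =>
    Nat.Coprime.pow_right n (Nat.coprime_two_right.mpr hodd)
  -- `g` normalizes `⟨a⟩`
  have h1 : g * a * g⁻¹ ∈ zpowers a := by
    by_contra hn
    have hm : g * a * g⁻¹ ∈ S := (Subgroup.mem_normalizer_iff.mp hg a).mp h.haS
    have h4 := pow_four_of_not_mem h hm hn
    rw [conj_pow] at h4
    apply a_pow_four_ne h
    have h5 : a ^ 4 = g⁻¹ * (g * a ^ 4 * g⁻¹) * g := by group
    rw [h5, h4]; group
  have h2 : ∀ c ∈ zpowers a, g * c * g⁻¹ ∈ zpowers a := by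
    intro c hc
    obtain ⟨i, rfl⟩ := mem_zpowers_iff.mp hc
    rw [← conj_zpow]
    exact Subgroup.zpow_mem _ h1 i
  have h3 : g ∈ normalizer (zpowers a : Set G) :=
    Cfsg.Agent.Lib.Hall.mem_normalizer_of_conj_le h2
  -- `g` centralizes `⟨a⟩`
  have h5 : ∀ c ∈ zpowers a, g * c * g⁻¹ = c := by
    obtain ⟨k, hk⟩ := h.hm
    let Φ := (zpowers a).normalizerMonoidHom
    have hcardA : Nat.card (zpowers a) = 2 ^ (k + 3) := by
      rw [Nat.card_zpowers, h.ha, hk]; ring
    have hcardM : Nat.card (MulAut (zpowers a)) = 2 ^ (k + 2) := by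
      rw [IsCyclic.card_mulAut, hcardA, Nat.totient_prime_pow Nat.prime_two (by omega)]
      simp
    have h6 : orderOf (Φ ⟨g, h3⟩) ∣ 2 ^ (k + 2) := by
      rw [← hcardM]; exact orderOf_dvd_natCard _
    have h7 : orderOf (Φ ⟨g, h3⟩) ∣ orderOf g := by
      apply orderOf_dvd_of_pow_eq_one
      rw [← map_pow]
      have : (⟨g, h3⟩ : normalizer (zpowers a : Set G)) ^ orderOf g = 1 := by
        apply Subtype.ext
        simp [pow_orderOf_eq_one]
      rw [this, map_one]
    have h8 : orderOf (Φ ⟨g, h3⟩) = 1 :=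
      Nat.eq_one_of_dvd_coprimes (hcop (k + 2)) h7 h6
    rw [orderOf_eq_one_iff] at h8
    have h9 : (⟨g, h3⟩ : normalizer (zpowers a : Set G)) ∈ Φ.ker := h8
    rw [Subgroup.normalizerMonoidHom_ker] at h9
    have h10 : g ∈ centralizer (zpowers a : Set G) := h9
    intro c hc
    have := Subgroup.mem_centralizer_iff.mp h10 c hc
    rw [← this]; group
  have hginv : g⁻¹ ∈ normalizer (S : Set G) := inv_mem hg
  -- the image of `x`
  have hxS : g * x * g⁻¹ ∈ S := (Subgroup.mem_normalizer_iff.mp hg x).mp h.hxS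
  have h6 : g * x * g⁻¹ = x := by
    rcases h.hS _ hxS with h7 | ⟨b, hb, hgb⟩
    · exfalso
      apply QData.x_not_mem h
      have h8 := h5 _ h7
      have h9 : x = g * x * g⁻¹ := by
        have h10 : g⁻¹ * (g * (g * x * g⁻¹) * g⁻¹) * g = g⁻¹ * (g * x * g⁻¹) * g := by rw [h8]
        have e1 : g⁻¹ * (g * (g * x * g⁻¹) * g⁻¹) * g = g * x * g⁻¹ := by group
        have e2 : g⁻¹ * (g * x * g⁻¹) * g = x := by group
        rw [e1, e2] at h10
        exact h10.symm
      rw [h9]; exact h7
    · have hiter : ∀ n : ℕ, g ^ n * x * (g ^ n)⁻¹ = x * b ^ n := by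
        intro n
        induction n with
        | zero => simp
        | succ n ih =>
          calc g ^ (n + 1) * x * (g ^ (n + 1))⁻¹ = g * (g ^ n * x * (g ^ n)⁻¹) * g⁻¹ := by
                rw [pow_succ', mul_inv_rev]; group
            _ = g * (x * b ^ n) * g⁻¹ := by rw [ih]
            _ = (g * x * g⁻¹) * (g * b ^ n * g⁻¹) := by group
            _ = x * b * b ^ n := by
                rw [hgb, h5 _ (Subgroup.pow_mem _ hb n)]
            _ = x * b ^ (n + 1) := by rw [pow_succ', mul_assoc]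
      have h7 := hiter (orderOf g)
      rw [pow_orderOf_eq_one] at h7
      have h8 : b ^ orderOf g = 1 := by
        have : x * b ^ orderOf g = x := by rw [← h7]; group
        exact mul_left_cancel (this.trans (mul_one x).symm)
      obtain ⟨k, hk⟩ := h.hm
      have h9 : orderOf b ∣ 2 ^ (k + 3) := by
        have := Subgroup.orderOf_dvd_natCard (zpowers a) hb
        rw [Nat.card_zpowers, h.ha, hk] at this
        have e : 2 * 2 ^ (k + 2) = 2 ^ (k + 3) := by ring
        rwa [e] at this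
      have h10 : orderOf b ∣ orderOf g := orderOf_dvd_of_pow_eq_one h8
      have h11 : orderOf b = 1 := Nat.eq_one_of_dvd_coprimes (hcop (k + 3)) h10 h9
      rw [orderOf_eq_one_iff] at h11
      rw [hgb, h11, mul_one]
  intro s hs
  rcases h.hS s hs with h7 | ⟨b, hb, rfl⟩
  · exact h5 s h7
  · calc g * (x * b) * g⁻¹ = (g * x * g⁻¹) * (g * b * g⁻¹) := by group
      _ = x * b := by rw [h6, h5 b hb]

end QData

theorem two_elem_mem [Finite G] {S : Subgroup G} (hS : IsPGroup 2 S) (hi : ¬ 2 ∣ S.index) {b : G}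
    (hb : b ∈ normalizer (S : Set G)) (h2 : ∃ k : ℕ, b ^ 2 ^ k = 1) : b ∈ S := by
  haveI : Fact (Nat.Prime 2) := ⟨Nat.prime_two⟩
  obtain ⟨k, hk⟩ := h2
  have hz : IsPGroup 2 (zpowers b) := by
    intro c
    obtain ⟨c, hc⟩ := c
    refine ⟨k, Subtype.ext ?_⟩
    obtain ⟨i, rfl⟩ := mem_zpowers_iff.mp hc
    show (b ^ i) ^ 2 ^ k = 1
    rw [← zpow_natCast, ← zpow_mul, mul_comm, zpow_mul, zpow_natCast, hk, one_zpow]
  have hT : IsPGroup 2 (S ⊔ zpowers b : Subgroup G) :=
    IsPGroup.to_sup_of_normal_left' hS hz ((Subgroup.zpowers_le).mpr hb)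
  have := (IsPGroup.toSylow hS hi).is_maximal' hT le_sup_left
  have h3 : zpowers b ≤ S := by
    have h4 : (S ⊔ zpowers b : Subgroup G) = S := this
    rw [← h4]; exact le_sup_right
  exact h3 (mem_zpowers b)

/-- **No fusion of the elements of order four** in a solvable group with generalized quaternion
Sylow `2`-subgroups of order at least `16`. -/
theorem quat_excl [Finite G] (hs : Group.IsSolvable G) {S : Subgroup G} (hS2 : IsPGroup 2 S)
    (hi : ¬ 2 ∣ S.index) {a x : G} {m : ℕ} (h : QData S a x m) :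
    ∀ K : Subgroup G, S ≤ K →
      (∀ u v : G, u ∈ S → v ∈ S → orderOf u = 4 → orderOf v = 4 → ∃ g ∈ K, g * u * g⁻¹ ∈ zpowers v) →
      False := by
  classical
  haveI : Fact (Nat.Prime 2) := ⟨Nat.prime_two⟩
  intro K
  induction hn : Nat.card K using Nat.strong_induction_on generalizing K with
  | _ n ih =>
  intro hSK hconj
  subst hn
  have hnt : Nontrivial K := by
    have ha1 : a ≠ 1 := by
      rintro rfl
      have := h.ha
      rw [orderOf_one] at this
      have := h.m_pos
      omega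
    refine ⟨⟨⟨a, hSK h.haS⟩, 1, fun h0 => ha1 (congrArg Subtype.val h0)⟩⟩
  obtain ⟨N₀, hN₀, hr⟩ := exists_normal_prime_index (G := K)
  let N : Subgroup G := N₀.map K.subtype
  have hNK : N ≤ K := Subgroup.map_subtype_le _
  have hNn : ∀ g ∈ K, ∀ y ∈ N, g * y * g⁻¹ ∈ N := by
    rintro g hg _ ⟨y, hy, rfl⟩
    refine ⟨⟨g, hg⟩ * y * ⟨g, hg⟩⁻¹, hN₀.conj_mem y hy _, rfl⟩
  have hNn' : ∀ g ∈ K, ∀ y ∈ K, g * y * g⁻¹ ∈ N → y ∈ N := by
    intro g hg y hy h1
    have := hNn g⁻¹ (inv_mem hg) _ h1
    have h2 : g⁻¹ * (g * y * g⁻¹) * g⁻¹⁻¹ = y := by group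
    rwa [h2] at this
  have hcardK : Nat.card K = Nat.card N * N₀.index := by
    have h1 : Nat.card N = Nat.card N₀ :=
      Subgroup.card_map_of_injective K.subtype_injective
    rw [h1]; exact (Subgroup.card_mul_index N₀).symm
  have hidxN : N.index = N₀.index * K.index := by
    have h1 := Subgroup.relIndex_mul_index hNK
    rw [← h1]
    congr 1
    rw [Subgroup.relIndex]
    have : N.subgroupOf K = N₀ := by
      rw [Subgroup.subgroupOf]
      exact Subgroup.comap_map_eq_self_of_injective K.subtype_injective N₀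
    rw [this]
  have hpow : ∀ g (hg : g ∈ K), g ^ N₀.index ∈ N := by
    intro g hg
    have h1 : (QuotientGroup.mk' N₀ (⟨g, hg⟩ : K)) ^ N₀.index = 1 := by
      have : N₀.index = Nat.card (K ⧸ N₀) := rfl
      rw [this]; exact pow_card_eq_one'
    rw [← map_pow, QuotientGroup.mk'_apply, QuotientGroup.eq_one_iff] at h1
    exact ⟨_, h1, by simp⟩
  by_cases h2r : N₀.index = 2
  · -- index two
    exfalso
    obtain ⟨k, hk⟩ := h.hm
    have hgK : ∀ s ∈ S, s ∈ K := fun s hs => hSK hs
    let u : G := (a ^ 2 ^ k) ^ 2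
    have hu : u = a ^ 2 ^ (k + 1) := by
      show (a ^ 2 ^ k) ^ 2 = _
      rw [← pow_mul, pow_succ]
    have huN : u ∈ N := by
      have := hpow (a ^ 2 ^ k) (K.pow_mem (hgK a h.haS) _)
      rwa [h2r] at this
    have huS : u ∈ S := S.pow_mem (S.pow_mem h.haS _) _
    have huo : orderOf u = 4 := by
      rw [hu, orderOf_pow_of_dvd (by positivity) (by
        rw [h.ha, hk]; exact ⟨2 ^ 2, by ring⟩), h.ha, hk]
      have : 2 * 2 ^ (k + 2) = 2 ^ (k + 1) * 4 := by ring
      rw [this, Nat.mul_div_cancel_left _ (by positivity)]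
    have hconjN : ∀ v, v ∈ S → orderOf v = 4 → v ∈ N := by
      intro v hv hvo
      obtain ⟨g, hg, hgv⟩ := hconj v u hv huS hvo huo
      have h1 : zpowers u ≤ N := (Subgroup.zpowers_le).mpr huN
      exact hNn' g hg v (hgK v hv) (h1 hgv)
    have hxN : x ∈ N := hconjN x h.hxS (QData.orderOf_eq_four_of_not_mem h h.hxS (QData.x_not_mem h))
    have hxa : x * a ∉ zpowers a := by
      intro h1
      apply QData.x_not_mem h
      have h2 : x = (x * a) * a⁻¹ := by group
      rw [h2]
      exact mul_mem h1 (inv_mem (mem_zpowers a))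
    have hxaN : x * a ∈ N := hconjN (x * a) (mul_mem h.hxS h.haS)
      (QData.orderOf_eq_four_of_not_mem h (mul_mem h.hxS h.haS) hxa)
    have haN : a ∈ N := by
      have h2 : a = x⁻¹ * (x * a) := by group
      rw [h2]
      exact mul_mem (inv_mem hxN) hxaN
    have hzN : zpowers a ≤ N := (Subgroup.zpowers_le).mpr haN
    have hSN : S ≤ N := by
      intro s hs
      rcases h.hS s hs with h1 | ⟨b, hb, rfl⟩
      · exact hzN h1
      · exact mul_mem hxN (hzN hb)
    apply hi
    have h3 := Subgroup.relIndex_mul_index hSN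
    rw [← h3, hidxN, h2r]
    exact Dvd.dvd.mul_left (Dvd.intro _ rfl) _
  · -- odd prime index
    have hSN : S ≤ N := by
      intro s hs
      obtain ⟨t, ht⟩ := hS2 ⟨s, hs⟩
      have ht' : s ^ 2 ^ t = 1 := by
        have := congrArg Subtype.val ht
        simpa using this
      have h1 : (QuotientGroup.mk' N₀ (⟨s, hSK hs⟩ : K)) ^ 2 ^ t = 1 := by
        rw [← map_pow]
        have : (⟨s, hSK hs⟩ : K) ^ 2 ^ t = 1 := Subtype.ext (by simpa using ht')
        rw [this, map_one]
      have h2 : (QuotientGroup.mk' N₀ (⟨s, hSK hs⟩ : K)) ^ N₀.index = 1 := by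
        have : N₀.index = Nat.card (K ⧸ N₀) := rfl
        rw [this]; exact pow_card_eq_one'
      have h3 := orderOf_dvd_of_pow_eq_one h1
      have h4 := orderOf_dvd_of_pow_eq_one h2
      have hcop : Nat.Coprime (2 ^ t) N₀.index := by
        apply Nat.Coprime.pow_left
        exact (Nat.coprime_primes Nat.prime_two hr).mpr (Ne.symm h2r)
      have h5 := Nat.eq_one_of_dvd_coprimes hcop h3 h4
      rw [orderOf_eq_one_iff, QuotientGroup.mk'_apply, QuotientGroup.eq_one_iff] at h5
      exact ⟨_, h5, rfl⟩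
    have hlt : Nat.card N < Nat.card K := by
      rw [hcardK]
      have := hr.one_lt
      have h0 : 0 < Nat.card N := Nat.card_pos
      nlinarith
    refine ih _ hlt N rfl hSN ?_
    intro u v hu hv huo hvo
    obtain ⟨g, hg, hgv⟩ := hconj u v hu hv huo hvo
    have hindex : ¬ 2 ∣ S.relIndex N := by
      intro hd
      apply hi
      rw [← Subgroup.relIndex_mul_index hSN]
      exact Dvd.dvd.mul_right hd _
    have hsyl : SylowIn 2 S N := ⟨hSN, hS2, hindex⟩
    have hle : conjS g S ≤ N := by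
      rintro _ ⟨s, hs, rfl⟩
      exact hNn g hg s (hSN hs)
    have hsyl' : SylowIn 2 (conjS g S) N :=
      hsyl.of_card_eq hle (isPGroup_conjS g hS2) (card_conjS g S).symm
    obtain ⟨c, hcN, hc⟩ := hsyl.exists_conj_eq hsyl'
    let t : G := c⁻¹ * g
    have ht : t ∈ normalizer (S : Set G) := by
      rw [mem_normalizer_iff_conjS]
      show conjS (c⁻¹ * g) S = S
      rw [conjS_mul, ← hc, conjS_inv_conjS]
    obtain ⟨b, d, htbd, -, h2b, hd, hbz, hdz⟩ :=
      Cfsg.Agent.Lib.Transfer.exists_parts Nat.prime_two t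
    have hzt : zpowers t ≤ normalizer (S : Set G) := (Subgroup.zpowers_le).mpr ht
    have hbS : b ∈ S := two_elem_mem hS2 hi (hzt hbz) h2b
    have hdodd : Odd (orderOf d) := Nat.coprime_two_right.mp hd
    have hdc := QData.odd_centralizes h (hzt hdz) hdodd u hu
    refine ⟨c * b, mul_mem hcN (hSN hbS), ?_⟩
    have hg' : g = c * b * d := by
      calc g = c * t := by show g = c * (c⁻¹ * g); group
        _ = c * (b * d) := by rw [htbd]
        _ = c * b * d := by group
    have : c * b * u * (c * b)⁻¹ = g * u * g⁻¹ := by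
      rw [hg']
      calc c * b * u * (c * b)⁻¹ = c * b * (d * u * d⁻¹) * (c * b)⁻¹ := by rw [hdc]
        _ = c * b * d * u * (c * b * d)⁻¹ := by group
    rw [this]
    exact hgv

end Cfsg.Agent.Lib.PGroup.ConjAb
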