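import Mathlib
import Cfsg.Agent.Lib.PGroup.ConjAbQ
import Cfsg.Agent.Lib.Core.MinNormal
import Cfsg.Agent.Lib.Core.MinNormal2
import Cfsg.Agent.Lib.Core.Basic
import Cfsg.Agent.Lib.PGroup.Sylow
import Cfsg.Agent.S0016

/-!
# Quotients of solvable groups whose abelian subgroups of equal order are conjugate
-/

set_option autoImplicit false

namespace Cfsg.Agent.Lib.PGroup.ConjAb

open Subgroup Cfsg.Agent.Lib.BS Cfsg.Agent.Lib.Techniques

universe u

variable {G : Type u} [Group G]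

/-- The three shapes of a minimal normal `q`-subgroup. -/
def MinCase (q : ℕ) (M : Subgroup G) : Prop :=
  (∀ S : Subgroup G, IsPGroup q S → S ≤ M) ∨
  (Nat.card M = q ∧ ∀ S : Subgroup G, IsPGroup q S → IsCyclic S) ∨
  (q = 2 ∧ Nat.card M = 2 ∧ ∀ S : Subgroup G, IsPGroup 2 S → Nat.card S ≤ 8)

theorem exists_conj_le_sylow [Finite G] {q : ℕ} [Fact q.Prime] (P : Sylow q G) {S : Subgroup G}
    (hS : IsPGroup q S) : ∃ g : G, conjS g S ≤ P := by
  obtain ⟨g, -, hg⟩ := (sylowIn_top_of_sylow P).exists_conj_le le_top hS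
  exact ⟨g, hg⟩

theorem isPGroup_zpowers_of_pow {q : ℕ} {x : G} (hx : x ^ q = 1) : IsPGroup q (zpowers x) := by
  intro c
  obtain ⟨c, hc⟩ := c
  refine ⟨1, Subtype.ext ?_⟩
  obtain ⟨i, rfl⟩ := mem_zpowers_iff.mp hc
  show (x ^ i) ^ q ^ 1 = 1
  rw [pow_one, ← zpow_natCast, ← zpow_mul, mul_comm, zpow_mul, zpow_natCast, hx, one_zpow]

theorem min_case [Finite G] (hB : HB G) (hs : Group.IsSolvable G) (M : Subgroup G) [hMn : M.Normal]
    (hM : M ≠ ⊥) (hmin : ∀ N : Subgroup G, N.Normal → N ≤ M → N = ⊥ ∨ N = M) :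
    ∃ q : ℕ, q.Prime ∧ IsMulCommutative M ∧ (∀ x ∈ M, x ^ q = 1) ∧ MinCase q M := by
  classical
  obtain ⟨hcomm, q, hq, hexp⟩ := Cfsg.Agent.Lib.Core.minimal_normal_elementary M hM hmin
  refine ⟨q, hq, hcomm, hexp, ?_⟩
  haveI : Fact q.Prime := ⟨hq⟩
  have hMp : IsPGroup q M := fun x => ⟨1, Subtype.ext (by simpa using hexp x x.2)⟩
  obtain ⟨P⟩ : Nonempty (Sylow q G) := inferInstance
  have hMP : M ≤ P :=
    (Cfsg.Agent.Lib.Core.le_pCore hMn hMp).trans (Cfsg.Agent.Lib.Core.pCore_le_sylow P)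
  obtain ⟨⟨w, hwM⟩, hw1⟩ := Subgroup.ne_bot_iff_exists_ne_one.mp hM
  have hw1' : w ≠ 1 := fun h => hw1 (Subtype.ext h)
  have hwo : orderOf w = q := orderOf_eq_prime (hexp w hwM) hw1'
  have hall : ∀ y : G, orderOf y = q → y ∈ M := by
    intro y hy
    obtain ⟨g, hg⟩ := hB (zpowers w) (zpowers y) (isMulCommutative_zpowers w)
      (isMulCommutative_zpowers y) (by rw [Nat.card_zpowers, Nat.card_zpowers, hwo, hy])
    have h1 : y ∈ (zpowers w).map (MulAut.conj g).toMonoidHom := hg ▸ mem_zpowers y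
    obtain ⟨c, hc, hcy⟩ := h1
    rw [← hcy]
    have h2 : c ∈ M := (Subgroup.zpowers_le.mpr hwM) hc
    exact hMn.conj_mem c h2 g
  rcases sylow_dichotomy hB q (P : Subgroup G) P.isPGroup' with h | h
  · left
    have hPM : (P : Subgroup G) ≤ M := by
      intro x hx
      by_cases hx1 : x = 1
      · rw [hx1]; exact one_mem _
      · exact hall x (orderOf_eq_prime (h x hx) hx1)
    have hPn : (P : Subgroup G).Normal := by
      have : (P : Subgroup G) = M := le_antisymm hPM hMP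
      rw [this]; exact hMn
    intro S hS
    exact (Cfsg.Agent.Lib.PGroup.le_sylow_of_sylow_normal P hS).trans hPM
  · right
    have hMcard : Nat.card M = q := by
      have hMz : M = zpowers w := by
        apply le_antisymm _ (Subgroup.zpowers_le.mpr hwM)
        intro m hm
        by_cases hm1 : m = 1
        · rw [hm1]; exact one_mem _
        have hmo : orderOf m = q := orderOf_eq_prime (hexp m hm) hm1
        let m' : (P : Subgroup G) := ⟨m, hMP hm⟩
        let w' : (P : Subgroup G) := ⟨w, hMP hwM⟩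
        have h1 : zpowers m' = zpowers w' := by
          apply h
          · rw [Nat.card_zpowers, Subgroup.orderOf_mk, hmo]
          · rw [Nat.card_zpowers, Subgroup.orderOf_mk, hwo]
        have h2 : m' ∈ zpowers w' := h1 ▸ mem_zpowers m'
        obtain ⟨i, hi⟩ := mem_zpowers_iff.mp h2
        have h3 : w ^ i = m := congrArg Subtype.val hi
        rw [← h3]
        exact Subgroup.zpow_mem _ (mem_zpowers w) i
      rw [hMz, Nat.card_zpowers, hwo]
    rcases Cfsg.Agent.S0016.result q P.isPGroup' h with hc | ⟨rfl, n, ⟨e⟩⟩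
    · left
      refine ⟨hMcard, fun S hS => ?_⟩
      obtain ⟨g, hg⟩ := exists_conj_le_sylow P hS
      let f : S →* (P : Subgroup G) :=
        (Subgroup.inclusion hg).comp ((MulAut.conj g).toMonoidHom.subgroupMap S)
      have hf : Function.Injective f := by
        apply Function.Injective.comp (Subgroup.inclusion_injective hg)
        intro a b hab
        have : (MulAut.conj g).toMonoidHom (a : G) = (MulAut.conj g).toMonoidHom (b : G) :=
          congrArg Subtype.val hab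
        exact Subtype.ext ((MulAut.conj g).injective this)
      exact isCyclic_of_injective f hf
    · right
      refine ⟨rfl, hMcard, ?_⟩
      have hPcard : Nat.card P ≤ 8 := by
        rcases n with _ | _ | n
        · have : Nat.card P = 4 := by
            rw [Nat.card_congr e.toEquiv, Nat.card_eq_fintype_card, QuaternionGroup.card]; rfl
          omega
        · have : Nat.card P = 8 := by
            rw [Nat.card_congr e.toEquiv, Nat.card_eq_fintype_card, QuaternionGroup.card]; rfl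
          omega
        · exfalso
          have hQ := QData.of_equiv (P : Subgroup G) e
          refine quat_excl hs P.isPGroup' P.not_dvd_index hQ ⊤ le_top ?_
          intro u v _ _ huo hvo
          obtain ⟨g, hg⟩ := hB (zpowers u) (zpowers v) (isMulCommutative_zpowers u)
            (isMulCommutative_zpowers v) (by rw [Nat.card_zpowers, Nat.card_zpowers, huo, hvo])
          refine ⟨g, mem_top g, ?_⟩
          rw [hg]
          exact ⟨u, mem_zpowers u, rfl⟩
      intro S hS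
      obtain ⟨g, hg⟩ := exists_conj_le_sylow P hS
      calc Nat.card S = Nat.card (conjS g S) := (card_conjS g S).symm
        _ ≤ Nat.card P := Subgroup.card_le_of_le hg
        _ ≤ 8 := hPcard

/-- The decomposition of an abelian-by-`M` subgroup. -/
theorem decomp [Finite G] {q : ℕ} [hq : Fact q.Prime] {M A : Subgroup G} [hMn : M.Normal]
    (hMp : IsPGroup q M) (hMA : M ≤ A) (hcomm : ∀ a ∈ A, ∀ b ∈ A, a * b * a⁻¹ * b⁻¹ ∈ M) :
    ∃ S H : Subgroup G, S ≤ A ∧ H ≤ A ∧ M ≤ S ∧ IsPGroup q S ∧ ¬ q ∣ Nat.card H ∧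
      IsMulCommutative H ∧ S ⊔ H = A ∧ Nat.card S * Nat.card H = Nat.card A := by
  classical
  obtain ⟨P⟩ : Nonempty (Sylow q A) := inferInstance
  let M' : Subgroup A := M.subgroupOf A
  haveI hM'n : M'.Normal := inferInstance
  have hM'p : IsPGroup q M' := hMp.of_equiv (Subgroup.subgroupOfEquivOfLe hMA).symm
  have hM'P : M' ≤ P :=
    (Cfsg.Agent.Lib.Core.le_pCore hM'n hM'p).trans (Cfsg.Agent.Lib.Core.pCore_le_sylow P)
  haveI hPn : (P : Subgroup A).Normal := by
    constructor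
    intro s hs g
    have h1 : g * s * g⁻¹ * s⁻¹ ∈ M' := hcomm g g.2 s s.2
    have h2 : g * s * g⁻¹ = (g * s * g⁻¹ * s⁻¹) * s := by group
    rw [h2]
    exact mul_mem (hM'P h1) hs
  obtain ⟨H₀, hc⟩ := Subgroup.exists_right_complement'_of_coprime (N := (P : Subgroup A))
    (Sylow.card_coprime_index P)
  have hcard := hc.card_mul
  have hH₀ : ¬ q ∣ Nat.card H₀ := by
    have h1 := Subgroup.card_mul_index (P : Subgroup A)
    have h2 : Nat.card H₀ = (P : Subgroup A).index := by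
      have h3 : 0 < Nat.card P := Nat.card_pos
      have h4 : Nat.card P * Nat.card H₀ = Nat.card P * (P : Subgroup A).index := by
        rw [hcard, h1]
      exact Nat.eq_of_mul_eq_mul_left h3 h4
    rw [h2]
    exact P.not_dvd_index
  refine ⟨(P : Subgroup A).map A.subtype, H₀.map A.subtype, Subgroup.map_subtype_le _,
    Subgroup.map_subtype_le _, ?_, P.isPGroup'.map _, ?_, ?_, ?_, ?_⟩
  · intro m hm
    exact ⟨⟨m, hMA hm⟩, hM'P hm, rfl⟩
  · rwa [Subgroup.card_map_of_injective A.subtype_injective]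
  · refine isMulCommutative_of_comm ?_
    rintro _ ⟨a, ha, rfl⟩ _ ⟨b, hb, rfl⟩
    have h1 : a * b * a⁻¹ * b⁻¹ ∈ M' := hcomm a a.2 b b.2
    have h2 : a * b * a⁻¹ * b⁻¹ ∈ H₀ := mul_mem (mul_mem (mul_mem ha hb) (inv_mem ha)) (inv_mem hb)
    have h3 : a * b * a⁻¹ * b⁻¹ ∈ (P : Subgroup A) ⊓ H₀ := Subgroup.mem_inf.mpr ⟨hM'P h1, h2⟩
    rw [hc.disjoint.eq_bot, Subgroup.mem_bot] at h3
    have h4 : a * b = b * a := by
      have h5 : a * b = (a * b * a⁻¹ * b⁻¹) * (b * a) := by group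
      rw [h5, h3, one_mul]
    rw [← map_mul, ← map_mul, h4]
  · rw [← Subgroup.map_sup, hc.sup_eq_top, ← MonoidHom.range_eq_map, Subgroup.range_subtype]
  · rw [Subgroup.card_map_of_injective A.subtype_injective,
      Subgroup.card_map_of_injective A.subtype_injective]
    exact hcard

/-- A commutator step: an element of order prime to `q` centralizing `M` and centralizing `S`
modulo `M` centralizes `S`. -/
theorem comm_of_step [Finite G] {q : ℕ} [hq : Fact q.Prime] {M S : Subgroup G} {h : G}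
    (hexp : ∀ x ∈ M, x ^ q = 1) (hhq : ¬ q ∣ orderOf h) (hcm : ∀ m ∈ M, h * m * h⁻¹ = m)
    (hc : ∀ s ∈ S, h * s * h⁻¹ * s⁻¹ ∈ M) : ∀ s ∈ S, h * s = s * h := by
  intro s hs
  have hm := hc s hs
  obtain ⟨m, hmdef⟩ : ∃ m, m = h * s * h⁻¹ * s⁻¹ := ⟨_, rfl⟩
  rw [← hmdef] at hm
  have h1 : h * s * h⁻¹ = m * s := by rw [hmdef]; group
  have hiter : ∀ n : ℕ, h ^ n * s * (h ^ n)⁻¹ = m ^ n * s := by
    intro n
    induction n with
    | zero => simp
    | succ n ih =>
      calc h ^ (n + 1) * s * (h ^ (n + 1))⁻¹ = h * (h ^ n * s * (h ^ n)⁻¹) * h⁻¹ := by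
            rw [pow_succ', mul_inv_rev]; group
        _ = h * (m ^ n * s) * h⁻¹ := by rw [ih]
        _ = (h * m ^ n * h⁻¹) * (h * s * h⁻¹) := by group
        _ = m ^ n * (m * s) := by rw [hcm _ (pow_mem hm n), h1]
        _ = m ^ (n + 1) * s := by rw [pow_succ, mul_assoc]
  have h2 := hiter (orderOf h)
  rw [pow_orderOf_eq_one] at h2
  have h3 : m ^ orderOf h = 1 := by
    have : s = m ^ orderOf h * s := by simpa using h2
    exact (mul_eq_right.mp this.symm)
  have h4 : orderOf m ∣ orderOf h := orderOf_dvd_of_pow_eq_one h3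
  have h5 : orderOf m ∣ q := orderOf_dvd_of_pow_eq_one (hexp m hm)
  have h6 : orderOf m = 1 := by
    rcases (Nat.dvd_prime hq.out).mp h5 with h7 | h7
    · exact h7
    · rw [h7] at h4; exact absurd h4 hhq
  rw [orderOf_eq_one_iff] at h6
  rw [h6, one_mul] at h1
  calc h * s = h * s * h⁻¹ * h := by group
    _ = s * h := by rw [h1]

/-- In a cyclic `q`-group of order bigger than `q`, an element `h` centralizing the group modulo
the elements of exponent `q` centralizes those elements. -/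
theorem comm_of_cyclic [Finite G] {q : ℕ} [hq : Fact q.Prime] {M S : Subgroup G} {h : G}
    (hMS : M ≤ S) (hexp : ∀ x ∈ M, x ^ q = 1) (hSc : IsCyclic S) (hSp : IsPGroup q S)
    (hlt : q < Nat.card S) (hc : ∀ s ∈ S, h * s * h⁻¹ * s⁻¹ ∈ M) :
    ∀ m ∈ M, h * m * h⁻¹ = m := by
  classical
  obtain ⟨⟨s, hsS⟩, hgen⟩ := hSc.exists_generator
  obtain ⟨j, hj⟩ := IsPGroup.iff_card.mp hSp
  have hso : orderOf s = q ^ j := by
    have : orderOf (⟨s, hsS⟩ : S) = Nat.card S := orderOf_eq_card_of_forall_mem_zpowers hgen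
    rw [Subgroup.orderOf_mk] at this
    rw [this, hj]
  have hj2 : 2 ≤ j := by
    by_contra hlt2
    have hj1 : j ≤ 1 := by omega
    have h1 : q ^ j ≤ q ^ 1 := Nat.pow_le_pow_right hq.out.pos hj1
    rw [← hj, pow_one] at h1
    omega
  obtain ⟨i, rfl⟩ : ∃ i, j = i + 2 := ⟨j - 2, by omega⟩
  let c : ℕ := q ^ (i + 1)
  let w : G := s ^ c
  have hm : h * s * h⁻¹ * s⁻¹ ∈ M := hc s hsS
  obtain ⟨t, htdef⟩ : ∃ t, t = h * s * h⁻¹ * s⁻¹ := ⟨_, rfl⟩
  rw [← htdef] at hm
  have h1 : h * s * h⁻¹ = t * s := by rw [htdef]; group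
  have htS : t ∈ S := hMS hm
  have hts : Commute t s := by
    letI := IsCyclic.commGroup (α := S)
    have : (⟨t, htS⟩ : S) * ⟨s, hsS⟩ = ⟨s, hsS⟩ * ⟨t, htS⟩ := mul_comm _ _
    exact congrArg Subtype.val this
  have htq : t ^ c = 1 := by
    show t ^ q ^ (i + 1) = 1
    rw [pow_succ, mul_comm, pow_mul, hexp t hm, one_pow]
  have hw : h * w * h⁻¹ = w := by
    show h * s ^ c * h⁻¹ = s ^ c
    rw [← conj_pow, h1, hts.mul_pow, htq, one_mul]
  intro m hmM
  have hmS := hMS hmM
  obtain ⟨n, hn⟩ : ∃ n : ℕ, s ^ n = m := by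
    have h2 : (⟨m, hmS⟩ : S) ∈ Subgroup.zpowers (⟨s, hsS⟩ : S) := hgen _
    rw [← mem_powers_iff_mem_zpowers] at h2
    obtain ⟨n, hn⟩ := h2
    exact ⟨n, congrArg Subtype.val hn⟩
  have h3 : s ^ (n * q) = 1 := by
    rw [pow_mul, hn]; exact hexp m hmM
  have h4 : q ^ (i + 2) ∣ n * q := by
    rw [← hso]; exact orderOf_dvd_of_pow_eq_one h3
  have h5 : c ∣ n := by
    have : q ^ (i + 1) * q ∣ n * q := by rwa [← pow_succ]
    exact Nat.dvd_of_mul_dvd_mul_right hq.out.pos this
  obtain ⟨e, rfl⟩ := h5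
  have h6 : m = w ^ e := by
    rw [← hn, pow_mul]
  rw [h6, ← conj_pow, hw]

theorem normal_two_central {M : Subgroup G} [hMn : M.Normal] (hc : Nat.card M = 2) :
    ∀ g : G, ∀ m ∈ M, g * m * g⁻¹ = m := by
  intro g m hm
  by_cases hm1 : m = 1
  · rw [hm1]; group
  have h1 : g * m * g⁻¹ ∈ M := hMn.conj_mem m hm g
  by_contra hne
  obtain ⟨a, b, hab, hall⟩ := Nat.card_eq_two_iff.mp hc
  have hx : (⟨m, hm⟩ : M) ≠ 1 := fun h => hm1 (congrArg Subtype.val h)
  have hy : (⟨g * m * g⁻¹, h1⟩ : M) ≠ 1 := by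
    intro h
    apply hm1
    have h2 : g * m * g⁻¹ = 1 := congrArg Subtype.val h
    have h3 : m = g⁻¹ * (g * m * g⁻¹) * g := by group
    rw [h3, h2]; group
  have h2 : (⟨m, hm⟩ : M) = ⟨g * m * g⁻¹, h1⟩ := by
    have hset : ∀ z : M, z = a ∨ z = b := fun z => by
      have : z ∈ ({a, b} : Set M) := by rw [hall]; trivial
      simpa using this
    rcases hset 1 with ha | hb <;> rcases hset ⟨m, hm⟩ with hma | hmb <;>
      rcases hset ⟨g * m * g⁻¹, h1⟩ with hya | hyb
    · exact hma.trans hya.symm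
    · exact absurd (hma.trans ha.symm) hx
    · exact absurd (hya.trans ha.symm) hy
    · exact hmb.trans hyb.symm
    · exact hma.trans hya.symm
    · exact absurd (hyb.trans hb.symm) hy
    · exact absurd (hmb.trans hb.symm) hx
    · exact hmb.trans hyb.symm
  exact hne (congrArg Subtype.val h2).symm

theorem isMulCommutative_sup {S H : Subgroup G} (hS : IsMulCommutative S) (hH : IsMulCommutative H)
    (hSH : ∀ s ∈ S, ∀ h ∈ H, s * h = h * s) : IsMulCommutative (S ⊔ H : Subgroup G) := by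
  refine isMulCommutative_of_comm ?_
  intro a ha b hb
  have h2 : S ⊔ H ≤ centralizer ((S : Set G) ∪ H) := by
    apply sup_le
    · intro s hs
      rw [Subgroup.mem_centralizer_iff]
      rintro y (hy | hy)
      · exact comm_of_isMulCommutative hS hy hs
      · exact (hSH s hs y hy).symm
    · intro h hh
      rw [Subgroup.mem_centralizer_iff]
      rintro y (hy | hy)
      · exact hSH y hy h hh
      · exact comm_of_isMulCommutative hH hy hh
  have h4 := Subgroup.mem_centralizer_iff.mp (h2 ha)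
  have h5 : S ⊔ H ≤ centralizer ({a} : Set G) := by
    apply sup_le
    · intro s hs
      rw [Subgroup.mem_centralizer_iff]
      intro y hy
      rw [Set.mem_singleton_iff.mp hy]
      exact (h4 s (Or.inl hs)).symm
    · intro s hs
      rw [Subgroup.mem_centralizer_iff]
      intro y hy
      rw [Set.mem_singleton_iff.mp hy]
      exact (h4 s (Or.inr hs)).symm
  exact Subgroup.mem_centralizer_iff.mp (h5 hb) a rfl

/-- Assembling the conjugation. -/
theorem conj_assemble {S₁ H₁ S₂ H₂ A B : Subgroup G} (hA : S₁ ⊔ H₁ = A) (hB : S₂ ⊔ H₂ = B) {g c : G}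
    (h1 : H₂ = conjS g H₁) (h2 : S₂ = conjS c (conjS g S₁)) (h3 : conjS c H₂ = H₂) :
    ∃ x : G, B = A.map (MulAut.conj x).toMonoidHom := by
  refine ⟨c * g, ?_⟩
  show B = conjS (c * g) A
  rw [conjS_mul, ← hA, ← hB]
  show S₂ ⊔ H₂ = conjS c (conjS g (S₁ ⊔ H₁))
  have e1 : conjS g (S₁ ⊔ H₁) = conjS g S₁ ⊔ conjS g H₁ := Subgroup.map_sup _ _ _
  rw [e1]
  have e2 : conjS c (conjS g S₁ ⊔ conjS g H₁) = conjS c (conjS g S₁) ⊔ conjS c (conjS g H₁) :=
    Subgroup.map_sup _ _ _
  rw [e2, ← h2, ← h1, h3]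

theorem card_eq_of_mul_eq {q a b c d : ℕ} (hq : q.Prime) (ha : ∃ i, a = q ^ i) (hc : ∃ i, c = q ^ i)
    (hb : ¬ q ∣ b) (hd : ¬ q ∣ d) (h : a * b = c * d) : a = c ∧ b = d := by
  obtain ⟨i, rfl⟩ := ha
  obtain ⟨j, rfl⟩ := hc
  have hbpos : 0 < b := Nat.pos_of_ne_zero (fun h0 => hb (h0 ▸ dvd_zero q))
  have hcop1 : Nat.Coprime (q ^ i) d := Nat.Coprime.pow_left _ ((Nat.Prime.coprime_iff_not_dvd hq).mpr hd)
  have hcop2 : Nat.Coprime (q ^ j) b := Nat.Coprime.pow_left _ ((Nat.Prime.coprime_iff_not_dvd hq).mpr hb)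
  have h1 : q ^ i ∣ q ^ j := hcop1.dvd_of_dvd_mul_right (h ▸ Dvd.intro b rfl)
  have h2 : q ^ j ∣ q ^ i := hcop2.dvd_of_dvd_mul_right (h.symm ▸ Dvd.intro d rfl)
  have h3 : q ^ i = q ^ j := Nat.dvd_antisymm h1 h2
  refine ⟨h3, ?_⟩
  rw [h3] at h
  exact Nat.eq_of_mul_eq_mul_left (pow_pos hq.pos j) h

/-- Small `2`-groups are abelian. -/
theorem abelian_of_card_lt {S : Subgroup G} [Finite G] (hS : IsPGroup 2 S) (hc : Nat.card S < 8) :
    IsMulCommutative S := by
  haveI : Fact (Nat.Prime 2) := ⟨Nat.prime_two⟩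
  obtain ⟨j, hj⟩ := IsPGroup.iff_card.mp hS
  have hj2 : j < 3 := by
    by_contra hge
    have : 2 ^ 3 ≤ 2 ^ j := Nat.pow_le_pow_right (by norm_num) (by omega)
    rw [← hj] at this
    omega
  interval_cases j
  · have : Subsingleton S := by
      rw [pow_zero] at hj
      exact (Nat.card_eq_one_iff_unique.mp hj).1
    exact ⟨⟨fun a b => Subsingleton.elim _ _⟩⟩
  · haveI : IsCyclic S := isCyclic_of_prime_card (p := 2) (by simpa using hj)
    letI := IsCyclic.commGroup (α := S)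
    exact ⟨⟨mul_comm⟩⟩
  · exact IsPGroup.isMulCommutative_of_card_eq_prime_sq (p := 2) hj

/-- **The key conjugacy**: subgroups of equal order, abelian modulo a minimal normal subgroup they
contain, are conjugate. -/
theorem conj_of_abelian_mod [Finite G] (hB : HB G) (hs : Group.IsSolvable G) (M : Subgroup G)
    [hMn : M.Normal] (hM : M ≠ ⊥) (hmin : ∀ N : Subgroup G, N.Normal → N ≤ M → N = ⊥ ∨ N = M)
    {A B : Subgroup G} (hMA : M ≤ A) (hMB : M ≤ B)
    (hAc : ∀ a ∈ A, ∀ b ∈ A, a * b * a⁻¹ * b⁻¹ ∈ M) (hBc : ∀ a ∈ B, ∀ b ∈ B, a * b * a⁻¹ * b⁻¹ ∈ M)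
    (hcard : Nat.card A = Nat.card B) : ∃ x : G, B = A.map (MulAut.conj x).toMonoidHom := by
  classical
  obtain ⟨q, hq, hMab, hexp, hcase⟩ := min_case hB hs M hM hmin
  haveI : Fact q.Prime := ⟨hq⟩
  have hMp : IsPGroup q M := fun x => ⟨1, Subtype.ext (by simpa using hexp x x.2)⟩
  obtain ⟨S₁, H₁, hS₁A, hH₁A, hMS₁, hS₁p, hH₁q, hH₁c, hA, hA'⟩ := decomp hMp hMA hAc
  obtain ⟨S₂, H₂, hS₂B, hH₂B, hMS₂, hS₂p, hH₂q, hH₂c, hB₂, hB'⟩ := decomp hMp hMB hBc
  obtain ⟨hSS, hHH⟩ := card_eq_of_mul_eq hq (IsPGroup.iff_card.mp hS₁p) (IsPGroup.iff_card.mp hS₂p)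
    hH₁q hH₂q (by rw [hA', hB', hcard])
  obtain ⟨g, hg⟩ := hB H₁ H₂ hH₁c hH₂c hHH
  -- the easy situation
  have heasy : S₁ = M → S₂ = M → ∃ x : G, B = A.map (MulAut.conj x).toMonoidHom := by
    intro h1 h2
    refine conj_assemble (g := g) (c := 1) hA hB₂ hg ?_ (conjS_one _)
    rw [conjS_one, h1, h2]
    ext y
    rw [mem_conjS]
    constructor
    · intro hy
      have := hMn.conj_mem y hy g⁻¹
      simpa using this
    · intro hy
      have := hMn.conj_mem _ hy g
      have e : g * (g⁻¹ * y * g) * g⁻¹ = y := by group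
      rwa [e] at this
  rcases hcase with hall | ⟨hMq, hcyc⟩ | ⟨rfl, hMq, hle⟩
  · exact heasy (le_antisymm (hall _ hS₁p) hMS₁) (le_antisymm (hall _ hS₂p) hMS₂)
  · -- cyclic Sylow subgroups
    by_cases hSq : Nat.card S₁ = Nat.card M
    · have h1 : S₁ = M := (Subgroup.eq_of_le_of_card_ge hMS₁ (by rw [hSq]))  |>.symm
      have h2 : S₂ = M := (Subgroup.eq_of_le_of_card_ge hMS₂ (by rw [← hSS, hSq])) |>.symm
      exact heasy h1 h2
    · have hlt₁ : q < Nat.card S₁ := by
        rw [← hMq]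
        exact lt_of_le_of_ne (Subgroup.card_le_of_le hMS₁) (Ne.symm hSq)
      have hlt₂ : q < Nat.card S₂ := hSS ▸ hlt₁
      have hcomm : ∀ {X Y C : Subgroup G}, IsPGroup q X → q < Nat.card X → M ≤ X → X ≤ C → Y ≤ C →
          ¬ q ∣ Nat.card Y → (∀ a ∈ C, ∀ b ∈ C, a * b * a⁻¹ * b⁻¹ ∈ M) →
          ∀ s ∈ X, ∀ h ∈ Y, s * h = h * s := by
        intro X Y C hXp hlt hMX hXC hYC hYq hCc s hs h hh
        have hhq : ¬ q ∣ orderOf h := fun hd => hYq (hd.trans (Subgroup.orderOf_dvd_natCard Y hh))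
        have hc : ∀ s ∈ X, h * s * h⁻¹ * s⁻¹ ∈ M := fun s hs => hCc h (hYC hh) s (hXC hs)
        have hcm := comm_of_cyclic hMX hexp (hcyc X hXp) hXp hlt hc
        exact (comm_of_step hexp hhq hcm hc s hs).symm
      have habX : ∀ X : Subgroup G, IsPGroup q X → IsMulCommutative X := by
        intro X hX
        haveI := hcyc X hX
        letI := IsCyclic.commGroup (α := X)
        exact ⟨⟨mul_comm⟩⟩
      have hAab : IsMulCommutative A := by
        rw [← hA]
        exact isMulCommutative_sup (habX _ hS₁p) hH₁c (hcomm hS₁p hlt₁ hMS₁ hS₁A hH₁A hH₁q hAc)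
      have hBab : IsMulCommutative B := by
        rw [← hB₂]
        exact isMulCommutative_sup (habX _ hS₂p) hH₂c (hcomm hS₂p hlt₂ hMS₂ hS₂B hH₂B hH₂q hBc)
      exact hB A B hAab hBab hcard
  · -- `q = 2`
    have hcomm : ∀ {X Y C : Subgroup G}, X ≤ C → Y ≤ C →
        ¬ 2 ∣ Nat.card Y → (∀ a ∈ C, ∀ b ∈ C, a * b * a⁻¹ * b⁻¹ ∈ M) →
        ∀ s ∈ X, ∀ h ∈ Y, s * h = h * s := by
      intro X Y C hXC hYC hYq hCc s hs h hh
      have hhq : ¬ 2 ∣ orderOf h := fun hd => hYq (hd.trans (Subgroup.orderOf_dvd_natCard Y hh))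
      have hc : ∀ s ∈ X, h * s * h⁻¹ * s⁻¹ ∈ M := fun s hs => hCc h (hYC hh) s (hXC hs)
      have hcm := normal_two_central hMq h
      exact (comm_of_step hexp hhq hcm hc s hs).symm
    have hcomm₁ := hcomm hS₁A hH₁A hH₁q hAc
    have hcomm₂ := hcomm hS₂B hH₂B hH₂q hBc
    by_cases hab : IsMulCommutative S₁ ∧ IsMulCommutative S₂
    · have hAab : IsMulCommutative A := by
        rw [← hA]
        exact isMulCommutative_sup hab.1 hH₁c hcomm₁
      have hBab : IsMulCommutative B := by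
        rw [← hB₂]
        exact isMulCommutative_sup hab.2 hH₂c hcomm₂
      exact hB A B hAab hBab hcard
    · have hS8 : Nat.card S₁ = 8 := by
        by_contra hne
        have hlt : Nat.card S₁ < 8 := lt_of_le_of_ne (hle _ hS₁p) hne
        exact hab ⟨abelian_of_card_lt hS₁p hlt, abelian_of_card_lt hS₂p (hSS ▸ hlt)⟩
      let C : Subgroup G := centralizer (H₂ : Set G)
      have hS₂C : S₂ ≤ C := by
        intro s hs
        rw [Subgroup.mem_centralizer_iff]
        intro h hh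
        exact (hcomm₂ s hs h hh).symm
      have hS'C : conjS g S₁ ≤ C := by
        rintro _ ⟨s, hs, rfl⟩
        rw [Subgroup.mem_centralizer_iff]
        intro y hy
        rw [hg] at hy
        obtain ⟨z, hz, rfl⟩ := hy
        show g * z * g⁻¹ * (g * s * g⁻¹) = g * s * g⁻¹ * (g * z * g⁻¹)
        have h1 := hcomm₁ s hs z hz
        calc g * z * g⁻¹ * (g * s * g⁻¹) = g * (z * s) * g⁻¹ := by group
          _ = g * (s * z) * g⁻¹ := by rw [h1]
          _ = _ := by group
      have hsyl : ∀ X : Subgroup G, X ≤ C → IsPGroup 2 X → Nat.card X = 8 → SylowIn 2 X C := by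
        intro X hXC hXp hX8
        obtain ⟨T, hXT, hT⟩ := exists_sylowIn_ge hXC hXp
        have h1 : T = X := (Subgroup.eq_of_le_of_card_ge hXT (by
          rw [hX8]; exact hle T hT.2.1)).symm
        rwa [← h1]
      obtain ⟨c, hcC, hc⟩ := (hsyl _ hS'C (isPGroup_conjS g hS₁p) (by rw [card_conjS, hS8])).exists_conj_eq
        (hsyl _ hS₂C hS₂p (by rw [← hSS, hS8]))
      refine conj_assemble (g := g) (c := c) hA hB₂ hg hc.symm ?_
      ext y
      rw [mem_conjS]
      have hcy : ∀ z ∈ H₂, c * z = z * c := by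
        intro z hz
        exact (Subgroup.mem_centralizer_iff.mp hcC z hz).symm
      constructor
      · intro hy
        have h1 : y = c * (c⁻¹ * y * c) * c⁻¹ := by group
        have h2 := hcy _ hy
        rw [h1, h2]
        have h3 : c⁻¹ * y * c * c * c⁻¹ = c⁻¹ * y * c := by group
        rwa [h3]
      · intro hy
        have h2 := hcy _ hy
        have h3 : c⁻¹ * y * c = y := by
          calc c⁻¹ * y * c = c⁻¹ * (y * c) := by group
            _ = c⁻¹ * (c * y) := by rw [h2]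
            _ = y := by group
        rwa [h3]

/-- Transport along isomorphisms. -/
theorem HB.of_equiv {G' : Type*} [Group G'] (e : G ≃* G') (h : HB G) : HB G' := by
  intro A B hA hB hc
  have hinj : Function.Injective e.symm.toMonoidHom := e.symm.injective
  obtain ⟨g, hg⟩ := h (A.map e.symm.toMonoidHom) (B.map e.symm.toMonoidHom)
    (Subgroup.map_isMulCommutative _ _) (Subgroup.map_isMulCommutative _ _)
    (by rw [Subgroup.card_map_of_injective hinj, Subgroup.card_map_of_injective hinj, hc])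
  refine ⟨e g, ?_⟩
  ext y
  rw [mem_conj_map]
  have h1 : y ∈ B ↔ e.symm y ∈ B.map e.symm.toMonoidHom := by
    constructor
    · intro hy; exact ⟨y, hy, rfl⟩
    · rintro ⟨z, hz, hzy⟩
      have : z = y := e.symm.injective hzy
      rwa [← this]
  have h2 : (e g)⁻¹ * y * e g ∈ A ↔ e.symm ((e g)⁻¹ * y * e g) ∈ A.map e.symm.toMonoidHom := by
    constructor
    · intro hy; exact ⟨_, hy, rfl⟩
    · rintro ⟨z, hz, hzy⟩
      have : z = (e g)⁻¹ * y * e g := e.symm.injective hzy
      rwa [← this]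
  rw [h1, h2, hg, mem_conj_map]
  simp

/-- Quotient by a minimal normal subgroup. -/
theorem hb_quotient_min [Finite G] (hB : HB G) (hs : Group.IsSolvable G) (M : Subgroup G)
    [hMn : M.Normal] (hM : M ≠ ⊥) (hmin : ∀ N : Subgroup G, N.Normal → N ≤ M → N = ⊥ ∨ N = M) :
    HB (G ⧸ M) := by
  classical
  intro A' B' hA' hB' hc
  let π : G →* G ⧸ M := QuotientGroup.mk' M
  have hπ : Function.Surjective π := QuotientGroup.mk'_surjective M
  have hle : ∀ X : Subgroup (G ⧸ M), M ≤ X.comap π := by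
    intro X m hm
    show π m ∈ X
    have : π m = 1 := by
      rw [QuotientGroup.mk'_apply, QuotientGroup.eq_one_iff]; exact hm
    rw [this]; exact one_mem _
  have hcm : ∀ X : Subgroup (G ⧸ M), IsMulCommutative X →
      ∀ a ∈ X.comap π, ∀ b ∈ X.comap π, a * b * a⁻¹ * b⁻¹ ∈ M := by
    intro X hX a ha b hb
    have h1 : π a * π b = π b * π a := comm_of_isMulCommutative hX ha hb
    have h2 : π (a * b * a⁻¹ * b⁻¹) = 1 := by
      rw [map_mul, map_mul, map_mul, map_inv, map_inv, h1]; group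
    rwa [QuotientGroup.mk'_apply, QuotientGroup.eq_one_iff] at h2
  have hcard : Nat.card (A'.comap π) = Nat.card (B'.comap π) := by
    rw [Cfsg.Agent.Lib.Core.card_comap_of_surjective π hπ,
      Cfsg.Agent.Lib.Core.card_comap_of_surjective π hπ, hc]
  obtain ⟨g, hg⟩ := conj_of_abelian_mod hB hs M hM hmin (hle A') (hle B') (hcm A' hA') (hcm B' hB')
    hcard
  refine ⟨π g, ?_⟩
  ext y
  obtain ⟨x, rfl⟩ := hπ y
  rw [mem_conj_map]
  have h1 : π x ∈ B' ↔ x ∈ (B'.comap π) := Iff.rfl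
  rw [h1, hg, mem_conj_map]
  show π (g⁻¹ * x * g) ∈ A' ↔ _
  rw [map_mul, map_mul, map_inv]

/-- **Quotients** inherit the property. -/
theorem hb_quotient [Finite G] (hB : HB G) (hs : Group.IsSolvable G) (M : Subgroup G)
    [hMn : M.Normal] : HB (G ⧸ M) := by
  classical
  induction hn : Nat.card G using Nat.strong_induction_on generalizing G with
  | _ n ih =>
  subst hn
  by_cases hM : M = ⊥
  · subst hM
    exact HB.of_equiv (QuotientGroup.quotientBot.symm) hB
  · obtain ⟨M₀, hM₀n, hM₀, hle, hmin⟩ := Cfsg.Agent.Lib.Core.exists_minimal_normal_le hMn hM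
    haveI := hM₀n
    have hB₀ := hb_quotient_min hB hs M₀ hM₀ hmin
    have hs₀ : Group.IsSolvable (G ⧸ M₀) := inferInstance
    have hlt : Nat.card (G ⧸ M₀) < Nat.card G := by
      have h1 := Subgroup.card_mul_index M₀
      have h2 : 1 < Nat.card M₀ := by
        rw [Subgroup.one_lt_card_iff_ne_bot]; exact hM₀
      have h3 : Nat.card (G ⧸ M₀) = M₀.index := rfl
      rw [h3, ← h1]
      have h4 : 0 < M₀.index := by
        exact Nat.pos_of_ne_zero Subgroup.index_ne_zero_of_finite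
      nlinarith
    haveI : (M.map (QuotientGroup.mk' M₀)).Normal :=
      Subgroup.Normal.map hMn _ (QuotientGroup.mk'_surjective M₀)
    have h1 := ih _ hlt hB₀ hs₀ (M.map (QuotientGroup.mk' M₀)) rfl
    exact HB.of_equiv (QuotientGroup.quotientQuotientEquivQuotient M₀ M hle) h1

end Cfsg.Agent.Lib.PGroup.ConjAb
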