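import Mathlib
import Cfsg.Agent.Lib.PGroup.ConjAbQuot
import Cfsg.Agent.Lib.OddLocal.CN4

/-!
# Non-cyclic Sylow subgroups of exponent `r` are normal (abelian subgroups of equal order conjugate)
-/

set_option autoImplicit false

namespace Cfsg.Agent.Lib.PGroup.ConjAb

open Subgroup Cfsg.Agent.Lib.Techniques

universe u

variable {G : Type u} [Group G]

theorem mem_of_orderOf_eq [Finite G] (hB : HB G) {M : Subgroup G} [hMn : M.Normal] {w y : G}
    (hw : w ∈ M) (ho : orderOf w = orderOf y) : y ∈ M := by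
  obtain ⟨g, hg⟩ := hB (zpowers w) (zpowers y) (isMulCommutative_zpowers w)
    (isMulCommutative_zpowers y) (by rw [Nat.card_zpowers, Nat.card_zpowers, ho])
  have h1 : y ∈ (zpowers w).map (MulAut.conj g).toMonoidHom := hg ▸ mem_zpowers y
  obtain ⟨c, hc, hcy⟩ := h1
  rw [← hcy]
  exact hMn.conj_mem c ((Subgroup.zpowers_le.mpr hw) hc) g

theorem centralizer_singleton_eq_of_zpowers_eq {a b : G} (h : zpowers a = zpowers b) :
    centralizer ({a} : Set G) = centralizer ({b} : Set G) := by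
  have key : ∀ {a b : G}, zpowers a = zpowers b →
      centralizer ({a} : Set G) ≤ centralizer ({b} : Set G) := by
    intro a b h x hx
    rw [Subgroup.mem_centralizer_singleton_iff] at hx ⊢
    have hb : b ∈ zpowers a := h ▸ mem_zpowers b
    obtain ⟨i, rfl⟩ := mem_zpowers_iff.mp hb
    exact ((Commute.zpow_right (show Commute x a from hx) i))
  exact le_antisymm (key h) (key h.symm)

/-- **Claim B**: a non-cyclic abelian `r`-group `R` of exponent `r`, with `RM` normal, cannot act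
faithfully on a minimal normal `q`-subgroup `M`. -/
theorem claim_b [Finite G] (hB : HB G) {r q : ℕ} [hr : Fact r.Prime] [hq : Fact q.Prime]
    (hqr : q ≠ r) {R M : Subgroup G} [hMn : M.Normal] (hRp : IsPGroup r R) (hRsyl : ¬ r ∣ R.index)
    (hRexp : ∀ x ∈ R, x ^ r = 1) (hRc : IsMulCommutative R) (hRnc : ¬ IsCyclic R)
    (hM : M ≠ ⊥) (hMc : IsMulCommutative M) (hMexp : ∀ x ∈ M, x ^ q = 1)
    (hN : ∀ g : G, ∀ x ∈ R, g * x * g⁻¹ ∈ R ⊔ M)
    (hU : R ⊓ centralizer (M : Set G) = ⊥) : False := by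
  classical
  have hcomM : ∀ {a b : G}, a ∈ M → b ∈ M → a * b = b * a := fun ha hb =>
    comm_of_isMulCommutative hMc ha hb
  have hcomR : ∀ {a b : G}, a ∈ R → b ∈ R → a * b = b * a := fun ha hb =>
    comm_of_isMulCommutative hRc ha hb
  -- Frattini
  have hfrat : ∀ g : G, ∃ m ∈ M, ∃ t, t ∈ normalizer (R : Set G) ∧ g = m * t := by
    intro g
    have hRN : R ≤ R ⊔ M := le_sup_left
    have hsyl : SylowIn r R (R ⊔ M) := by
      refine ⟨hRN, hRp, ?_⟩
      intro hd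
      apply hRsyl
      rw [← Subgroup.relIndex_mul_index hRN]
      exact Dvd.dvd.mul_right hd _
    have hle : conjS g R ≤ R ⊔ M := by
      rintro _ ⟨x, hx, rfl⟩
      exact hN g x hx
    have hsyl' : SylowIn r (conjS g R) (R ⊔ M) :=
      hsyl.of_card_eq hle (isPGroup_conjS g hRp) (card_conjS g R).symm
    obtain ⟨c, hcN, hc⟩ := hsyl.exists_conj_eq hsyl'
    obtain ⟨ρ, hρ, m', hm', rfl⟩ := (Subgroup.mem_sup_of_normal_right).mp hcN
    obtain ⟨m, hmdef⟩ : ∃ m, m = ρ * m' * ρ⁻¹ := ⟨_, rfl⟩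
    have hmM : m ∈ M := hmdef ▸ hMn.conj_mem m' hm' ρ
    have e : ρ * m' = m * ρ := by rw [hmdef]; group
    rw [e] at hc
    have hc2 : conjS m R = conjS g R := by
      rw [← hc, conjS_mul m ρ, conjS_eq_of_mem hρ]
    refine ⟨m, hmM, m⁻¹ * g, ?_, by group⟩
    rw [mem_normalizer_iff_conjS, conjS_mul, ← hc2, conjS_inv_conjS]
  -- constancy of the stabilizers
  have hconst : ∀ m₁ ∈ M, ∀ m₂ ∈ M, m₁ ≠ 1 → m₂ ≠ 1 →
      Nat.card (R ⊓ centralizer ({m₂} : Set G) : Subgroup G) =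
        Nat.card (R ⊓ centralizer ({m₁} : Set G) : Subgroup G) := by
    intro m₁ h₁ m₂ h₂ hm₁ hm₂
    have ho₁ : orderOf m₁ = q := orderOf_eq_prime (hMexp m₁ h₁) hm₁
    have ho₂ : orderOf m₂ = q := orderOf_eq_prime (hMexp m₂ h₂) hm₂
    obtain ⟨g, hg⟩ := hB (zpowers m₁) (zpowers m₂) (isMulCommutative_zpowers m₁)
      (isMulCommutative_zpowers m₂) (by rw [Nat.card_zpowers, Nat.card_zpowers, ho₁, ho₂])
    obtain ⟨m, hm, t, ht, rfl⟩ := hfrat g
    have hm₃ : t * m₁ * t⁻¹ ∈ M := hMn.conj_mem m₁ h₁ t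
    have hz : zpowers m₂ = zpowers (t * m₁ * t⁻¹) := by
      rw [hg]
      apply le_antisymm
      · rintro _ ⟨c, hc, rfl⟩
        obtain ⟨i, rfl⟩ := mem_zpowers_iff.mp hc
        show (m * t) * m₁ ^ i * (m * t)⁻¹ ∈ _
        rw [show (m * t) * m₁ ^ i * (m * t)⁻¹ = ((m * t) * m₁ * (m * t)⁻¹) ^ i from (conj_zpow).symm]
        have e : (m * t) * m₁ * (m * t)⁻¹ = t * m₁ * t⁻¹ := by
          calc (m * t) * m₁ * (m * t)⁻¹ = m * (t * m₁ * t⁻¹) * m⁻¹ := by group
            _ = (t * m₁ * t⁻¹) * m * m⁻¹ := by rw [hcomM hm hm₃]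
            _ = _ := by group
        rw [e]
        exact Subgroup.zpow_mem _ (mem_zpowers _) i
      · rw [Subgroup.zpowers_le]
        refine ⟨m₁, mem_zpowers m₁, ?_⟩
        show (m * t) * m₁ * (m * t)⁻¹ = t * m₁ * t⁻¹
        calc (m * t) * m₁ * (m * t)⁻¹ = m * (t * m₁ * t⁻¹) * m⁻¹ := by group
          _ = (t * m₁ * t⁻¹) * m * m⁻¹ := by rw [hcomM hm hm₃]
          _ = _ := by group
    rw [centralizer_singleton_eq_of_zpowers_eq hz]
    have hconj : R ⊓ centralizer ({t * m₁ * t⁻¹} : Set G) =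
        conjS t (R ⊓ centralizer ({m₁} : Set G)) := by
      ext x
      rw [mem_conjS, Subgroup.mem_inf, Subgroup.mem_inf, Subgroup.mem_centralizer_singleton_iff,
        Subgroup.mem_centralizer_singleton_iff]
      have h1 : t⁻¹ * x * t ∈ R ↔ x ∈ R := by
        have := (Subgroup.mem_normalizer_iff.mp (inv_mem ht) x)
        rw [inv_inv] at this
        exact this.symm
      rw [h1]
      refine and_congr_right fun _ => ?_
      constructor
      · intro h
        calc t⁻¹ * x * t * m₁ = t⁻¹ * (x * (t * m₁ * t⁻¹)) * t := by group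
          _ = t⁻¹ * ((t * m₁ * t⁻¹) * x) * t := by rw [h]
          _ = _ := by group
      · intro h
        calc x * (t * m₁ * t⁻¹) = t * (t⁻¹ * x * t * m₁) * t⁻¹ := by group
          _ = t * (m₁ * (t⁻¹ * x * t)) * t⁻¹ := by rw [h]
          _ = _ := by group
    rw [hconj, card_conjS]
  -- an element with a fixed point
  haveI : IsMulCommutative M := hMc
  have hRM : R ≤ normalizer (M : Set G) := by
    intro x _
    rw [Subgroup.mem_normalizer_iff]
    intro y
    exact ⟨fun h => hMn.conj_mem y h x, fun h => by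
      have := hMn.conj_mem _ h x⁻¹
      have e : x⁻¹ * (x * y * x⁻¹) * x⁻¹⁻¹ = y := by group
      rwa [e] at this⟩
  obtain ⟨d, hdR, hd1, m₁, hm₁M, hm₁1, hm₁d⟩ : ∃ d ∈ R, d ≠ 1 ∧ ∃ m₁ ∈ M, m₁ ≠ 1 ∧ d * m₁ = m₁ * d := by
    by_contra hcon
    push Not at hcon
    have hfpf : ∀ d ∈ R, d ≠ 1 → M ⊓ centralizer ({d} : Set G) = ⊥ := by
      intro d hd hd1
      rw [eq_bot_iff]
      intro x hx
      rw [Subgroup.mem_bot]
      by_contra hx1
      have h2 := Subgroup.mem_centralizer_singleton_iff.mp (Subgroup.mem_inf.mp hx).2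
      exact hcon d hd hd1 x (Subgroup.mem_inf.mp hx).1 hx1 h2.symm
    rcases Cfsg.Agent.Lib.OddLocal.sylow_form_of_fpf hRp hM hRM hfpf with h | ⟨hr2, n, ⟨e⟩⟩
    · exact hRnc h
    · subst hr2
      have hn0 : NeZero (2 ^ n) := ⟨by positivity⟩
      have h1 : (e.symm (QuaternionGroup.xa 0)) ^ 2 = 1 := by
        apply Subtype.ext
        have := hRexp _ (e.symm (QuaternionGroup.xa 0)).2
        simpa using this
      have h2 : (QuaternionGroup.xa 0 : QuaternionGroup (2 ^ n)) ^ 2 = 1 := by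
        have := congrArg e h1
        simpa using this
      have h3 := QuaternionGroup.orderOf_xa (n := 2 ^ n) 0
      have h4 := orderOf_dvd_of_pow_eq_one h2
      rw [h3] at h4
      omega
  -- the commutator map of `d`
  have hdM : ∀ x ∈ M, d * x * d⁻¹ ∈ M := fun x hx => hMn.conj_mem x hx d
  let φ : M →* G :=
    { toFun := fun x => (x : G) * (d * (x : G)⁻¹ * d⁻¹)
      map_one' := by simp
      map_mul' := by
        intro a b
        have h1 : d * (a : G)⁻¹ * d⁻¹ ∈ M := hdM _ (inv_mem a.2)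
        have h2 : (b : G) * (d * (a : G)⁻¹ * d⁻¹) = (d * (a : G)⁻¹ * d⁻¹) * b := hcomM b.2 h1
        show ((a : G) * b) * (d * ((a : G) * b)⁻¹ * d⁻¹) =
          ((a : G) * (d * (a : G)⁻¹ * d⁻¹)) * ((b : G) * (d * (b : G)⁻¹ * d⁻¹))
        have h3 : d * ((a : G) * b)⁻¹ * d⁻¹ = (d * (b : G)⁻¹ * d⁻¹) * (d * (a : G)⁻¹ * d⁻¹) := by group
        rw [h3]
        have h4 : d * (b : G)⁻¹ * d⁻¹ ∈ M := hdM _ (inv_mem b.2)
        have h5 := hcomM h4 h1
        rw [h5]
        calc (a : G) * b * ((d * (a : G)⁻¹ * d⁻¹) * (d * (b : G)⁻¹ * d⁻¹))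
            = (a : G) * (b * (d * (a : G)⁻¹ * d⁻¹)) * (d * (b : G)⁻¹ * d⁻¹) := by group
          _ = (a : G) * ((d * (a : G)⁻¹ * d⁻¹) * b) * (d * (b : G)⁻¹ * d⁻¹) := by rw [h2]
          _ = _ := by group }
  let I : Subgroup G := φ.range
  let C : Subgroup G := M ⊓ centralizer ({d} : Set G)
  have hφ : ∀ x : M, φ x = (x : G) * (d * (x : G)⁻¹ * d⁻¹) := fun _ => rfl
  have hIM : I ≤ M := by
    rintro _ ⟨x, rfl⟩
    rw [hφ]
    exact mul_mem x.2 (hdM _ (inv_mem x.2))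
  -- `I ∩ C = 1`
  have hIC : ∀ x, x ∈ I → x ∈ C → x = 1 := by
    rintro _ ⟨x, rfl⟩ hC
    rw [hφ] at hC ⊢
    have hxM := x.2
    obtain ⟨y, hy⟩ : ∃ y : G, y = (x : G) := ⟨_, rfl⟩
    rw [← hy] at hC hxM ⊢
    obtain ⟨m, hm⟩ : ∃ m : G, m = y * (d * y⁻¹ * d⁻¹) := ⟨_, rfl⟩
    rw [← hm] at hC ⊢
    have hmM : m ∈ M := (Subgroup.mem_inf.mp hC).1
    have hmd : d * m = m * d := (Subgroup.mem_centralizer_singleton_iff.mp (Subgroup.mem_inf.mp hC).2).symm
    have hpowd : ∀ k : ℕ, d ^ k * m = m * d ^ k := fun k =>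
      ((show Commute d m from hmd).pow_left k)
    have hdk : ∀ k : ℕ, ∀ z ∈ M, d ^ k * z * (d ^ k)⁻¹ ∈ M := fun k z hz =>
      hMn.conj_mem z hz (d ^ k)
    have hiter : ∀ k : ℕ, m ^ k = y * (d ^ k * y⁻¹ * (d ^ k)⁻¹) := by
      intro k
      induction k with
      | zero => simp
      | succ k ih =>
        have h1 : m = d ^ k * m * (d ^ k)⁻¹ := by rw [hpowd]; group
        have h2 : d ^ k * m * (d ^ k)⁻¹ =
            (d ^ k * y * (d ^ k)⁻¹) * (d ^ (k + 1) * y⁻¹ * (d ^ (k + 1))⁻¹) := by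
          rw [hm, pow_succ]; group
        calc m ^ (k + 1) = m * m ^ k := by rw [pow_succ']
          _ = (d ^ k * y * (d ^ k)⁻¹) * (d ^ (k + 1) * y⁻¹ * (d ^ (k + 1))⁻¹) * m ^ k := by
              nth_rewrite 1 [h1]; rw [h2]
          _ = (d ^ k * y * (d ^ k)⁻¹) * (d ^ (k + 1) * y⁻¹ * (d ^ (k + 1))⁻¹) *
                (y * (d ^ k * y⁻¹ * (d ^ k)⁻¹)) := by rw [ih]
          _ = y * (d ^ (k + 1) * y⁻¹ * (d ^ (k + 1))⁻¹) := by
              have hA := hdk k y hxM
              have hB' := hdk (k + 1) y⁻¹ (inv_mem hxM)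
              have hC' := hdk k y⁻¹ (inv_mem hxM)
              have e1 : (d ^ k * y * (d ^ k)⁻¹) * (d ^ k * y⁻¹ * (d ^ k)⁻¹) = 1 := by group
              generalize (d ^ k * y * (d ^ k)⁻¹) = A at *
              generalize (d ^ (k + 1) * y⁻¹ * (d ^ (k + 1))⁻¹) = B at *
              generalize (d ^ k * y⁻¹ * (d ^ k)⁻¹) = E at *
              calc A * B * (y * E) = (A * (B * y)) * E := by group
                _ = (A * (y * B)) * E := by rw [hcomM hB' hxM]
                _ = ((A * y) * B) * E := by group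
                _ = ((y * A) * B) * E := by rw [hcomM hA hxM]
                _ = y * (A * (B * E)) := by group
                _ = y * (A * (E * B)) := by rw [hcomM hB' hC']
                _ = y * ((A * E) * B) := by group
                _ = y * B := by rw [e1, one_mul]
    have h1 := hiter r
    rw [hRexp d hdR] at h1
    have h2 : m ^ r = 1 := by rw [h1]; group
    have h3 := orderOf_dvd_of_pow_eq_one h2
    have h4 := orderOf_dvd_of_pow_eq_one (hMexp m hmM)
    have h5 : orderOf m = 1 := by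
      rcases (Nat.dvd_prime hq.out).mp h4 with h6 | h6
      · exact h6
      · rw [h6] at h3
        exact absurd ((Nat.prime_dvd_prime_iff_eq hq.out hr.out).mp h3) hqr
    exact orderOf_eq_one_iff.mp h5
  -- `I ≠ 1`
  obtain ⟨m₂, hm₂I, hm₂1⟩ : ∃ m₂ ∈ I, m₂ ≠ 1 := by
    by_contra hcon
    push Not at hcon
    have hdc : d ∈ R ⊓ centralizer (M : Set G) := by
      refine Subgroup.mem_inf.mpr ⟨hdR, ?_⟩
      rw [Subgroup.mem_centralizer_iff]
      intro x hx
      have h1 := hcon (φ ⟨x, hx⟩) ⟨_, rfl⟩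
      rw [hφ] at h1
      have h2 : (x : G) * (d * x⁻¹ * d⁻¹) = 1 := h1
      have h3 : d * x * d⁻¹ = x := by
        have h4 : d * x⁻¹ * d⁻¹ = x⁻¹ := by
          calc d * x⁻¹ * d⁻¹ = x⁻¹ * (x * (d * x⁻¹ * d⁻¹)) := by group
            _ = x⁻¹ := by rw [h2, mul_one]
        calc d * x * d⁻¹ = (d * x⁻¹ * d⁻¹)⁻¹ := by group
          _ = x := by rw [h4]; group
      calc x * d = d * x * d⁻¹ * d := by rw [h3]
        _ = d * x := by group
    rw [hU, Subgroup.mem_bot] at hdc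
    exact hd1 hdc
  have hm₂M : m₂ ∈ M := hIM hm₂I
  have hm₁C : m₁ ∈ C := Subgroup.mem_inf.mpr ⟨hm₁M, Subgroup.mem_centralizer_singleton_iff.mpr hm₁d.symm⟩
  -- `R`-invariance of `I` and `C`
  have hIinv : ∀ y ∈ R, ∀ x ∈ I, y * x * y⁻¹ ∈ I := by
    rintro y hy _ ⟨x, rfl⟩
    have hyx : y * (x : G) * y⁻¹ ∈ M := hMn.conj_mem _ x.2 y
    refine ⟨⟨_, hyx⟩, ?_⟩
    rw [hφ, hφ]
    show y * (x : G) * y⁻¹ * (d * (y * (x : G) * y⁻¹)⁻¹ * d⁻¹) = _
    have hyd : y * d = d * y := hcomR hy hdR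
    calc y * (x : G) * y⁻¹ * (d * (y * (x : G) * y⁻¹)⁻¹ * d⁻¹)
        = y * (x : G) * y⁻¹ * ((d * y) * (x : G)⁻¹ * (d * y)⁻¹) := by group
      _ = y * (x : G) * y⁻¹ * ((y * d) * (x : G)⁻¹ * (y * d)⁻¹) := by rw [hyd]
      _ = _ := by group
  have hCinv : ∀ y ∈ R, ∀ x ∈ C, y * x * y⁻¹ ∈ C := by
    intro y hy x hx
    refine Subgroup.mem_inf.mpr ⟨hMn.conj_mem _ (Subgroup.mem_inf.mp hx).1 y, ?_⟩
    have hxd := (Subgroup.mem_centralizer_singleton_iff.mp (Subgroup.mem_inf.mp hx).2)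
    rw [Subgroup.mem_centralizer_singleton_iff]
    have hyd : y * d = d * y := hcomR hy hdR
    have hyd' : y⁻¹ * d = d * y⁻¹ := hcomR (inv_mem hy) hdR
    calc y * x * y⁻¹ * d = y * x * (y⁻¹ * d) := by group
      _ = y * x * (d * y⁻¹) := by rw [hyd']
      _ = y * (x * d) * y⁻¹ := by group
      _ = y * (d * x) * y⁻¹ := by rw [hxd]
      _ = (y * d) * x * y⁻¹ := by group
      _ = (d * y) * x * y⁻¹ := by rw [hyd]
      _ = _ := by group
  -- the product
  have hm1 : m₁ * m₂ ≠ 1 := by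
    intro h
    have h1 : m₂ = m₁⁻¹ := eq_inv_of_mul_eq_one_right h
    have h2 : m₂ ∈ C := by rw [h1]; exact inv_mem hm₁C
    exact hm₂1 (hIC m₂ hm₂I h2)
  have hle : R ⊓ centralizer ({m₁ * m₂} : Set G) ≤ R ⊓ centralizer ({m₁} : Set G) := by
    intro y hy
    have hyR := (Subgroup.mem_inf.mp hy).1
    have hyc := Subgroup.mem_centralizer_singleton_iff.mp (Subgroup.mem_inf.mp hy).2
    refine Subgroup.mem_inf.mpr ⟨hyR, ?_⟩
    rw [Subgroup.mem_centralizer_singleton_iff]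
    have ha : (y * m₁ * y⁻¹) * m₁⁻¹ ∈ C := mul_mem (hCinv y hyR m₁ hm₁C) (inv_mem hm₁C)
    have hb : (y * m₂ * y⁻¹) * m₂⁻¹ ∈ I := mul_mem (hIinv y hyR m₂ hm₂I) (inv_mem hm₂I)
    have hprod : ((y * m₁ * y⁻¹) * m₁⁻¹) * ((y * m₂ * y⁻¹) * m₂⁻¹) = 1 := by
      have h1 : y * (m₁ * m₂) * y⁻¹ = m₁ * m₂ := by rw [hyc]; group
      have h2 : (y * m₁ * y⁻¹) * (y * m₂ * y⁻¹) = m₁ * m₂ := by
        rw [← h1]; group
      have h3 : y * m₂ * y⁻¹ ∈ M := hMn.conj_mem _ hm₂M y
      have h4 : m₁⁻¹ * (y * m₂ * y⁻¹) = (y * m₂ * y⁻¹) * m₁⁻¹ := hcomM (inv_mem hm₁M) h3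
      calc ((y * m₁ * y⁻¹) * m₁⁻¹) * ((y * m₂ * y⁻¹) * m₂⁻¹)
          = (y * m₁ * y⁻¹) * (m₁⁻¹ * (y * m₂ * y⁻¹)) * m₂⁻¹ := by group
        _ = (y * m₁ * y⁻¹) * ((y * m₂ * y⁻¹) * m₁⁻¹) * m₂⁻¹ := by rw [h4]
        _ = ((y * m₁ * y⁻¹) * (y * m₂ * y⁻¹)) * m₁⁻¹ * m₂⁻¹ := by group
        _ = (m₁ * m₂) * m₁⁻¹ * m₂⁻¹ := by rw [h2]
        _ = 1 := by
            rw [hcomM hm₁M hm₂M]; group
    have hb' : (y * m₁ * y⁻¹) * m₁⁻¹ ∈ I := by
      have h1 : (y * m₁ * y⁻¹) * m₁⁻¹ = ((y * m₂ * y⁻¹) * m₂⁻¹)⁻¹ := eq_inv_of_mul_eq_one_left hprod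
      rw [h1]; exact inv_mem hb
    have h1 := hIC _ hb' ha
    calc y * m₁ = (y * m₁ * y⁻¹) * m₁⁻¹ * (m₁ * y) := by group
      _ = m₁ * y := by rw [h1, one_mul]
  have heq : R ⊓ centralizer ({m₁ * m₂} : Set G) = R ⊓ centralizer ({m₁} : Set G) :=
    Subgroup.eq_of_le_of_card_ge hle (by
      rw [hconst m₁ hm₁M (m₁ * m₂) (mul_mem hm₁M hm₂M) hm₁1 hm1])
  have hdin : d ∈ R ⊓ centralizer ({m₁ * m₂} : Set G) := by
    rw [heq]
    exact Subgroup.mem_inf.mpr ⟨hdR, Subgroup.mem_centralizer_singleton_iff.mpr hm₁d⟩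
  have hd12 := Subgroup.mem_centralizer_singleton_iff.mp (Subgroup.mem_inf.mp hdin).2
  have hdm₂ : d * m₂ = m₂ * d := by
    have h1 : d * (m₁ * m₂) = (m₁ * m₂) * d := hd12
    have h2 : m₁ * (d * m₂) = m₁ * (m₂ * d) := by
      calc m₁ * (d * m₂) = (m₁ * d) * m₂ := by group
        _ = (d * m₁) * m₂ := by rw [hm₁d]
        _ = d * (m₁ * m₂) := by group
        _ = (m₁ * m₂) * d := h1
        _ = _ := by group
    exact mul_left_cancel h2
  have hm₂C : m₂ ∈ C :=
    Subgroup.mem_inf.mpr ⟨hm₂M, Subgroup.mem_centralizer_singleton_iff.mpr hdm₂.symm⟩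
  exact hm₂1 (hIC m₂ hm₂I hm₂C)

/-- **Claim A**: a non-cyclic Sylow subgroup of exponent `r` is normal, abelian and minimal normal. -/
theorem big_normal [Finite G] (hB : HB G) (hs : Group.IsSolvable G) (r : ℕ) [hr : Fact r.Prime]
    (R : Sylow r G) (hexp : ∀ x ∈ (R : Subgroup G), x ^ r = 1) (hnc : ¬ IsCyclic (R : Subgroup G)) :
    (R : Subgroup G).Normal ∧ IsMulCommutative (R : Subgroup G) ∧
      ∀ N : Subgroup G, N.Normal → N ≤ R → N = ⊥ ∨ N = R := by
  classical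
  induction hn : Nat.card G using Nat.strong_induction_on generalizing G with
  | _ n ih =>
  subst hn
  have hR1 : (R : Subgroup G) ≠ ⊥ := by
    intro h
    apply hnc
    rw [h]
    infer_instance
  by_cases hcase : ∃ M : Subgroup G, M.Normal ∧ M ≠ ⊥ ∧
      (∀ N : Subgroup G, N.Normal → N ≤ M → N = ⊥ ∨ N = M) ∧ IsPGroup r M
  · obtain ⟨M, hMn, hM, hmin, hMp⟩ := hcase
    haveI := hMn
    obtain ⟨hMc, q, hq, hMexp⟩ := Cfsg.Agent.Lib.Core.minimal_normal_elementary M hM hmin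
    haveI : Fact q.Prime := ⟨hq⟩
    obtain ⟨⟨w, hwM⟩, hw1⟩ := Subgroup.ne_bot_iff_exists_ne_one.mp hM
    have hw1' : w ≠ 1 := fun h => hw1 (Subtype.ext h)
    have hwq : orderOf w = q := orderOf_eq_prime (hMexp w hwM) hw1'
    have hqr : q = r := by
      obtain ⟨k, hk⟩ := hMp ⟨w, hwM⟩
      have h1 : w ^ r ^ k = 1 := by simpa using congrArg Subtype.val hk
      have h2 : q ∣ r ^ k := hwq ▸ orderOf_dvd_of_pow_eq_one h1
      exact (Nat.prime_dvd_prime_iff_eq hq hr.out).mp (hq.dvd_of_dvd_pow h2)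
    have hRM : (R : Subgroup G) ≤ M := by
      intro x hx
      by_cases hx1 : x = 1
      · rw [hx1]; exact one_mem _
      · exact mem_of_orderOf_eq hB hwM (by rw [hwq, hqr, orderOf_eq_prime (hexp x hx) hx1])
    have hMR : M ≤ R :=
      (Cfsg.Agent.Lib.Core.le_pCore hMn hMp).trans (Cfsg.Agent.Lib.Core.pCore_le_sylow R)
    have hRe : (R : Subgroup G) = M := le_antisymm hRM hMR
    rw [hRe]
    exact ⟨hMn, hMc, hmin⟩
  · exfalso
    push Not at hcase
    have hdata : ∀ M : Subgroup G, M.Normal → M ≠ ⊥ →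
        (∀ N : Subgroup G, N.Normal → N ≤ M → N = ⊥ ∨ N = M) →
        ∃ q : ℕ, q.Prime ∧ q ≠ r ∧ IsMulCommutative M ∧ (∀ x ∈ M, x ^ q = 1) ∧
          (∀ g : G, ∀ x ∈ (R : Subgroup G), g * x * g⁻¹ ∈ (R : Subgroup G) ⊔ M) ∧
          IsMulCommutative (R : Subgroup G) := by
      intro M hMn hM hmin
      haveI := hMn
      obtain ⟨hMc, q, hq, hMexp⟩ := Cfsg.Agent.Lib.Core.minimal_normal_elementary M hM hmin
      have hqr : q ≠ r := by
        rintro rfl
        exact hcase M hMn hM hmin (fun x => ⟨1, Subtype.ext (by simpa using hMexp x x.2)⟩)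
      have hinf : ∀ x, x ∈ (R : Subgroup G) → x ∈ M → x = 1 := by
        intro x hxR hxM
        have h1 := orderOf_dvd_of_pow_eq_one (hexp x hxR)
        have h2 := orderOf_dvd_of_pow_eq_one (hMexp x hxM)
        have h3 : Nat.Coprime r q := (Nat.coprime_primes hr.out hq).mpr (Ne.symm hqr)
        exact orderOf_eq_one_iff.mp (Nat.eq_one_of_dvd_coprimes h3 h1 h2)
      let π : G →* G ⧸ M := QuotientGroup.mk' M
      have hπ : Function.Surjective π := QuotientGroup.mk'_surjective M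
      have hπ1 : ∀ x, π x = 1 ↔ x ∈ M := fun x => by
        rw [QuotientGroup.mk'_apply, QuotientGroup.eq_one_iff]
      let R' : Sylow r (G ⧸ M) := R.mapSurjective hπ
      have hR' : (R' : Subgroup (G ⧸ M)) = (R : Subgroup G).map π := Sylow.coe_mapSurjective hπ R
      have hlt : Nat.card (G ⧸ M) < Nat.card G := by
        have h1 := Subgroup.card_mul_index M
        have h2 : 1 < Nat.card M := by
          rw [Subgroup.one_lt_card_iff_ne_bot]; exact hM
        have h3 : Nat.card (G ⧸ M) = M.index := rfl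
        rw [h3, ← h1]
        have h4 : 0 < M.index := Nat.pos_of_ne_zero Subgroup.index_ne_zero_of_finite
        nlinarith
      have hexp' : ∀ x ∈ (R' : Subgroup (G ⧸ M)), x ^ r = 1 := by
        intro x hx
        rw [hR'] at hx
        obtain ⟨y, hy, rfl⟩ := hx
        rw [← map_pow, hexp y hy, map_one]
      have hnc' : ¬ IsCyclic (R' : Subgroup (G ⧸ M)) := by
        intro hc
        rw [hR'] at hc
        apply hnc
        have hinj : Function.Injective (π.subgroupMap (R : Subgroup G)) := by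
          intro a b hab
          have h1 : π (a : G) = π (b : G) := congrArg Subtype.val hab
          have h2 : π ((a : G)⁻¹ * b) = 1 := by rw [map_mul, map_inv, h1]; group
          have h3 := hinf _ (mul_mem (inv_mem a.2) b.2) ((hπ1 _).mp h2)
          exact Subtype.ext (by
            have h4 : (a : G) * ((a : G)⁻¹ * b) = a := by rw [h3, mul_one]
            rw [← h4]; group)
        exact isCyclic_of_injective _ hinj
      obtain ⟨h1, h2, -⟩ := ih _ hlt (hb_quotient hB hs M) inferInstance R' hexp' hnc' rfl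
      refine ⟨q, hq, hqr, hMc, hMexp, ?_, ?_⟩
      · intro g x hx
        have h3 : π (g * x * g⁻¹) ∈ (R' : Subgroup (G ⧸ M)) := by
          have h4 : π x ∈ (R' : Subgroup (G ⧸ M)) := by rw [hR']; exact ⟨x, hx, rfl⟩
          have := h1.conj_mem _ h4 (π g)
          simpa using this
        rw [hR'] at h3
        obtain ⟨ρ, hρ, hρe⟩ := h3
        have h5 : π (ρ⁻¹ * (g * x * g⁻¹)) = 1 := by rw [map_mul, map_inv, hρe]; group
        have h6 := (hπ1 _).mp h5
        have h7 : g * x * g⁻¹ = ρ * (ρ⁻¹ * (g * x * g⁻¹)) := by group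
        rw [h7]
        exact Subgroup.mul_mem_sup hρ h6
      · refine isMulCommutative_of_comm ?_
        intro a ha b hb
        have h3 : π a * π b = π b * π a := by
          have h4 : π a ∈ (R' : Subgroup (G ⧸ M)) := by rw [hR']; exact ⟨a, ha, rfl⟩
          have h5 : π b ∈ (R' : Subgroup (G ⧸ M)) := by rw [hR']; exact ⟨b, hb, rfl⟩
          exact comm_of_isMulCommutative h2 h4 h5
        have h4 : π (a * b * (b * a)⁻¹) = 1 := by
          rw [map_mul, map_inv, map_mul, map_mul, h3]; group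
        have h5 := hinf _ (mul_mem (mul_mem ha hb) (inv_mem (mul_mem hb ha))) ((hπ1 _).mp h4)
        exact mul_inv_eq_one.mp h5
    have hRnot : ¬ (R : Subgroup G).Normal := by
      intro h
      obtain ⟨L, hLn, hL, hLR, hLmin⟩ := Cfsg.Agent.Lib.Core.exists_minimal_normal_le h hR1
      exact hcase L hLn hL hLmin (R.isPGroup'.to_le hLR)
    have htop : (⊤ : Subgroup G) ≠ ⊥ := fun h => hR1 (by
      rw [eq_bot_iff, ← h]; exact le_top)
    obtain ⟨M, hMn, hM, -, hmin⟩ := Cfsg.Agent.Lib.Core.exists_minimal_normal_le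
      (Subgroup.normal_of_characteristic ⊤) htop
    haveI := hMn
    obtain ⟨q, hq, hqr, hMc, hMexp, hRM, hRc⟩ := hdata M hMn hM hmin
    haveI : Fact q.Prime := ⟨hq⟩
    by_cases htwo : ∃ M₂ : Subgroup G, M₂.Normal ∧ M₂ ≠ ⊥ ∧
        (∀ N : Subgroup G, N.Normal → N ≤ M₂ → N = ⊥ ∨ N = M₂) ∧ M₂ ≠ M
    · obtain ⟨M₂, hM₂n, hM₂, hmin₂, hne⟩ := htwo
      haveI := hM₂n
      obtain ⟨q₂, hq₂, hqr₂, -, hM₂exp, hRM₂, -⟩ := hdata M₂ hM₂n hM₂ hmin₂
      have hinf : M ⊓ M₂ = ⊥ := by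
        rcases hmin (M ⊓ M₂) inferInstance inf_le_left with h | h
        · exact h
        · exfalso
          have hle : M ≤ M₂ := inf_eq_left.mp h
          rcases hmin₂ M hMn hle with h' | h'
          · exact hM h'
          · exact hne h'.symm
      apply hRnot
      constructor
      intro x hx g
      obtain ⟨ρ₁, hρ₁, m₁, hm₁, h1⟩ := (Subgroup.mem_sup_of_normal_right).mp (hRM g x hx)
      obtain ⟨ρ₂, hρ₂, m₂, hm₂, h2⟩ := (Subgroup.mem_sup_of_normal_right).mp (hRM₂ g x hx)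
      have hcomm : m₁ * m₂ = m₂ * m₁ :=
        Subgroup.commute_of_normal_of_disjoint M M₂ hMn hM₂n (disjoint_iff.mpr hinf) m₁ m₂ hm₁ hm₂
      have hu : ρ₂⁻¹ * ρ₁ = m₂ * m₁⁻¹ := by
        have h3 : ρ₁ * m₁ = ρ₂ * m₂ := h1.trans h2.symm
        calc ρ₂⁻¹ * ρ₁ = ρ₂⁻¹ * (ρ₁ * m₁) * m₁⁻¹ := by group
          _ = ρ₂⁻¹ * (ρ₂ * m₂) * m₁⁻¹ := by rw [h3]
          _ = _ := by group
      have huR : ρ₂⁻¹ * ρ₁ ∈ (R : Subgroup G) := mul_mem (inv_mem hρ₂) hρ₁
      have hu1 : (ρ₂⁻¹ * ρ₁) ^ r = 1 := hexp _ huR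
      have hu2 : (m₂ * m₁⁻¹) ^ (q * q₂) = 1 := by
        have hc : Commute m₂ m₁⁻¹ := (show Commute m₂ m₁ from hcomm.symm).inv_right
        rw [hc.mul_pow, pow_mul' m₂, hM₂exp m₂ hm₂, one_pow, one_mul, inv_pow, pow_mul,
          hMexp m₁ hm₁, one_pow, inv_one]
      rw [← hu] at hu2
      have h3 := orderOf_dvd_of_pow_eq_one hu1
      have h4 := orderOf_dvd_of_pow_eq_one hu2
      have hcop : Nat.Coprime r (q * q₂) :=
        Nat.Coprime.mul_right ((Nat.coprime_primes hr.out hq).mpr (Ne.symm hqr))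
          ((Nat.coprime_primes hr.out hq₂).mpr (Ne.symm hqr₂))
      have h5 := orderOf_eq_one_iff.mp (Nat.eq_one_of_dvd_coprimes hcop h3 h4)
      have h6 : ρ₁ = ρ₂ := by
        have : ρ₂ * (ρ₂⁻¹ * ρ₁) = ρ₂ := by rw [h5, mul_one]
        rw [← this]; group
      have h7 : m₁ = m₂ := by
        have h8 : m₂ * m₁⁻¹ = 1 := by rw [← hu, h5]
        exact (mul_inv_eq_one.mp h8).symm
      have h8 : m₁ ∈ M ⊓ M₂ := Subgroup.mem_inf.mpr ⟨hm₁, h7 ▸ hm₂⟩
      rw [hinf, Subgroup.mem_bot] at h8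
      rw [← h1, h8, mul_one]
      exact hρ₁
    · push Not at htwo
      have hU : (R : Subgroup G) ⊓ centralizer (M : Set G) = ⊥ := by
        by_contra hne
        have hUn : ((R : Subgroup G) ⊓ centralizer (M : Set G)).Normal := by
          constructor
          intro x hx g
          have hxR := (Subgroup.mem_inf.mp hx).1
          have hxC := (Subgroup.mem_inf.mp hx).2
          obtain ⟨ρ, hρ, m, hm, h1⟩ := (Subgroup.mem_sup_of_normal_right).mp (hRM g x hxR)
          have hyC : g * x * g⁻¹ ∈ centralizer (M : Set G) := by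
            haveI : (centralizer (M : Set G)).Normal := Subgroup.normal_centralizer (H := M)
            exact Subgroup.Normal.conj_mem inferInstance x hxC g
          have hmC : m ∈ centralizer (M : Set G) := by
            rw [Subgroup.mem_centralizer_iff]
            intro y hy
            exact comm_of_isMulCommutative hMc hy hm
          have hρC : ρ ∈ centralizer (M : Set G) := by
            have h2 : ρ = (g * x * g⁻¹) * m⁻¹ := by rw [← h1]; group
            rw [h2]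
            exact mul_mem hyC (inv_mem hmC)
          have hρm : Commute ρ m := (Subgroup.mem_centralizer_iff.mp hρC m hm).symm
          have h3 : (g * x * g⁻¹) ^ r = 1 := by
            rw [conj_pow, hexp x hxR]; group
          rw [← h1, hρm.mul_pow, hexp ρ hρ, one_mul] at h3
          have h4 := orderOf_dvd_of_pow_eq_one h3
          have h5 := orderOf_dvd_of_pow_eq_one (hMexp m hm)
          have hcop : Nat.Coprime r q := (Nat.coprime_primes hr.out hq).mpr (Ne.symm hqr)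
          have h6 := orderOf_eq_one_iff.mp (Nat.eq_one_of_dvd_coprimes hcop h4 h5)
          rw [← h1, h6, mul_one]
          exact Subgroup.mem_inf.mpr ⟨hρ, by rw [h6, mul_one] at h1; rw [h1]; exact hyC⟩
        obtain ⟨L, hLn, hL, hLU, hLmin⟩ := Cfsg.Agent.Lib.Core.exists_minimal_normal_le hUn hne
        exact hcase L hLn hL hLmin (R.isPGroup'.to_le (hLU.trans inf_le_left))
      exact claim_b hB hqr R.isPGroup' R.not_dvd_index hexp hRc hnc hM hMc hMexp hRM hU

end Cfsg.Agent.Lib.PGroup.ConjAb
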