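import Mathlib
import Cfsg.Prelude.Def_OddOrderLocal

/-!
# Metacyclic `p`-groups for odd `p`: numbers and normal forms
-/

set_option autoImplicit false

namespace Cfsg.Agent.Lib.PGroup.Meta

open Cfsg
open scoped commutatorElement

universe u

/-! ### Geometric sums -/

section Num

/-- The geometric sum. -/
def gs (U x : ℕ) : ℕ := ∑ t ∈ Finset.range x, U ^ t

@[simp] theorem gs_zero (U : ℕ) : gs U 0 = 0 := rfl

theorem gs_succ (U x : ℕ) : gs U (x + 1) = gs U x + U ^ x := by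
  unfold gs
  rw [Finset.sum_range_succ]

theorem gs_succ' (U x : ℕ) : gs U (x + 1) = 1 + U * gs U x := by
  unfold gs
  rw [Finset.sum_range_succ', Finset.mul_sum, add_comm]
  simp [pow_succ, mul_comm]

@[simp] theorem gs_one (U : ℕ) : gs U 1 = 1 := by
  simp [gs]

theorem gs_add (U x y : ℕ) : gs U (x + y) = gs U x + U ^ x * gs U y := by
  unfold gs
  rw [Finset.sum_range_add, Finset.mul_sum]
  congr 1
  apply Finset.sum_congr rfl
  intro t _
  rw [pow_add]

theorem gs_int (U x : ℕ) : ((U : ℤ) - 1) * (gs U x : ℤ) = (U : ℤ) ^ x - 1 := by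
  induction x with
  | zero => simp
  | succ x ih =>
    rw [gs_succ]
    push_cast
    rw [mul_add, ih, pow_succ]
    ring

theorem gs_of_one (x : ℕ) : gs 1 x = x := by
  simp [gs]

theorem gs_mul (U x y : ℕ) : gs U (x * y) = gs U x * gs (U ^ x) y := by
  induction y with
  | zero => simp
  | succ y ih =>
    rw [Nat.mul_succ, gs_add, ih, gs_succ, mul_add, ← pow_mul, mul_comm]
    ring

variable {p : ℕ} [hp : Fact p.Prime]

theorem pow_mod_one {U : ℕ} (hU : U ≡ 1 [MOD p]) (x : ℕ) : U ^ x ≡ 1 [MOD p] := by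
  simpa using hU.pow x

/-- The main divisibility fact: `p^k ∣ (U^x - 1)/(U - 1) ↔ p^k ∣ x`, for `U ≡ 1` modulo an odd prime. -/
theorem dvd_gs_iff (hodd : p ≠ 2) {U : ℕ} (hU : U ≡ 1 [MOD p]) (hU0 : 1 ≤ U) (k x : ℕ) :
    p ^ k ∣ gs U x ↔ p ^ k ∣ x := by
  rcases Nat.eq_or_lt_of_le hU0 with rfl | hU1
  · rw [gs_of_one]
  rcases Nat.eq_zero_or_pos x with rfl | hx
  · simp
  have hpU : ¬ p ∣ U := by
    intro h
    have h1 : U % p = 1 % p := hU
    have h2 : U % p = 0 := Nat.mod_eq_zero_of_dvd h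
    rw [h2, Nat.mod_eq_of_lt hp.out.one_lt] at h1
    omega
  have hdv : p ∣ U - 1 := (Nat.modEq_iff_dvd' hU1.le).mp hU.symm
  have h1 := padicValNat.pow_sub_pow (hp.out.odd_of_ne_two hodd) hU1 (by simpa using hdv) hpU
    (n := x) hx.ne'
  rw [one_pow] at h1
  have h2 : U ^ x - 1 = (U - 1) * gs U x := by
    have h3 := gs_int U x
    zify [hU1.le, Nat.one_le_pow x U (by omega)]
    rw [h3]
  have hgs : gs U x ≠ 0 := by
    intro h0
    rw [h0, mul_zero] at h2
    have : 1 < U ^ x := Nat.one_lt_pow hx.ne' hU1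
    omega
  have hU1' : U - 1 ≠ 0 := by omega
  rw [h2, padicValNat.mul hU1' hgs] at h1
  have h4 : padicValNat p (gs U x) = padicValNat p x := by omega
  rw [padicValNat_dvd_iff_le hgs, padicValNat_dvd_iff_le hx.ne', h4]

/-- `x ↦ gs U x` is onto modulo `p^n`. -/
theorem gs_surjective (hodd : p ≠ 2) {U : ℕ} (hU : U ≡ 1 [MOD p]) (hU0 : 1 ≤ U) (n : ℕ)
    (c : ZMod (p ^ n)) : ∃ x : ℕ, ((gs U x : ℕ) : ZMod (p ^ n)) = c := by
  haveI : NeZero (p ^ n) := ⟨pow_ne_zero _ hp.out.ne_zero⟩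
  let f : ZMod (p ^ n) → ZMod (p ^ n) := fun y => ((gs U y.val : ℕ) : ZMod (p ^ n))
  have hf : Function.Injective f := by
    intro y y' h
    wlog hle : y.val ≤ y'.val generalizing y y'
    · exact (this h.symm (by omega)).symm
    obtain ⟨t, ht⟩ := Nat.exists_eq_add_of_le hle
    have h1 : f y' = f y + ((U ^ y.val * gs U t : ℕ) : ZMod (p ^ n)) := by
      show ((gs U y'.val : ℕ) : ZMod (p ^ n)) = _
      rw [ht, gs_add]
      push_cast
      rfl
    have h2 : ((U ^ y.val * gs U t : ℕ) : ZMod (p ^ n)) = 0 := by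
      rw [h1] at h
      exact (left_eq_add.mp h)
    rw [ZMod.natCast_eq_zero_iff] at h2
    have hcop : Nat.Coprime (p ^ n) (U ^ y.val) := by
      apply Nat.Coprime.pow
      have h3 : Nat.Coprime p U := by
        rw [Nat.Prime.coprime_iff_not_dvd hp.out]
        intro h
        have h1 : U % p = 1 % p := hU
        have h2 : U % p = 0 := Nat.mod_eq_zero_of_dvd h
        rw [h2, Nat.mod_eq_of_lt hp.out.one_lt] at h1
        omega
      exact h3
    have h3 : p ^ n ∣ gs U t := hcop.dvd_of_dvd_mul_left h2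
    have h4 : p ^ n ∣ t := (dvd_gs_iff hodd hU hU0 n t).mp h3
    have h5 : t < p ^ n := by
      have := ZMod.val_lt y'
      omega
    have h6 : t = 0 := Nat.eq_zero_of_dvd_of_lt h4 h5
    have h7 : y.val = y'.val := by omega
    exact ZMod.val_injective _ h7
  obtain ⟨y, hy⟩ := (Finite.injective_iff_surjective.mp hf) c
  exact ⟨y.val, hy⟩

end Num

/-! ### The structure -/

section MC

variable {G : Type*} [Group G]

/-- A presentation of a metacyclic `p`-group: `⟨a⟩` is normal of order `p^m`, with `b a b⁻¹ = a^u`,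
`u ≡ 1 (mod p)`, `b` generates the quotient, of order `p^r`, and `p^n` is the order of `a^(u-1)`. -/
structure MC (p : ℕ) (a b : G) (u m r n : ℕ) : Prop where
  conj : b * a * b⁻¹ = a ^ u
  u_gt : 1 < u
  u_mod : u ≡ 1 [MOD p]
  order : orderOf a = p ^ m
  gen : ∀ g : G, ∃ i j : ℕ, g = a ^ i * b ^ j
  crit : ∀ X : ℤ, ((p ^ m : ℕ) : ℤ) ∣ ((u : ℤ) - 1) * X ↔ ((p ^ n : ℕ) : ℤ) ∣ X
  tower : ∀ t : ℕ, b ^ t ∈ Subgroup.zpowers a ↔ p ^ r ∣ t

variable {p : ℕ} [hp : Fact p.Prime] {a b : G} {u m r n : ℕ}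

namespace MC

theorem u_pos (h : MC p a b u m r n) : 1 ≤ u := h.u_gt.le

theorem conj_pow (h : MC p a b u m r n) (i : ℕ) : b * a ^ i * b⁻¹ = a ^ (i * u) := by
  have e : b * a ^ i * b⁻¹ = (b * a * b⁻¹) ^ i := _root_.conj_pow.symm
  rw [e, h.conj, ← pow_mul, mul_comm]

theorem pow_mul_pow (h : MC p a b u m r n) (i j : ℕ) : b ^ j * a ^ i = a ^ (i * u ^ j) * b ^ j := by
  induction j generalizing i with
  | zero => simp
  | succ j ih =>
    have h1 : b * a ^ i = a ^ (i * u) * b := by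
      rw [← h.conj_pow i]
      group
    rw [pow_succ, mul_assoc, h1, ← mul_assoc, ih (i * u), pow_succ u, mul_comm (u ^ j) u,
      mul_assoc i u, mul_assoc]

theorem mul_form (h : MC p a b u m r n) (i j k l : ℕ) :
    a ^ i * b ^ j * (a ^ k * b ^ l) = a ^ (i + k * u ^ j) * b ^ (j + l) := by
  calc a ^ i * b ^ j * (a ^ k * b ^ l) = a ^ i * (b ^ j * a ^ k) * b ^ l := by group
    _ = a ^ i * (a ^ (k * u ^ j) * b ^ j) * b ^ l := by rw [h.pow_mul_pow]
    _ = _ := by rw [pow_add, pow_add]; group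

theorem pow_eq_pow_iff (h : MC p a b u m r n) {x y : ℕ} :
    a ^ x = a ^ y ↔ ((p ^ m : ℕ) : ℤ) ∣ (y : ℤ) - x := by
  rw [pow_eq_pow_iff_modEq, h.order, Nat.modEq_iff_dvd]

/-- The basic commutation criterion. -/
theorem comm_iff (h : MC p a b u m r n) (i j k l : ℕ) :
    a ^ i * b ^ j * (a ^ k * b ^ l) = a ^ k * b ^ l * (a ^ i * b ^ j) ↔
      ((p ^ n : ℕ) : ℤ) ∣ (i : ℤ) * (gs u l : ℤ) - (k : ℤ) * (gs u j : ℤ) := by
  rw [h.mul_form, h.mul_form, add_comm l j, mul_left_inj, h.pow_eq_pow_iff, ← h.crit]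
  have e : (((k + i * u ^ l : ℕ) : ℤ) - ((i + k * u ^ j : ℕ) : ℤ)) =
      ((u : ℤ) - 1) * ((i : ℤ) * (gs u l : ℤ) - (k : ℤ) * (gs u j : ℤ)) := by
    push_cast
    have h1 := gs_int u l
    have h2 := gs_int u j
    linear_combination (-(i : ℤ)) * h1 + (k : ℤ) * h2
  rw [e]

/-- Independence of representatives (one direction). -/
theorem rep_aux (h : MC p a b u m r n) {i k j t : ℕ} (he : a ^ i * b ^ j = a ^ k * b ^ (j + t)) :
    ((p ^ n : ℕ) : ℤ) ∣ (i : ℤ) - k ∧ p ^ n ∣ gs u t ∧ (u ^ t : ℕ) ≡ 1 [MOD p ^ n] := by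
  have h1 : a ^ i = a ^ k * b ^ t := by
    have : a ^ i * b ^ j = a ^ k * b ^ t * b ^ j := by
      rw [he, pow_add, mul_assoc, ← pow_add, ← pow_add, add_comm]
    exact mul_right_cancel this
  have h2 : b ^ t = (a ^ k)⁻¹ * a ^ i := by
    rw [h1]; group
  have h3 : a ^ (u ^ t) = a := by
    have h4 := h.pow_mul_pow 1 t
    have h5 : b ^ t * a ^ 1 = a ^ 1 * b ^ t := by
      rw [h2, pow_one]
      have e1 : Commute ((a ^ k)⁻¹ * a ^ i) a :=
        Commute.mul_left ((Commute.pow_left (Commute.refl a) k).inv_left)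
          (Commute.pow_left (Commute.refl a) i)
      exact e1.eq
    rw [h4, one_mul] at h5
    exact mul_right_cancel h5 |>.trans (pow_one a)
  have hdgs : ((p ^ n : ℕ) : ℤ) ∣ (gs u t : ℤ) := by
    rw [← h.crit, gs_int]
    have h6 : a ^ (u ^ t) = a ^ 1 := by rwa [pow_one]
    rw [h.pow_eq_pow_iff] at h6
    have h7 := dvd_neg.mpr h6
    simpa using h7
  have hdgs' : p ^ n ∣ gs u t := by exact_mod_cast hdgs
  refine ⟨?_, hdgs', ?_⟩
  · -- conjugate by `b`
    have h8 : a ^ (i * u) = a ^ (k * u) * b ^ t := by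
      have h9 := h.conj_pow i
      rw [h1] at h9
      have h10 : b * (a ^ k * b ^ t) * b⁻¹ = (b * a ^ k * b⁻¹) * (b * b ^ t * b⁻¹) := by group
      have h11 : b * b ^ t * b⁻¹ = b ^ t := by
        rw [← pow_succ', pow_succ]
        group
      rw [h10, h11, h.conj_pow] at h9
      exact h9.symm
    rw [h2] at h8
    have h12 : a ^ (i * u + k) = a ^ (k * u + i) := by
      have : a ^ (i * u + k) = a ^ (i * u) * a ^ k := pow_add _ _ _
      rw [this, h8]
      rw [pow_add a (k * u) i]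
      have c1 : Commute (a ^ k) (a ^ i) := (Commute.refl a).pow_pow k i
      have c2 : Commute ((a ^ k)⁻¹ * a ^ i) (a ^ k) :=
        Commute.mul_left ((Commute.refl (a ^ k)).inv_left) c1.symm
      rw [mul_assoc, c2.eq]
      group
    rw [h.pow_eq_pow_iff] at h12
    rw [← h.crit]
    have e : ((k * u + i : ℕ) : ℤ) - ((i * u + k : ℕ) : ℤ) = -(((u : ℤ) - 1) * ((i : ℤ) - k)) := by
      push_cast
      ring
    rw [e] at h12
    exact (dvd_neg.mp h12)
  · have h6 : ((u ^ t : ℕ) : ℤ) - 1 = ((u : ℤ) - 1) * (gs u t : ℤ) := by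
      push_cast
      rw [gs_int]
    exact (Nat.modEq_iff_dvd.mpr (by
      push_cast at h6 ⊢
      rw [h6]
      exact Dvd.dvd.mul_left hdgs _)).symm

theorem normal_zpowers (h : MC p a b u m r n) : (Subgroup.zpowers a).Normal := by
  constructor
  intro x hx g
  obtain ⟨i, j, rfl⟩ := h.gen g
  obtain ⟨k, rfl⟩ := Subgroup.mem_zpowers_iff.mp hx
  have h1 : ∀ j : ℕ, b ^ j * a * (b ^ j)⁻¹ ∈ Subgroup.zpowers a := by
    intro j
    have h2 := h.pow_mul_pow 1 j
    rw [pow_one, one_mul] at h2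
    rw [h2]
    simp
  have h3 : a ^ i * b ^ j * a * (a ^ i * b ^ j)⁻¹ = a ^ i * (b ^ j * a * (b ^ j)⁻¹) * (a ^ i)⁻¹ := by
    group
  have h4 : a ^ i * b ^ j * a * (a ^ i * b ^ j)⁻¹ ∈ Subgroup.zpowers a := by
    rw [h3]
    exact mul_mem (mul_mem (pow_mem (Subgroup.mem_zpowers a) i) (h1 j))
      (inv_mem (pow_mem (Subgroup.mem_zpowers a) i))
  have h5 : a ^ i * b ^ j * a ^ k * (a ^ i * b ^ j)⁻¹ =
      (a ^ i * b ^ j * a * (a ^ i * b ^ j)⁻¹) ^ k := by
    rw [conj_zpow]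
  rw [h5]
  exact zpow_mem h4 k

theorem orderOf_mk (h : MC p a b u m r n) :
    letI := h.normal_zpowers
    orderOf ((b : G) : G ⧸ Subgroup.zpowers a) = p ^ r := by
  letI := h.normal_zpowers
  apply Nat.dvd_antisymm
  · apply orderOf_dvd_of_pow_eq_one
    rw [← QuotientGroup.mk_pow, QuotientGroup.eq_one_iff]
    exact (h.tower _).mpr dvd_rfl
  · rw [← h.tower, ← QuotientGroup.eq_one_iff, QuotientGroup.mk_pow]
    exact pow_orderOf_eq_one _

theorem card_eq [Finite G] (h : MC p a b u m r n) : Nat.card G = p ^ (m + r) := by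
  letI := h.normal_zpowers
  have h1 : Nat.card (G ⧸ Subgroup.zpowers a) = p ^ r := by
    rw [← h.orderOf_mk]
    symm
    apply orderOf_eq_card_of_forall_mem_zpowers
    intro g
    obtain ⟨g, rfl⟩ := QuotientGroup.mk_surjective g
    obtain ⟨i, j, rfl⟩ := h.gen g
    refine ⟨(j : ℤ), ?_⟩
    have : ((a ^ i * b ^ j : G) : G ⧸ Subgroup.zpowers a) = ((b : G) : G ⧸ Subgroup.zpowers a) ^ j := by
      rw [QuotientGroup.mk_mul, QuotientGroup.mk_pow, QuotientGroup.mk_pow,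
        (QuotientGroup.eq_one_iff a).mpr (Subgroup.mem_zpowers a), one_pow, one_mul]
    simp only [zpow_natCast]
    exact this.symm
  have h2 := Subgroup.card_mul_index (Subgroup.zpowers a)
  rw [Nat.card_zpowers, h.order, Subgroup.index_eq_card, h1] at h2
  rw [pow_add, h2]

theorem pow_sub_one_pow (h : MC p a b u m r n) (x : ℕ) :
    (a ^ (u - 1)) ^ x = 1 ↔ p ^ n ∣ x := by
  have hu := h.u_gt
  rw [← pow_mul, ← orderOf_dvd_iff_pow_eq_one, h.order]
  have h1 := h.crit (x : ℤ)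
  have h2 : ((u : ℤ) - 1) * (x : ℤ) = (((u - 1) * x : ℕ) : ℤ) := by
    push_cast [Nat.cast_sub hu.le]
    ring
  rw [h2] at h1
  exact_mod_cast h1

theorem orderOf_pow_sub_one (h : MC p a b u m r n) : orderOf (a ^ (u - 1)) = p ^ n := by
  apply Nat.dvd_antisymm
  · apply orderOf_dvd_of_pow_eq_one
    exact (h.pow_sub_one_pow _).mpr dvd_rfl
  · exact (h.pow_sub_one_pow _).mp (pow_orderOf_eq_one _)

theorem commutator_eq (h : MC p a b u m r n) :
    commutator G = Subgroup.zpowers (a ^ (u - 1)) := by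
  have hu := h.u_gt
  apply le_antisymm
  · unfold commutator
    rw [Subgroup.commutator_le]
    intro x _ y _
    obtain ⟨i, j, rfl⟩ := h.gen x
    obtain ⟨k, l, rfl⟩ := h.gen y
    have e1 : ⁅a ^ i * b ^ j, a ^ k * b ^ l⁆ =
        (a ^ i * b ^ j * (a ^ k * b ^ l)) * (a ^ k * b ^ l * (a ^ i * b ^ j))⁻¹ := by
      rw [commutatorElement_def]
      group
    rw [e1, h.mul_form, h.mul_form, add_comm l j, mul_inv_rev, mul_assoc, mul_inv_cancel_left,
      ← zpow_natCast a (i + k * u ^ j), ← zpow_natCast a (k + i * u ^ l), ← zpow_neg, ← zpow_add]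
    refine Subgroup.mem_zpowers_iff.mpr ⟨(k : ℤ) * (gs u j : ℤ) - (i : ℤ) * (gs u l : ℤ), ?_⟩
    rw [← zpow_natCast a (u - 1), ← zpow_mul]
    congr 1
    push_cast [Nat.cast_sub hu.le]
    have h1 := gs_int u l
    have h2 := gs_int u j
    linear_combination ((k : ℤ)) * h2 - (i : ℤ) * h1
  · rw [Subgroup.zpowers_le]
    have h1 : a ^ (u - 1) = ⁅b, a⁆ := by
      rw [commutatorElement_def, h.conj]
      conv_lhs => rw [show u = (u - 1) + 1 by omega]
      simp [pow_succ]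
      rw [show u = (u - 1) + 1 by omega]
      simp [pow_succ]
    rw [h1]
    exact Subgroup.commutator_mem_commutator (Subgroup.mem_top _) (Subgroup.mem_top _)

theorem card_commutator (h : MC p a b u m r n) : Nat.card (commutator G) = p ^ n := by
  rw [h.commutator_eq, Nat.card_zpowers, h.orderOf_pow_sub_one]

theorem n_le_m (h : MC p a b u m r n) : n ≤ m := by
  have hp1 := hp.out.one_lt
  have h1 := (h.crit ((p ^ m : ℕ) : ℤ)).mp (Dvd.intro_left _ rfl)
  have h2 : p ^ n ∣ p ^ m := by exact_mod_cast h1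
  exact (Nat.pow_dvd_pow_iff_le_right hp1).mp h2

/-- `b^(p^r)` lies in `⟨a⟩`, hence commutes with `a`. -/
theorem dvd_gs_tower (h : MC p a b u m r n) : p ^ n ∣ gs u (p ^ r) := by
  have h1 : b ^ p ^ r ∈ Subgroup.zpowers a := (h.tower _).mpr dvd_rfl
  obtain ⟨k, hk⟩ := Subgroup.mem_zpowers_iff.mp h1
  have h2 : b ^ p ^ r * a ^ 1 = a ^ 1 * b ^ p ^ r := by
    rw [← hk, pow_one]
    exact ((Commute.refl a).zpow_left k).eq
  rw [h.pow_mul_pow, one_mul] at h2
  have h3 : a ^ (u ^ p ^ r) = a ^ 1 := mul_right_cancel h2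
  rw [h.pow_eq_pow_iff] at h3
  have h4 : ((p ^ n : ℕ) : ℤ) ∣ (gs u (p ^ r) : ℤ) := by
    rw [← h.crit, gs_int]
    have h7 := dvd_neg.mpr h3
    simpa using h7
  exact_mod_cast h4

theorem n_le_r (hodd : p ≠ 2) (h : MC p a b u m r n) : n ≤ r := by
  have hp1 := hp.out.one_lt
  have h1 := (dvd_gs_iff hodd h.u_mod h.u_pos n (p ^ r)).mp h.dvd_gs_tower
  exact (Nat.pow_dvd_pow_iff_le_right hp1).mp h1

theorem eps_aux (h : MC p a b u m r n) {ε : ℕ} (he : b ^ p ^ r = a ^ ε) :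
    ((p ^ n : ℕ) : ℤ) ∣ (ε : ℤ) := by
  rw [← h.crit]
  have h1 : b * a ^ ε * b⁻¹ = a ^ ε := by
    rw [← he]
    group
  rw [h.conj_pow] at h1
  rw [h.pow_eq_pow_iff] at h1
  have e : ((ε : ℕ) : ℤ) - ((ε * u : ℕ) : ℤ) = -(((u : ℤ) - 1) * (ε : ℤ)) := by
    push_cast
    ring
  rw [e] at h1
  exact dvd_neg.mp h1

end MC

/-- The existence of a presentation for a metacyclic `p`-group. -/
theorem exists_MC [Finite G] (hG : IsPGroup p G) (hmc : IsMetacyclic G) :
    ∃ (a b : G) (u m r n : ℕ), MC p a b u m r n := by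
  obtain ⟨N, hN, hNc, hQc⟩ := hmc
  obtain ⟨a', ha'⟩ := IsCyclic.exists_generator (α := N)
  obtain ⟨bb, hbb⟩ := IsCyclic.exists_generator (α := G ⧸ N)
  obtain ⟨b, rfl⟩ := QuotientGroup.mk_surjective bb
  set a : G := (a' : G) with ha
  have hNa : N = Subgroup.zpowers a := by
    apply le_antisymm
    · intro x hx
      obtain ⟨k, hk⟩ := Subgroup.mem_zpowers_iff.mp (ha' ⟨x, hx⟩)
      refine Subgroup.mem_zpowers_iff.mpr ⟨k, ?_⟩
      have := congrArg (Subtype.val) hk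
      simpa using this
    · rw [Subgroup.zpowers_le]
      exact a'.2
  obtain ⟨m, hm⟩ := (IsPGroup.iff_orderOf.mp hG) a
  obtain ⟨r, hr⟩ := (IsPGroup.iff_orderOf.mp (hG.to_quotient N)) ((b : G) : G ⧸ N)
  have hba : b * a * b⁻¹ ∈ Subgroup.zpowers a := by
    rw [← hNa]
    exact hN.conj_mem a a'.2 b
  obtain ⟨u₀, hu₀⟩ : ∃ u₀ : ℕ, a ^ u₀ = b * a * b⁻¹ := by
    obtain ⟨k, hk⟩ := (mem_powers_iff_mem_zpowers.mpr hba)
    exact ⟨k, hk⟩
  have htower : ∀ t : ℕ, b ^ t ∈ Subgroup.zpowers a ↔ p ^ r ∣ t := by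
    intro t
    rw [← hNa, ← hr, orderOf_dvd_iff_pow_eq_one, ← QuotientGroup.mk_pow, QuotientGroup.eq_one_iff]
  have hconj_pow : ∀ t : ℕ, b ^ t * a * (b ^ t)⁻¹ = a ^ (u₀ ^ t) := by
    intro t
    induction t with
    | zero => simp
    | succ t ih =>
      have e1 : b ^ (t + 1) * a * (b ^ (t + 1))⁻¹ = b ^ t * (b * a * b⁻¹) * (b ^ t)⁻¹ := by
        rw [pow_succ]
        group
      rw [e1, ← hu₀]
      have e2 : b ^ t * a ^ u₀ * (b ^ t)⁻¹ = (b ^ t * a * (b ^ t)⁻¹) ^ u₀ := by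
        rw [conj_pow]
      rw [e2, ih, ← pow_mul, pow_succ]
  have hmod : 1 ≤ m → u₀ ≡ 1 [MOD p] := by
    intro hm1
    have h1 : b ^ p ^ r ∈ Subgroup.zpowers a := (htower _).mpr dvd_rfl
    obtain ⟨k, hk⟩ := Subgroup.mem_zpowers_iff.mp h1
    have h2 : a ^ (u₀ ^ p ^ r) = a := by
      rw [← hconj_pow, ← hk]
      have : a ^ k * a = a * a ^ k := ((Commute.refl a).zpow_left k).eq
      rw [this]
      group
    have h3 : a ^ (u₀ ^ p ^ r) = a ^ 1 := by rwa [pow_one]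
    rw [pow_eq_pow_iff_modEq, hm] at h3
    have h4 : u₀ ^ p ^ r ≡ 1 [MOD p] :=
      h3.of_dvd (dvd_pow_self p (by omega))
    have h5 : ((u₀ : ZMod p)) ^ p ^ r = (u₀ : ZMod p) := ZMod.pow_card_pow _
    have h6 : (u₀ : ZMod p) = 1 := by
      rw [← h5]
      have := (ZMod.natCast_eq_natCast_iff _ _ _).mpr h4
      push_cast at this
      exact this
    have := (ZMod.natCast_eq_natCast_iff u₀ 1 p).mp (by simpa using h6)
    exact this
  -- the exponent `u`
  obtain ⟨u, hu1, hu2, hu3⟩ : ∃ u : ℕ, 1 < u ∧ u ≡ 1 [MOD p] ∧ a ^ u = b * a * b⁻¹ := by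
    rcases Nat.eq_zero_or_pos m with hm0 | hm0
    · subst hm0
      have ha1 : a = 1 := by simpa using hm
      refine ⟨1 + p, ?_, ?_, ?_⟩
      · have := hp.out.pos
        omega
      · simp [Nat.ModEq]
      · rw [ha1]; simp
    · refine ⟨u₀ + p ^ (m + 1), ?_, ?_, ?_⟩
      · have h1 : 1 < p ^ (m + 1) := Nat.one_lt_pow (by omega) hp.out.one_lt
        omega
      · have h1 : p ^ (m + 1) ≡ 0 [MOD p] := by
          apply (Nat.modEq_zero_iff_dvd).mpr
          exact dvd_pow_self p (by omega)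
        simpa using (hmod hm0).add h1
      · rw [pow_add, pow_succ, pow_mul, ← hm, pow_orderOf_eq_one, one_pow, mul_one, hu₀]
  -- the number `n`
  set s := padicValNat p (u - 1) with hs
  obtain ⟨w, hw, hwc⟩ : ∃ w : ℕ, u - 1 = p ^ s * w ∧ Nat.Coprime p w := by
    have h1 : p ^ s ∣ u - 1 := pow_padicValNat_dvd
    obtain ⟨w, hw⟩ := h1
    refine ⟨w, hw, ?_⟩
    rw [Nat.Prime.coprime_iff_not_dvd hp.out]
    intro hd
    have h2 : p ^ (s + 1) ∣ u - 1 := by
      rw [hw, pow_succ]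
      exact Nat.mul_dvd_mul_left _ hd
    have h3 : u - 1 ≠ 0 := by omega
    have := (padicValNat_dvd_iff_le h3).mp h2
    omega
  refine ⟨a, b, u, m, r, m - s, ?_⟩
  refine
    { conj := hu3.symm
      u_gt := hu1
      u_mod := hu2
      order := hm
      gen := ?_
      crit := ?_
      tower := htower }
  · intro g
    obtain ⟨j, hj⟩ : ∃ j : ℕ, ((b : G) : G ⧸ N) ^ j = ((g : G) : G ⧸ N) := by
      have := hbb ((g : G) : G ⧸ N)
      exact mem_powers_iff_mem_zpowers.mpr this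
    have h1 : g * (b ^ j)⁻¹ ∈ N := by
      rw [← QuotientGroup.eq_one_iff, QuotientGroup.mk_mul, QuotientGroup.mk_inv,
        QuotientGroup.mk_pow, hj, mul_inv_cancel]
    rw [hNa] at h1
    obtain ⟨i, hi⟩ := mem_powers_iff_mem_zpowers.mpr h1
    refine ⟨i, j, ?_⟩
    have hi' : a ^ i = g * (b ^ j)⁻¹ := hi
    rw [hi']
    group
  · intro X
    have e : ((u : ℤ) - 1) = ((p ^ s : ℕ) : ℤ) * (w : ℤ) := by
      have : ((u - 1 : ℕ) : ℤ) = ((p ^ s * w : ℕ) : ℤ) := by rw [hw]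
      push_cast [Nat.cast_sub hu1.le] at this
      push_cast
      exact this
    have hwc' : IsCoprime ((p : ℤ)) (w : ℤ) := by
      exact_mod_cast Nat.isCoprime_iff_coprime.mpr hwc
    rw [e]
    rcases le_total m s with hle | hle
    · have h0 : m - s = 0 := by omega
      rw [h0]
      simp only [pow_zero, Nat.cast_one, one_dvd, iff_true]
      have h1 : ((p ^ m : ℕ) : ℤ) ∣ ((p ^ s : ℕ) : ℤ) := by
        exact_mod_cast pow_dvd_pow p hle
      exact Dvd.dvd.mul_right (Dvd.dvd.mul_right h1 _) _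
    · obtain ⟨t, rfl⟩ := Nat.exists_eq_add_of_le hle
      have h0 : s + t - s = t := by omega
      rw [h0]
      have hps : ((p ^ s : ℕ) : ℤ) ≠ 0 := by
        have := hp.out.ne_zero
        positivity
      have e2 : ((p ^ (s + t) : ℕ) : ℤ) = ((p ^ s : ℕ) : ℤ) * ((p ^ t : ℕ) : ℤ) := by
        push_cast
        rw [pow_add]
      rw [e2, mul_assoc, mul_dvd_mul_iff_left hps]
      have hcop : IsCoprime ((p ^ t : ℕ) : ℤ) (w : ℤ) := by
        push_cast
        exact IsCoprime.pow_left hwc'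
      exact ⟨fun h => hcop.dvd_of_dvd_mul_left h, fun h => Dvd.dvd.mul_left h _⟩

end MC

end Cfsg.Agent.Lib.PGroup.Meta
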