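import Mathlib
import Cfsg.Prelude.Def_Transfer
import Cfsg.Agent.Lib.PGroup.ClassTwo
import Cfsg.Agent.Lib.Core.Frattini

/-!
# The Heisenberg group `p^(1+2n)`

`Heis p n` is `F_p^n × F_p^n × F_p` with the law
`(a, b, c) (a', b', c') = (a + a', b + b', c + c' + a·b')`.
It is extraspecial of exponent `p` for odd `p`, `n ≥ 1`, and embeds in `GL_{n+2}(p)`.
-/

set_option autoImplicit false

namespace Cfsg.Agent.Lib.PGroup

open Subgroup Cfsg
open scoped commutatorElement

/-- The Heisenberg group. -/
@[ext] structure Heis (p n : ℕ) where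
  a : Fin n → ZMod p
  b : Fin n → ZMod p
  c : ZMod p

namespace Heis

variable {p n : ℕ}

instance : Mul (Heis p n) := ⟨fun x y => ⟨x.a + y.a, x.b + y.b, x.c + y.c + x.a ⬝ᵥ y.b⟩⟩
instance : One (Heis p n) := ⟨⟨0, 0, 0⟩⟩
instance : Inv (Heis p n) := ⟨fun x => ⟨-x.a, -x.b, x.a ⬝ᵥ x.b - x.c⟩⟩

@[simp] theorem mul_a (x y : Heis p n) : (x * y).a = x.a + y.a := rfl
@[simp] theorem mul_b (x y : Heis p n) : (x * y).b = x.b + y.b := rfl
@[simp] theorem mul_c (x y : Heis p n) : (x * y).c = x.c + y.c + x.a ⬝ᵥ y.b := rfl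
@[simp] theorem one_a : (1 : Heis p n).a = 0 := rfl
@[simp] theorem one_b : (1 : Heis p n).b = 0 := rfl
@[simp] theorem one_c : (1 : Heis p n).c = 0 := rfl
@[simp] theorem inv_a (x : Heis p n) : x⁻¹.a = -x.a := rfl
@[simp] theorem inv_b (x : Heis p n) : x⁻¹.b = -x.b := rfl
@[simp] theorem inv_c (x : Heis p n) : x⁻¹.c = x.a ⬝ᵥ x.b - x.c := rfl

instance : Group (Heis p n) := Group.ofLeftAxioms
  (fun x y z => by
    ext i
    · simp [add_assoc]
    · simp [add_assoc]
    · simp [add_dotProduct, dotProduct_add]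
      ring)
  (fun x => by
    ext i
    · simp
    · simp
    · simp)
  (fun x => by
    ext i
    · simp
    · simp
    · simp)

/-- As a product. -/
def toProd : Heis p n ≃ (Fin n → ZMod p) × (Fin n → ZMod p) × ZMod p where
  toFun x := (x.a, x.b, x.c)
  invFun x := ⟨x.1, x.2.1, x.2.2⟩
  left_inv _ := rfl
  right_inv _ := rfl

variable [hp : Fact p.Prime]

instance : Finite (Heis p n) := Finite.of_equiv _ toProd.symm

theorem card_eq : Nat.card (Heis p n) = p ^ (1 + 2 * n) := by
  rw [Nat.card_congr toProd, Nat.card_prod, Nat.card_prod]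
  simp only [Nat.card_eq_fintype_card, Fintype.card_fun, ZMod.card, Fintype.card_fin]
  ring

theorem isPGroup : IsPGroup p (Heis p n) := IsPGroup.of_card card_eq

theorem pow_eq (x : Heis p n) (k : ℕ) :
    x ^ k = ⟨(k : ZMod p) • x.a, (k : ZMod p) • x.b,
      (k : ZMod p) * x.c + ((k.choose 2 : ℕ) : ZMod p) * (x.a ⬝ᵥ x.b)⟩ := by
  induction k with
  | zero => 
    ext i <;> simp
  | succ k ih =>
    rw [pow_succ, ih]
    ext i
    · simp [add_mul]
    · simp [add_mul]
    · simp [Nat.choose_succ_succ', smul_dotProduct]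
      ring

theorem pow_prime (hp2 : p ≠ 2) (x : Heis p n) : x ^ p = 1 := by
  have hpp : p.Prime := hp.out
  have hd : p ∣ p.choose 2 := hpp.dvd_choose_self (by norm_num) (by
    have := hpp.two_le
    omega)
  have h0 : ((p.choose 2 : ℕ) : ZMod p) = 0 := (ZMod.natCast_eq_zero_iff _ _).2 hd
  rw [pow_eq]
  ext i <;> simp [h0]

/-- The first two coordinates. -/
def proj (p n : ℕ) : Heis p n →* Multiplicative ((Fin n → ZMod p) × (Fin n → ZMod p)) where
  toFun x := Multiplicative.ofAdd (x.a, x.b)
  map_one' := rfl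
  map_mul' _ _ := rfl

theorem dot_left_eq_zero {u : Fin n → ZMod p} (h : ∀ v, u ⬝ᵥ v = 0) : u = 0 := by
  ext i
  have := h (Pi.single i 1)
  simpa using this

theorem dot_right_eq_zero {u : Fin n → ZMod p} (h : ∀ v, v ⬝ᵥ u = 0) : u = 0 := by
  ext i
  have := h (Pi.single i 1)
  simpa using this

theorem mem_center_iff' {x : Heis p n} : x ∈ center (Heis p n) ↔ x.a = 0 ∧ x.b = 0 := by
  rw [Subgroup.mem_center_iff]
  constructor
  · intro h
    constructor
    · refine dot_left_eq_zero fun v => ?_
      have h1 := h ⟨0, v, 0⟩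
      have h2 := congrArg Heis.c h1
      simpa using h2.symm
    · refine dot_right_eq_zero fun v => ?_
      have h1 := h ⟨v, 0, 0⟩
      have h2 := congrArg Heis.c h1
      simpa using h2
  · rintro ⟨h1, h2⟩ g
    ext i
    · simp [add_comm]
    · simp [add_comm]
    · simp [h1, h2, add_comm]

theorem ker_proj : (proj p n).ker = center (Heis p n) := by
  ext x
  rw [mem_center_iff', MonoidHom.mem_ker]
  constructor
  · intro h
    have h1 : ((x.a, x.b) : (Fin n → ZMod p) × (Fin n → ZMod p)) = 0 := h
    exact ⟨congrArg Prod.fst h1, congrArg Prod.snd h1⟩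
  · rintro ⟨h1, h2⟩
    show Multiplicative.ofAdd (x.a, x.b) = 1
    rw [h1, h2]
    rfl

theorem card_center : Nat.card (center (Heis p n)) = p := by
  let e : center (Heis p n) ≃ ZMod p :=
    { toFun := fun x => (x : Heis p n).c
      invFun := fun c => ⟨⟨0, 0, c⟩, mem_center_iff'.2 ⟨rfl, rfl⟩⟩
      left_inv := by
        rintro ⟨x, hx⟩
        obtain ⟨h1, h2⟩ := mem_center_iff'.1 hx
        apply Subtype.ext
        ext i
        · simp [h1]
        · simp [h2]
        · rfl
      right_inv := fun _ => rfl }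
  rw [Nat.card_congr e, Nat.card_zmod]

theorem commutator_le_center : commutator (Heis p n) ≤ center (Heis p n) := by
  rw [← ker_proj]
  exact Abelianization.commutator_subset_ker _

theorem center_le_commutator (hn : 1 ≤ n) : center (Heis p n) ≤ commutator (Heis p n) := by
  have hpp : p.Prime := hp.out
  intro x hx
  obtain ⟨h1, h2⟩ := mem_center_iff'.1 hx
  let i0 : Fin n := ⟨0, by omega⟩
  let e : Fin n → ZMod p := Pi.single i0 1
  let g : Heis p n := ⟨e, 0, 0⟩
  let h : Heis p n := ⟨0, e, 0⟩
  have hz : (⟨0, 0, 1⟩ : Heis p n) ∈ commutator (Heis p n) := by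
    have h3 := Subgroup.commutator_mem_commutator (mem_top g) (mem_top h)
    have h4 : ⁅g, h⁆ = ⟨0, 0, 1⟩ := by
      rw [commutatorElement_def]
      ext i
      · simp [g, h]
      · simp [g, h]
      · simp [g, h, e]
    rw [h4] at h3
    exact h3
  have hpow : ∀ k : ℕ, (⟨0, 0, 1⟩ : Heis p n) ^ k = ⟨0, 0, (k : ZMod p)⟩ := by
    intro k
    rw [pow_eq]
    ext i <;> simp
  have hx' : x = (⟨0, 0, 1⟩ : Heis p n) ^ (x.c.val) := by
    rw [hpow]
    haveI : NeZero p := ⟨hpp.ne_zero⟩
    ext i
    · simp [h1]
    · simp [h2]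
    · simp
  rw [hx']
  exact pow_mem hz _

/-- Coordinate homomorphisms. -/
def coordA (p n : ℕ) (i : Fin n) : Heis p n →* Multiplicative (ZMod p) where
  toFun x := Multiplicative.ofAdd (x.a i)
  map_one' := rfl
  map_mul' _ _ := rfl

def coordB (p n : ℕ) (i : Fin n) : Heis p n →* Multiplicative (ZMod p) where
  toFun x := Multiplicative.ofAdd (x.b i)
  map_one' := rfl
  map_mul' _ _ := rfl

theorem isCoatom_ker_of_surjective (f : Heis p n →* Multiplicative (ZMod p))
    (hf : Function.Surjective f) : IsCoatom f.ker := by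
  refine isCoatom_of_index_prime ?_
  rw [Subgroup.index_ker, MonoidHom.range_eq_top.2 hf, Subgroup.card_top, Nat.card_congr Multiplicative.toAdd,
    Nat.card_zmod]
  exact hp.out

theorem frattini_le_center : frattini (Heis p n) ≤ center (Heis p n) := by
  intro x hx
  rw [Cfsg.Agent.Lib.Core.mem_frattini_iff] at hx
  rw [mem_center_iff']
  constructor
  · ext i
    have h1 := hx _ (isCoatom_ker_of_surjective (coordA p n i) (fun z => by
      refine ⟨⟨(Pi.single i (Multiplicative.toAdd z) : Fin n → ZMod p), 0, 0⟩, ?_⟩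
      show Multiplicative.ofAdd ((Pi.single i (Multiplicative.toAdd z) : Fin n → ZMod p) i) = z
      simp))
    exact h1
  · ext i
    have h1 := hx _ (isCoatom_ker_of_surjective (coordB p n i) (fun z => by
      refine ⟨⟨0, (Pi.single i (Multiplicative.toAdd z) : Fin n → ZMod p), 0⟩, ?_⟩
      show Multiplicative.ofAdd ((Pi.single i (Multiplicative.toAdd z) : Fin n → ZMod p) i) = z
      simp))
    exact h1

theorem commutator_le_frattini : commutator (Heis p n) ≤ frattini (Heis p n) := by
  intro y hy
  rw [Cfsg.Agent.Lib.Core.mem_frattini_iff]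
  intro M hM
  have hi := index_eq_prime_of_isCoatom isPGroup hM
  haveI := normal_of_index_eq_prime isPGroup hi
  exact commutator_le_of_index_prime hi hy

theorem isExtraspecial (hn : 1 ≤ n) : IsExtraspecial p (Heis p n) := by
  have h1 : commutator (Heis p n) = center (Heis p n) :=
    le_antisymm commutator_le_center (center_le_commutator hn)
  refine ⟨⟨isPGroup, le_antisymm frattini_le_center ?_, h1⟩, card_center⟩
  rw [← h1]
  exact commutator_le_frattini

/-- The module on which `Heis p n` acts. -/
abbrev W (p n : ℕ) := ZMod p × (Fin n → ZMod p) × ZMod p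

/-- The action on `W`. -/
def act (x : Heis p n) : W p n →ₗ[ZMod p] W p n where
  toFun w := (w.1 + x.a ⬝ᵥ w.2.1 + x.c * w.2.2, w.2.1 + w.2.2 • x.b, w.2.2)
  map_add' w w' := by
    refine Prod.ext ?_ (Prod.ext ?_ ?_)
    · simp only [Prod.fst_add, Prod.snd_add, dotProduct_add]
      ring
    · simp only [Prod.fst_add, Prod.snd_add, add_smul]
      abel
    · simp only [Prod.snd_add]
  map_smul' k w := by
    refine Prod.ext ?_ (Prod.ext ?_ ?_)
    · simp only [Prod.smul_fst, Prod.smul_snd, dotProduct_smul, RingHom.id_apply, smul_eq_mul]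
      ring
    · simp only [Prod.smul_fst, Prod.smul_snd, RingHom.id_apply, mul_smul, smul_add, smul_eq_mul]
    · simp only [Prod.smul_snd, RingHom.id_apply]

theorem act_apply (x : Heis p n) (w : W p n) :
    act x w = (w.1 + x.a ⬝ᵥ w.2.1 + x.c * w.2.2, w.2.1 + w.2.2 • x.b, w.2.2) := rfl

theorem act_mul (x y : Heis p n) : act (x * y) = act x * act y := by
  refine LinearMap.ext fun w => ?_
  rw [Module.End.mul_apply, act_apply, act_apply, act_apply]
  refine Prod.ext ?_ (Prod.ext ?_ ?_)
  · simp only [mul_a, mul_b, mul_c, dotProduct_add, add_dotProduct, dotProduct_smul, smul_eq_mul]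
    ring
  · simp only [mul_b, smul_add]
    abel
  · rfl

theorem act_one : act (1 : Heis p n) = 1 := by
  refine LinearMap.ext fun w => ?_
  rw [act_apply, Module.End.one_apply]
  refine Prod.ext ?_ (Prod.ext ?_ ?_)
  · simp
  · simp
  · rfl

theorem act_injective : Function.Injective (act : Heis p n → W p n →ₗ[ZMod p] W p n) := by
  intro x y h
  have h1 : ∀ w, act x w = act y w := fun w => by rw [h]
  ext i
  · have h2 := congrArg Prod.fst (h1 (0, Pi.single i 1, 0))
    simpa [act_apply] using h2
  · have h2 := congrArg (fun w : W p n => w.2.1) (h1 (0, 0, 1))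
    have h3 := congrFun h2 i
    simpa [act_apply] using h3
  · have h2 := congrArg Prod.fst (h1 (0, 0, 1))
    simpa [act_apply] using h2

/-- An embedding into `GL_{n+2}(p)`. -/
theorem exists_embedding :
    ∃ f : Heis p n →* Matrix.GeneralLinearGroup (Fin (n + 2)) (ZMod p), Function.Injective f := by
  classical
  have hfr : Module.finrank (ZMod p) (W p n) = Module.finrank (ZMod p) (Fin (n + 2) → ZMod p) := by
    simp only [Module.finrank_prod, Module.finrank_fin_fun, Module.finrank_self]
    ring
  let e : W p n ≃ₗ[ZMod p] (Fin (n + 2) → ZMod p) := LinearEquiv.ofFinrankEq _ _ hfr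
  let act' : Heis p n →* Module.End (ZMod p) (Fin (n + 2) → ZMod p) :=
    { toFun := fun x => e.toLinearMap ∘ₗ act x ∘ₗ e.symm.toLinearMap
      map_one' := by
        rw [act_one]
        refine LinearMap.ext fun w => ?_
        simp
      map_mul' := fun x y => by
        rw [act_mul]
        refine LinearMap.ext fun w => ?_
        simp }
  have hact' : Function.Injective act' := by
    intro x y h
    apply act_injective
    refine LinearMap.ext fun w => ?_
    have h1 := congrArg (fun g : Module.End (ZMod p) (Fin (n + 2) → ZMod p) => e.symm (g (e w))) h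
    simpa [act'] using h1
  refine ⟨(Matrix.GeneralLinearGroup.toLin (n := Fin (n + 2)) (R := ZMod p)).symm.toMonoidHom.comp
    (MonoidHom.toHomUnits act'), ?_⟩
  intro x y h
  apply hact'
  have h1 := (Matrix.GeneralLinearGroup.toLin (n := Fin (n + 2)) (R := ZMod p)).symm.injective h
  exact congrArg Units.val h1

end Heis

/-- Being extraspecial is invariant under isomorphism. -/
theorem isExtraspecial_of_equiv {H K : Type*} [Group H] [Group K] [Finite H] [Finite K] {p : ℕ}
    (e : H ≃* K) (h : IsExtraspecial p H) : IsExtraspecial p K := by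
  obtain ⟨⟨h1, h2, h3⟩, h4⟩ := h
  have hc : (center H).map e.toMonoidHom = center K := by
    ext x
    constructor
    · rintro ⟨y, hy, rfl⟩
      rw [mem_center_iff]
      intro z
      obtain ⟨w, rfl⟩ := e.surjective z
      show e w * e y = e y * e w
      rw [← map_mul, ← map_mul, mem_center_iff.1 hy w]
    · intro hx
      refine ⟨e.symm x, ?_, by simp⟩
      rw [SetLike.mem_coe, mem_center_iff]
      intro z
      apply e.injective
      rw [map_mul, map_mul, e.apply_symm_apply]
      exact mem_center_iff.1 hx (e z)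
  have hf1 : (frattini H).map e.toMonoidHom ≤ frattini K :=
    Cfsg.Agent.Lib.Core.map_frattini_le_of_surjective _ e.surjective
  have hf2 : (frattini K).map e.symm.toMonoidHom ≤ frattini H :=
    Cfsg.Agent.Lib.Core.map_frattini_le_of_surjective _ e.symm.surjective
  have hf : (frattini H).map e.toMonoidHom = frattini K := by
    refine le_antisymm hf1 ?_
    intro x hx
    exact ⟨e.symm x, hf2 ⟨x, hx, rfl⟩, by simp⟩
  have hcm : (commutator H).map e.toMonoidHom = commutator K := by
    rw [commutator_def, commutator_def, Subgroup.map_commutator,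
      Subgroup.map_top_of_surjective _ e.surjective]
  refine ⟨⟨h1.of_surjective e.toMonoidHom e.surjective, ?_, ?_⟩, ?_⟩
  · rw [← hf, h2, hc]
  · rw [← hcm, h3, hc]
  · rw [← hc, Subgroup.card_map_of_injective e.injective, h4]

end Cfsg.Agent.Lib.PGroup
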