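import Mathlib
import Cfsg.Agent.Lib.PGroup.ConjAbA
import Cfsg.Agent.Lib.Hall.Basic
import Cfsg.Agent.Lib.PSolv.Basic
import Cfsg.Agent.Lib.Core.Basic

/-!
# Subgroups of equal order in Z-groups are conjugate
-/

set_option autoImplicit false

namespace Cfsg.Agent.Lib.PGroup.ConjAb

open Subgroup Cfsg.Agent.Lib.Techniques
open scoped Pointwise

universe u

section

variable {Γ : Type u} [Group Γ] [Finite Γ]

theorem eq_of_card_eq_of_isCyclic [IsCyclic Γ] (A B : Subgroup Γ) (h : Nat.card A = Nat.card B) :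
    A = B := by
  classical
  haveI := Fintype.ofFinite Γ
  have key : ∀ C : Subgroup Γ, ∀ x : Γ, x ∈ C ↔ x ^ Nat.card C = 1 := by
    intro C x
    constructor
    · intro hx
      exact orderOf_dvd_iff_pow_eq_one.mp (Subgroup.orderOf_dvd_natCard C hx)
    · intro hx
      have hpos : 0 < Nat.card C := Nat.card_pos
      have hle := IsCyclic.card_pow_eq_one_le (α := Γ) hpos
      have hS : (Finset.univ.filter fun y : Γ => y ∈ C) ⊆ (Finset.univ.filter fun y : Γ => y ^ Nat.card C = 1) := by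
        intro y hy
        rw [Finset.mem_filter] at hy ⊢
        exact ⟨hy.1, orderOf_dvd_iff_pow_eq_one.mp (Subgroup.orderOf_dvd_natCard C hy.2)⟩
      have hcard : (Finset.univ.filter fun y : Γ => y ∈ C).card = Nat.card C := by
        rw [Nat.card_eq_fintype_card, Fintype.card_subtype]
      have heq := Finset.eq_of_subset_of_card_le hS (by rw [hcard]; exact hle)
      have hxmem : x ∈ (Finset.univ.filter fun y : Γ => y ^ Nat.card C = 1) := by
        rw [Finset.mem_filter]; exact ⟨Finset.mem_univ _, hx⟩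
      rw [← heq, Finset.mem_filter] at hxmem
      exact hxmem.2
  ext x
  rw [key A x, key B x, h]

theorem eq_of_le_isCyclic {C W₁ W₂ : Subgroup Γ} (hc : IsCyclic C) (h1 : W₁ ≤ C) (h2 : W₂ ≤ C)
    (h : Nat.card W₁ = Nat.card W₂) : W₁ = W₂ := by
  have e1 : Nat.card (W₁.subgroupOf C) = Nat.card W₁ :=
    Nat.card_congr (Subgroup.subgroupOfEquivOfLe h1).toEquiv
  have e2 : Nat.card (W₂.subgroupOf C) = Nat.card W₂ :=
    Nat.card_congr (Subgroup.subgroupOfEquivOfLe h2).toEquiv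
  have h3 := eq_of_card_eq_of_isCyclic (W₁.subgroupOf C) (W₂.subgroupOf C) (by rw [e1, e2, h])
  ext x
  constructor
  · intro hx
    have hxC := h1 hx
    have : (⟨x, hxC⟩ : C) ∈ W₁.subgroupOf C := hx
    rw [h3] at this
    exact this
  · intro hx
    have hxC := h2 hx
    have : (⟨x, hxC⟩ : C) ∈ W₂.subgroupOf C := hx
    rw [← h3] at this
    exact this

/-- Hall's conjugacy inside a subgroup. -/
theorem hall_conj_in [Group.IsSolvable Γ] {T X Y : Subgroup Γ} (hXT : X ≤ T) (hYT : Y ≤ T) (m n : ℕ)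
    (hT : Nat.card T = m * n) (hmn : m.Coprime n) (hX : Nat.card X = m) (hY : Nat.card Y = m) :
    ∃ g ∈ T, Y = conjS g X := by
  have e1 : Nat.card (X.subgroupOf T) = Nat.card X :=
    Nat.card_congr (Subgroup.subgroupOfEquivOfLe hXT).toEquiv
  have e2 : Nat.card (Y.subgroupOf T) = Nat.card Y :=
    Nat.card_congr (Subgroup.subgroupOfEquivOfLe hYT).toEquiv
  obtain ⟨g, hg⟩ := Cfsg.Agent.Lib.Hall.exists_conj_of_card_eq_of_solvable (G := T) m n hT hmn
    (X.subgroupOf T) (Y.subgroupOf T) (by rw [e1, hX]) (by rw [e2, hY])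
  refine ⟨g, g.2, ?_⟩
  ext y
  constructor
  · intro hy
    have hyT := hYT hy
    have h1 : (⟨y, hyT⟩ : T) ∈ Y.subgroupOf T := hy
    rw [← hg] at h1
    obtain ⟨z, hz, hzy⟩ := h1
    have h2 : (z : Γ) ∈ X := hz
    refine ⟨z, h2, ?_⟩
    exact congrArg Subtype.val hzy
  · rintro ⟨x, hx, rfl⟩
    have hxT := hXT hx
    have h1 : (⟨x, hxT⟩ : T) ∈ X.subgroupOf T := hx
    have h2 : MulAut.conj g • (⟨x, hxT⟩ : T) ∈ MulAut.conj g • X.subgroupOf T :=
      Subgroup.smul_mem_pointwise_smul _ _ _ h1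
    rw [hg] at h2
    exact h2

/-- A complement in a subgroup with a normal Hall subgroup. -/
theorem exists_complement_in {A W : Subgroup Γ} (hWA : W ≤ A) (hWn : A ≤ normalizer (W : Set Γ))
    (hcop : (Nat.card W).Coprime (W.relIndex A)) :
    ∃ H : Subgroup Γ, H ≤ A ∧ W ⊔ H = A ∧ Nat.card W * Nat.card H = Nat.card A ∧ H ⊓ W = ⊥ := by
  classical
  let W' : Subgroup A := W.subgroupOf A
  haveI hW'n : W'.Normal := Subgroup.normal_subgroupOf_iff_le_normalizer hWA |>.mpr hWn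
  have e1 : Nat.card W' = Nat.card W := Nat.card_congr (Subgroup.subgroupOfEquivOfLe hWA).toEquiv
  obtain ⟨H₀, hc⟩ := Subgroup.exists_right_complement'_of_coprime (N := W') (by
    rw [e1]; exact hcop)
  refine ⟨H₀.map A.subtype, Subgroup.map_subtype_le _, ?_, ?_, ?_⟩
  · have h1 : W'.map A.subtype = W := by
      rw [Subgroup.map_subgroupOf_eq_of_le hWA]
    rw [← h1, ← Subgroup.map_sup, hc.sup_eq_top, ← MonoidHom.range_eq_map, Subgroup.range_subtype]
  · rw [Subgroup.card_map_of_injective A.subtype_injective, ← e1]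
    exact hc.card_mul
  · rw [eq_bot_iff]
    rintro x hx
    obtain ⟨⟨y, hy, rfl⟩, hxW⟩ := Subgroup.mem_inf.mp hx
    have h1 : y ∈ W' := hxW
    have h2 : y ∈ W' ⊓ H₀ := Subgroup.mem_inf.mpr ⟨h1, hy⟩
    rw [hc.disjoint.eq_bot, Subgroup.mem_bot] at h2
    rw [h2]
    simp

theorem card_eq_of_mul_eq_of_coprime {a b c d f g : ℕ} (ha : a ∣ f) (hc : c ∣ f) (hb : b ∣ g)
    (hd : d ∣ g) (hfg : f.Coprime g) (h : a * b = c * d) (hapos : 0 < a) : a = c ∧ b = d := by
  have hcopad : a.Coprime d := Nat.Coprime.coprime_dvd_left ha (Nat.Coprime.coprime_dvd_right hd hfg)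
  have hcopcb : c.Coprime b := Nat.Coprime.coprime_dvd_left hc (Nat.Coprime.coprime_dvd_right hb hfg)
  have h1 : a ∣ c := hcopad.dvd_of_dvd_mul_right (h ▸ Dvd.intro b rfl)
  have h2 : c ∣ a := hcopcb.dvd_of_dvd_mul_right (h.symm ▸ Dvd.intro d rfl)
  have h3 : a = c := Nat.dvd_antisymm h1 h2
  refine ⟨h3, ?_⟩
  rw [← h3] at h
  exact Nat.eq_of_mul_eq_mul_left hapos h

/-- **Subgroups of equal order in a Z-group are conjugate.** -/
theorem conj_in_zgroup [Group.IsSolvable Γ] [IsZGroup Γ] (X Y : Subgroup Γ)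
    (h : Nat.card X = Nat.card Y) : ∃ g : Γ, Y = conjS g X := by
  classical
  let C : Subgroup Γ := commutator Γ
  haveI hCn : C.Normal := inferInstance
  have hCc : IsCyclic C := IsZGroup.isCyclic_commutator Γ
  have hcop : (Nat.card C).Coprime C.index := IsZGroup.coprime_commutator_index Γ
  have hquot : IsCyclic (Γ ⧸ C) := (inferInstance : IsCyclic (Abelianization Γ))
  -- orders
  have hsup : ∀ Z : Subgroup Γ, Nat.card (Z ⊔ C : Subgroup Γ) * Nat.card (Z ⊓ C : Subgroup Γ) =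
      Nat.card Z * Nat.card C := fun Z => Cfsg.Agent.Lib.PSolv.card_sup_mul_card_inf Z C
  have htt : ∀ Z : Subgroup Γ, C.relIndex (Z ⊔ C) * Nat.card (Z ⊓ C : Subgroup Γ) = Nat.card Z := by
    intro Z
    have h1 := hsup Z
    have h2 : Nat.card C * C.relIndex (Z ⊔ C) = Nat.card (Z ⊔ C : Subgroup Γ) := by
      have := Cfsg.Agent.Lib.PSolv.card_inf_mul_relIndex C (Z ⊔ C)
      rwa [inf_eq_left.mpr le_sup_right] at this
    rw [← h2] at h1
    have hpos : 0 < Nat.card C := Nat.card_pos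
    apply Nat.eq_of_mul_eq_mul_left hpos
    calc Nat.card C * (C.relIndex (Z ⊔ C) * Nat.card (Z ⊓ C : Subgroup Γ))
        = Nat.card C * C.relIndex (Z ⊔ C) * Nat.card (Z ⊓ C : Subgroup Γ) := by ring
      _ = Nat.card Z * Nat.card C := h1
      _ = Nat.card C * Nat.card Z := by ring
  have hrel : ∀ Z : Subgroup Γ, C.relIndex (Z ⊔ C) ∣ C.index := fun Z =>
    Subgroup.relIndex_dvd_index_of_normal C (Z ⊔ C)
  have hrelpos : ∀ Z : Subgroup Γ, 0 < C.relIndex (Z ⊔ C) := by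
    intro Z
    refine Nat.pos_of_ne_zero fun h0 => ?_
    have := Cfsg.Agent.Lib.PSolv.card_inf_mul_relIndex C (Z ⊔ C)
    rw [h0, mul_zero] at this
    exact Nat.card_pos.ne this
  obtain ⟨ht, hw⟩ := card_eq_of_mul_eq_of_coprime (hrel X) (hrel Y)
    (Subgroup.card_dvd_of_le inf_le_right) (Subgroup.card_dvd_of_le inf_le_right) hcop.symm
    (by rw [htt X, htt Y, h]) (hrelpos X)
  -- `XC = YC`
  let π : Γ →* Γ ⧸ C := QuotientGroup.mk' C
  have hπ : Function.Surjective π := QuotientGroup.mk'_surjective C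
  have hker : π.ker = C := QuotientGroup.ker_mk' C
  have hcardsup : ∀ Z : Subgroup Γ, Nat.card (Z ⊔ C : Subgroup Γ) = Nat.card C * C.relIndex (Z ⊔ C) := by
    intro Z
    have := Cfsg.Agent.Lib.PSolv.card_inf_mul_relIndex C (Z ⊔ C)
    rwa [inf_eq_left.mpr le_sup_right, eq_comm] at this
  have hcom : ∀ Z : Subgroup Γ, ((Z ⊔ C).map π).comap π = Z ⊔ C := by
    intro Z
    apply Subgroup.comap_map_eq_self
    rw [hker]
    exact le_sup_right
  have hT : X ⊔ C = Y ⊔ C := by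
    have h1 : Nat.card ((X ⊔ C).map π) = Nat.card ((Y ⊔ C).map π) := by
      have e1 := Cfsg.Agent.Lib.Core.card_comap_of_surjective π hπ ((X ⊔ C).map π)
      have e2 := Cfsg.Agent.Lib.Core.card_comap_of_surjective π hπ ((Y ⊔ C).map π)
      rw [hcom, hcardsup, hker] at e1 e2
      have hpos : 0 < Nat.card C := Nat.card_pos
      apply Nat.eq_of_mul_eq_mul_left hpos
      rw [← e1, ← e2, ht]
    have h2 := eq_of_card_eq_of_isCyclic _ _ h1
    rw [← hcom X, ← hcom Y, h2]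
  have hW : X ⊓ C = Y ⊓ C := eq_of_le_isCyclic hCc inf_le_right inf_le_right hw
  have hWn : ∀ g : Γ, conjS g (Y ⊓ C) = Y ⊓ C := by
    intro g
    apply eq_of_le_isCyclic hCc
    · rintro _ ⟨x, hx, rfl⟩
      exact hCn.conj_mem x (Subgroup.mem_inf.mp hx).2 g
    · exact inf_le_right
    · rw [card_conjS]
  have hnorm : ∀ A : Subgroup Γ, A ≤ normalizer ((Y ⊓ C : Subgroup Γ) : Set Γ) := by
    intro A x _
    rw [mem_normalizer_iff_conjS]
    exact hWn x
  have hrelW : ∀ Z : Subgroup Γ, Z ⊓ C = Y ⊓ C →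
      (Y ⊓ C : Subgroup Γ).relIndex Z = C.relIndex (Z ⊔ C) := by
    intro Z hZ
    have h1 := Cfsg.Agent.Lib.PSolv.card_inf_mul_relIndex (Y ⊓ C) Z
    have h2 : (Y ⊓ C : Subgroup Γ) ⊓ Z = Y ⊓ C := by
      rw [inf_eq_left, ← hZ]; exact inf_le_left
    rw [h2] at h1
    have h3 := htt Z
    rw [hZ] at h3
    have hpos : 0 < Nat.card (Y ⊓ C : Subgroup Γ) := Nat.card_pos
    apply Nat.eq_of_mul_eq_mul_left hpos
    rw [h1, ← h3]; ring
  have hcopW : (Nat.card (Y ⊓ C : Subgroup Γ)).Coprime (C.relIndex (X ⊔ C)) :=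
    Nat.Coprime.coprime_dvd_left (Subgroup.card_dvd_of_le inf_le_right)
      (Nat.Coprime.coprime_dvd_right (hrel X) hcop)
  obtain ⟨X₀, hX₀le, hX₀sup, hX₀card, -⟩ := exists_complement_in (A := X) (W := Y ⊓ C)
    (by rw [← hW]; exact inf_le_left) (hnorm X) (by rw [hrelW X hW]; exact hcopW)
  obtain ⟨Y₀, hY₀le, hY₀sup, hY₀card, -⟩ := exists_complement_in (A := Y) (W := Y ⊓ C)
    inf_le_left (hnorm Y) (by rw [hrelW Y rfl, ← ht]; exact hcopW)
  have hcX : Nat.card X₀ = C.relIndex (X ⊔ C) := by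
    have hpos : 0 < Nat.card (Y ⊓ C : Subgroup Γ) := Nat.card_pos
    apply Nat.eq_of_mul_eq_mul_left hpos
    rw [hX₀card, ← htt X, hW]; ring
  have hcY : Nat.card Y₀ = C.relIndex (X ⊔ C) := by
    have hpos : 0 < Nat.card (Y ⊓ C : Subgroup Γ) := Nat.card_pos
    apply Nat.eq_of_mul_eq_mul_left hpos
    rw [hY₀card, ht, ← htt Y]; ring
  obtain ⟨g, -, hg⟩ := hall_conj_in (T := X ⊔ C) (X := X₀) (Y := Y₀)
    (hX₀le.trans le_sup_left) (hY₀le.trans (hT ▸ le_sup_left)) (C.relIndex (X ⊔ C)) (Nat.card C)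
    (by rw [hcardsup, mul_comm]) (Nat.Coprime.coprime_dvd_left (hrel X) hcop.symm) hcX hcY
  refine ⟨g, ?_⟩
  rw [← hY₀sup, ← hX₀sup, hg]
  show _ = (Y ⊓ C ⊔ X₀).map (MulAut.conj g).toMonoidHom
  rw [Subgroup.map_sup]
  congr 1
  exact (hWn g).symm

/-- The quotient is a Z-group when all Sylow subgroups are cyclic or inside the kernel. -/
theorem isZGroup_quot_of_lift (T : Subgroup Γ) [T.Normal]
    (h : ∀ (r : ℕ) [Fact r.Prime] (S : Sylow r Γ), IsCyclic (S : Subgroup Γ) ∨ (S : Subgroup Γ) ≤ T) :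
    IsZGroup (Γ ⧸ T) := by
  classical
  let π : Γ →* Γ ⧸ T := QuotientGroup.mk' T
  have hπ : Function.Surjective π := QuotientGroup.mk'_surjective T
  constructor
  intro p hp P
  haveI : Fact p.Prime := ⟨hp⟩
  obtain ⟨Q, rfl⟩ := Sylow.mapSurjective_surjective hπ p P
  rw [Sylow.coe_mapSurjective]
  rcases h p Q with hc | hle
  · exact isCyclic_of_surjective (π.subgroupMap (Q : Subgroup Γ)) (π.subgroupMap_surjective _)
  · have : (Q : Subgroup Γ).map π = ⊥ := by
      rw [Subgroup.map_eq_bot_iff]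
      show _ ≤ π.ker
      rw [QuotientGroup.ker_mk']
      exact hle
    rw [this]
    infer_instance

/-- Conjugacy of subgroups of order prime to a normal subgroup with Z-group quotient. -/
theorem conj_of_zquot [Group.IsSolvable Γ] (T : Subgroup Γ) [hTn : T.Normal] [IsZGroup (Γ ⧸ T)]
    (X Y : Subgroup Γ) (h : Nat.card X = Nat.card Y) (hcop : (Nat.card X).Coprime (Nat.card T)) :
    ∃ g : Γ, Y = conjS g X := by
  classical
  let π : Γ →* Γ ⧸ T := QuotientGroup.mk' T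
  have hπ : Function.Surjective π := QuotientGroup.mk'_surjective T
  have hπ1 : ∀ x, π x = 1 ↔ x ∈ T := fun x => by
    rw [QuotientGroup.mk'_apply, QuotientGroup.eq_one_iff]
  have hcard : ∀ Z : Subgroup Γ, (Nat.card Z).Coprime (Nat.card T) → Nat.card (Z.map π) = Nat.card Z := by
    intro Z hZ
    have hinf : Z ⊓ T = ⊥ := Subgroup.inf_eq_bot_of_coprime hZ
    have hinj : Function.Injective (π.subgroupMap Z) := by
      intro a b hab
      have h1 : π (a : Γ) = π (b : Γ) := congrArg Subtype.val hab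
      have h2 : π ((a : Γ)⁻¹ * b) = 1 := by rw [map_mul, map_inv, h1]; group
      have h3 : (a : Γ)⁻¹ * b ∈ Z ⊓ T := Subgroup.mem_inf.mpr ⟨mul_mem (inv_mem a.2) b.2, (hπ1 _).mp h2⟩
      rw [hinf, Subgroup.mem_bot] at h3
      exact Subtype.ext (by
        have h4 : (a : Γ) * ((a : Γ)⁻¹ * b) = a := by rw [h3, mul_one]
        rw [← h4]; group)
    exact (Nat.card_congr (Equiv.ofBijective _ ⟨hinj, π.subgroupMap_surjective _⟩)).symm
  have hcopY : (Nat.card Y).Coprime (Nat.card T) := h ▸ hcop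
  obtain ⟨g', hg'⟩ := conj_in_zgroup (X.map π) (Y.map π) (by rw [hcard X hcop, hcard Y hcopY, h])
  obtain ⟨g, rfl⟩ := hπ g'
  have hle : conjS g X ≤ Y ⊔ T := by
    rintro _ ⟨x, hx, rfl⟩
    show g * x * g⁻¹ ∈ _
    have h1 : π (g * x * g⁻¹) ∈ Y.map π := by
      rw [hg']
      exact ⟨π x, ⟨x, hx, rfl⟩, by simp⟩
    obtain ⟨y, hy, hye⟩ := h1
    have h2 : π (y⁻¹ * (g * x * g⁻¹)) = 1 := by rw [map_mul, map_inv, hye]; group
    have h3 := (hπ1 _).mp h2
    have h4 : g * x * g⁻¹ = y * (y⁻¹ * (g * x * g⁻¹)) := by group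
    rw [h4]
    exact Subgroup.mul_mem_sup hy h3
  have hsupc : Nat.card (Y ⊔ T : Subgroup Γ) = Nat.card Y * Nat.card T := by
    have h1 := Cfsg.Agent.Lib.PSolv.card_sup_mul_card_inf Y T
    rw [Subgroup.inf_eq_bot_of_coprime hcopY, Subgroup.card_bot, mul_one] at h1
    exact h1
  obtain ⟨c, -, hc⟩ := hall_conj_in (T := Y ⊔ T) (X := conjS g X) (Y := Y) hle le_sup_left
    (Nat.card Y) (Nat.card T) hsupc hcopY (by rw [card_conjS, h]) rfl
  refine ⟨c * g, ?_⟩
  rw [conjS_mul]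
  exact hc

end

end Cfsg.Agent.Lib.PGroup.ConjAb
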