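import Mathlib
import Cfsg.Agent.Lib.PGroup.ConjAbZ

/-!
# Sylow `2`-subgroups isomorphic to `Q₈` in solvable groups with conjugate abelian subgroups
-/

set_option autoImplicit false

namespace Cfsg.Agent.Lib.PGroup.ConjAb

open Subgroup Cfsg.Agent.Lib.Techniques

universe u

variable {G : Type u} [Group G]

/-- The shape of a subgroup isomorphic to `Q₈`. -/
structure Q8D (T : Subgroup G) (z i j : G) : Prop where
  hz : z ∈ T
  hi : i ∈ T
  hj : j ∈ T
  z2 : z ^ 2 = 1
  z1 : z ≠ 1
  inv : ∀ t ∈ T, t ^ 2 = 1 → t = 1 ∨ t = z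
  sq : ∀ t ∈ T, t = 1 ∨ t = z ∨ t ^ 2 = z
  i2 : i ^ 2 = z
  j2 : j ^ 2 = z
  ij2 : (i * j) ^ 2 = z
  comm : (j * i)⁻¹ * (i * j) = z
  card : Nat.card T = 8

theorem Q8D.of_equiv {T : Subgroup G} (e : T ≃* QuaternionGroup 2) :
    Q8D T ((e.symm (QuaternionGroup.a 2) : T) : G) ((e.symm (QuaternionGroup.a 1) : T) : G)
      ((e.symm (QuaternionGroup.xa 0) : T) : G) := by
  refine ⟨(e.symm _).2, (e.symm _).2, (e.symm _).2, ?_, ?_, ?_, ?_, ?_, ?_, ?_, ?_, ?_⟩
  · have h : (QuaternionGroup.a 2 : QuaternionGroup 2) ^ 2 = 1 := by decide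
    have h2 : (e.symm (QuaternionGroup.a 2)) ^ 2 = 1 := by rw [← map_pow, h, map_one]
    exact_mod_cast congrArg Subtype.val h2
  · intro h
    have h2 : (e.symm (QuaternionGroup.a 2)) = 1 := Subtype.ext h
    have h3 : (QuaternionGroup.a 2 : QuaternionGroup 2) = 1 := by
      have := congrArg e h2
      simpa using this
    exact absurd h3 (by decide)
  · intro t ht h2
    have h3 : (⟨t, ht⟩ : T) ^ 2 = 1 := Subtype.ext (by simpa using h2)
    have h4 : (e ⟨t, ht⟩) ^ 2 = 1 := by rw [← map_pow, h3, map_one]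
    have key : ∀ q : QuaternionGroup 2, q ^ 2 = 1 → q = 1 ∨ q = QuaternionGroup.a 2 := by decide
    rcases key _ h4 with h5 | h5
    · left
      have h6 : (⟨t, ht⟩ : T) = 1 := by simpa using h5
      exact congrArg Subtype.val h6
    · right
      have h6 : (⟨t, ht⟩ : T) = e.symm (QuaternionGroup.a 2) := by rw [← h5]; simp
      exact congrArg Subtype.val h6
  · intro t ht
    have key : ∀ q : QuaternionGroup 2, q = 1 ∨ q = QuaternionGroup.a 2 ∨ q ^ 2 = QuaternionGroup.a 2 := by
      decide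
    rcases key (e ⟨t, ht⟩) with h5 | h5 | h5
    · left
      have h6 : (⟨t, ht⟩ : T) = 1 := by simpa using h5
      exact congrArg Subtype.val h6
    · right; left
      have h6 : (⟨t, ht⟩ : T) = e.symm (QuaternionGroup.a 2) := by rw [← h5]; simp
      exact congrArg Subtype.val h6
    · right; right
      have h6 : (⟨t, ht⟩ : T) ^ 2 = e.symm (QuaternionGroup.a 2) := by
        rw [← h5, map_pow]; simp
      have h7 := congrArg Subtype.val h6
      simpa using h7
  · have h : (QuaternionGroup.a 1 : QuaternionGroup 2) ^ 2 = QuaternionGroup.a 2 := by decide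
    have h2 : (e.symm (QuaternionGroup.a 1)) ^ 2 = e.symm (QuaternionGroup.a 2) := by rw [← map_pow, h]
    exact_mod_cast congrArg Subtype.val h2
  · have h : (QuaternionGroup.xa 0 : QuaternionGroup 2) ^ 2 = QuaternionGroup.a 2 := by decide
    have h2 : (e.symm (QuaternionGroup.xa 0)) ^ 2 = e.symm (QuaternionGroup.a 2) := by rw [← map_pow, h]
    exact_mod_cast congrArg Subtype.val h2
  · have h : (QuaternionGroup.a 1 * QuaternionGroup.xa 0 : QuaternionGroup 2) ^ 2 = QuaternionGroup.a 2 := by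
      decide
    have h2 : (e.symm (QuaternionGroup.a 1) * e.symm (QuaternionGroup.xa 0)) ^ 2 =
        e.symm (QuaternionGroup.a 2) := by rw [← map_mul, ← map_pow, h]
    exact_mod_cast congrArg Subtype.val h2
  · have h : (QuaternionGroup.xa 0 * QuaternionGroup.a 1 : QuaternionGroup 2)⁻¹ *
        (QuaternionGroup.a 1 * QuaternionGroup.xa 0) = QuaternionGroup.a 2 := by decide
    have h2 : (e.symm (QuaternionGroup.xa 0) * e.symm (QuaternionGroup.a 1))⁻¹ *
        (e.symm (QuaternionGroup.a 1) * e.symm (QuaternionGroup.xa 0)) =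
        e.symm (QuaternionGroup.a 2) := by
      rw [← map_mul, ← map_mul, ← map_inv, ← map_mul, h]
    exact_mod_cast congrArg Subtype.val h2
  · rw [Nat.card_congr e.toEquiv, Nat.card_eq_fintype_card, QuaternionGroup.card]

theorem Q8D.orderOf_eq_four {T : Subgroup G} {z i j : G} (h : Q8D T z i j) {t : G}
    (ht : t ^ 2 = z) : orderOf t = 4 := by
  have := orderOf_eq_prime_pow (p := 2) (n := 1) (x := t) (by
    rw [pow_one, ht]; exact h.z1) (by
    show t ^ 2 ^ 2 = 1
    rw [show (2 : ℕ) ^ 2 = 2 * 2 from rfl, pow_mul, ht, h.z2])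
  simpa using this

theorem Q8D.pow_eight {T : Subgroup G} {z i j : G} (h : Q8D T z i j) {t : G} (ht : t ∈ T) :
    t ^ 8 = 1 := by
  rw [← h.card]
  exact orderOf_dvd_iff_pow_eq_one.mp (Subgroup.orderOf_dvd_natCard T ht)

/-- **`Q₈` is normal.** -/
theorem q8_normal [Finite G] (hB : HB G) (hs : Group.IsSolvable G) (Q : Sylow 2 G)
    (hQ : Nonempty ((Q : Subgroup G) ≃* QuaternionGroup 2))
    (hodd : ∀ (r : ℕ) [Fact r.Prime], r ≠ 2 → ∀ S : Sylow r G, IsCyclic (S : Subgroup G)) :
    (Q : Subgroup G).Normal := by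
  classical
  induction hn : Nat.card G using Nat.strong_induction_on generalizing G with
  | _ n ih =>
  subst hn
  obtain ⟨e⟩ := hQ
  have hD := Q8D.of_equiv e
  obtain ⟨z, hzdef⟩ : ∃ z : G, z = ((e.symm (QuaternionGroup.a 2) : Q) : G) := ⟨_, rfl⟩
  obtain ⟨i, hidef⟩ : ∃ i : G, i = ((e.symm (QuaternionGroup.a 1) : Q) : G) := ⟨_, rfl⟩
  obtain ⟨j, hjdef⟩ : ∃ j : G, j = ((e.symm (QuaternionGroup.xa 0) : Q) : G) := ⟨_, rfl⟩
  rw [← hzdef, ← hidef, ← hjdef] at hD
  have hz1 := hD.z1
  have htop : (⊤ : Subgroup G) ≠ ⊥ := by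
    intro h
    apply hz1
    have : z ∈ (⊤ : Subgroup G) := mem_top z
    rw [h, Subgroup.mem_bot] at this
    exact this
  obtain ⟨M, hMn, hM, -, hmin⟩ := Cfsg.Agent.Lib.Core.exists_minimal_normal_le
    (Subgroup.normal_of_characteristic ⊤) htop
  haveI := hMn
  obtain ⟨hMc, q, hq, hMexp⟩ := Cfsg.Agent.Lib.Core.minimal_normal_elementary M hM hmin
  haveI : Fact q.Prime := ⟨hq⟩
  let π : G →* G ⧸ M := QuotientGroup.mk' M
  have hπ : Function.Surjective π := QuotientGroup.mk'_surjective M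
  have hπ1 : ∀ x, π x = 1 ↔ x ∈ M := fun x => by
    rw [QuotientGroup.mk'_apply, QuotientGroup.eq_one_iff]
  have hker : π.ker = M := QuotientGroup.ker_mk' M
  let Q' : Sylow 2 (G ⧸ M) := Q.mapSurjective hπ
  have hQ' : (Q' : Subgroup (G ⧸ M)) = (Q : Subgroup G).map π := Sylow.coe_mapSurjective hπ Q
  have hMp : IsPGroup q M := fun x => ⟨1, Subtype.ext (by simpa using hMexp x x.2)⟩
  obtain ⟨⟨w, hwM⟩, hw1⟩ := Subgroup.ne_bot_iff_exists_ne_one.mp hM
  have hw1' : w ≠ 1 := fun h => hw1 (Subtype.ext h)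
  have hwo : orderOf w = q := orderOf_eq_prime (hMexp w hwM) hw1'
  by_cases hq2 : q = 2
  · -- central involution
    subst hq2
    have hMQ : M ≤ Q :=
      (Cfsg.Agent.Lib.Core.le_pCore hMn hMp).trans (Cfsg.Agent.Lib.Core.pCore_le_sylow Q)
    have hMz : ∀ x ∈ M, x = 1 ∨ x = z := fun x hx => hD.inv x (hMQ hx) (hMexp x hx)
    have hzM : z ∈ M := by
      rcases hMz w hwM with h | h
      · exact absurd h hw1'
      · rw [← h]; exact hwM
    have hMcard : Nat.card M = 2 := by
      have hMeq : M = zpowers z := by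
        apply le_antisymm _ ((Subgroup.zpowers_le).mpr hzM)
        intro x hx
        rcases hMz x hx with h | h
        · rw [h]; exact one_mem _
        · rw [h]; exact mem_zpowers z
      rw [hMeq, Nat.card_zpowers, orderOf_eq_prime hD.z2 hz1]
    have hexp' : ∀ x ∈ (Q' : Subgroup (G ⧸ M)), x ^ 2 = 1 := by
      intro x hx
      rw [hQ'] at hx
      obtain ⟨t, ht, rfl⟩ := hx
      rw [← map_pow]
      rcases hD.sq t ht with h | h | h
      · rw [h]; simp
      · rw [h, hD.z2, map_one]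
      · rw [h]; exact (hπ1 z).mpr hzM
    have hcom : (Q' : Subgroup (G ⧸ M)).comap π = Q := by
      rw [hQ']
      apply Subgroup.comap_map_eq_self
      rw [hker]; exact hMQ
    have hcard' : Nat.card (Q' : Subgroup (G ⧸ M)) = 4 := by
      have h1 := Cfsg.Agent.Lib.Core.card_comap_of_surjective π hπ (Q' : Subgroup (G ⧸ M))
      rw [hcom, hker, hMcard, hD.card] at h1
      omega
    have hnc' : ¬ IsCyclic (Q' : Subgroup (G ⧸ M)) := by
      intro hc
      obtain ⟨g, hg⟩ := hc.exists_generator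
      have h1 : orderOf g = 4 := by
        have := orderOf_eq_card_of_forall_mem_zpowers hg
        rw [this, hcard']
      have h2 : g ^ 2 = 1 := by
        apply Subtype.ext
        have := hexp' _ g.2
        simpa using this
      have h3 := orderOf_dvd_of_pow_eq_one h2
      rw [h1] at h3
      omega
    obtain ⟨h1, -, -⟩ := big_normal (hb_quotient hB hs M) inferInstance 2 Q' hexp' hnc'
    rw [← hcom]
    exact h1.comap π
  · -- odd minimal normal subgroup
    have hinf : ∀ x, x ∈ (Q : Subgroup G) → x ∈ M → x = 1 := by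
      intro x hxQ hxM
      have h1 := orderOf_dvd_of_pow_eq_one (hD.pow_eight hxQ)
      have h2 := orderOf_dvd_of_pow_eq_one (hMexp x hxM)
      have hcop : Nat.Coprime 8 q := by
        have : Nat.Coprime (2 ^ 3) q :=
          Nat.Coprime.pow_left 3 ((Nat.coprime_primes Nat.prime_two hq).mpr (Ne.symm hq2))
        simpa using this
      exact orderOf_eq_one_iff.mp (Nat.eq_one_of_dvd_coprimes hcop h1 h2)
    have hlt : Nat.card (G ⧸ M) < Nat.card G := by
      have h1 := Subgroup.card_mul_index M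
      have h2 : 1 < Nat.card M := by
        rw [Subgroup.one_lt_card_iff_ne_bot]; exact hM
      have h3 : Nat.card (G ⧸ M) = M.index := rfl
      rw [h3, ← h1]
      have h4 : 0 < M.index := Nat.pos_of_ne_zero Subgroup.index_ne_zero_of_finite
      nlinarith
    have hQ'e : Nonempty ((Q' : Subgroup (G ⧸ M)) ≃* QuaternionGroup 2) := by
      rw [hQ']
      have hinj : Function.Injective (π.subgroupMap (Q : Subgroup G)) := by
        intro a b hab
        have h1 : π (a : G) = π (b : G) := congrArg Subtype.val hab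
        have h2 : π ((a : G)⁻¹ * b) = 1 := by rw [map_mul, map_inv, h1]; group
        have h3 := hinf _ (mul_mem (inv_mem a.2) b.2) ((hπ1 _).mp h2)
        exact Subtype.ext (by
          have h4 : (a : G) * ((a : G)⁻¹ * b) = a := by rw [h3, mul_one]
          rw [← h4]; group)
      exact ⟨(MulEquiv.ofBijective (π.subgroupMap (Q : Subgroup G))
        ⟨hinj, π.subgroupMap_surjective _⟩).symm.trans e⟩
    have hodd' : ∀ (r : ℕ) [Fact r.Prime], r ≠ 2 → ∀ S : Sylow r (G ⧸ M),
        IsCyclic (S : Subgroup (G ⧸ M)) := by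
      intro r _ hr S
      obtain ⟨S₀, rfl⟩ := Sylow.mapSurjective_surjective hπ r S
      rw [Sylow.coe_mapSurjective]
      haveI := hodd r hr S₀
      exact isCyclic_of_surjective (π.subgroupMap (S₀ : Subgroup G)) (π.subgroupMap_surjective _)
    have hQ'n := ih _ hlt (hb_quotient hB hs M) inferInstance Q' hQ'e hodd' rfl
    -- `M` is cyclic, generated by `w`
    have hMcyc : IsCyclic M := by
      obtain ⟨S, hS⟩ := hMp.exists_le_sylow
      haveI := hodd q hq2 S
      exact Subgroup.isCyclic_of_le hS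
    have hMw : ∀ x ∈ M, x ∈ zpowers w := by
      intro x hx
      have h1 : zpowers w = M := by
        apply Subgroup.eq_of_le_of_card_ge ((Subgroup.zpowers_le).mpr hwM)
        rw [Nat.card_zpowers, hwo]
        obtain ⟨⟨g, hgM⟩, hg⟩ := hMcyc.exists_generator
        have h2 : orderOf (⟨g, hgM⟩ : M) = Nat.card M := orderOf_eq_card_of_forall_mem_zpowers hg
        rw [← h2, Subgroup.orderOf_mk]
        exact Nat.le_of_dvd hq.pos (orderOf_dvd_of_pow_eq_one (hMexp g hgM))
      rw [h1]; exact hx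
    have hconjw : ∀ t : G, ∃ a : ℤ, t * w * t⁻¹ = w ^ a := by
      intro t
      obtain ⟨a, ha⟩ := mem_zpowers_iff.mp (hMw _ (hMn.conj_mem w hwM t))
      exact ⟨a, ha.symm⟩
    -- `z` centralizes `w`
    have hzw : z * w * z⁻¹ = w := by
      obtain ⟨a, ha⟩ := hconjw i
      obtain ⟨b, hb⟩ := hconjw j
      have h1 : (i * j) * w * (i * j)⁻¹ = w ^ (a * b) := by
        calc (i * j) * w * (i * j)⁻¹ = i * (j * w * j⁻¹) * i⁻¹ := by group
          _ = i * w ^ b * i⁻¹ := by rw [hb]
          _ = (i * w * i⁻¹) ^ b := (conj_zpow).symm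
          _ = w ^ (a * b) := by rw [ha, zpow_mul]
      have h2 : (j * i) * w * (j * i)⁻¹ = w ^ (a * b) := by
        calc (j * i) * w * (j * i)⁻¹ = j * (i * w * i⁻¹) * j⁻¹ := by group
          _ = j * w ^ a * j⁻¹ := by rw [ha]
          _ = (j * w * j⁻¹) ^ a := (conj_zpow).symm
          _ = w ^ (a * b) := by rw [hb, mul_comm a b, zpow_mul]
      have h3 : (i * j) * w * (i * j)⁻¹ = (j * i) * w * (j * i)⁻¹ := h1.trans h2.symm
      rw [← hD.comm]
      calc ((j * i)⁻¹ * (i * j)) * w * ((j * i)⁻¹ * (i * j))⁻¹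
          = (j * i)⁻¹ * ((i * j) * w * (i * j)⁻¹) * (j * i) := by group
        _ = (j * i)⁻¹ * ((j * i) * w * (j * i)⁻¹) * (j * i) := by rw [h3]
        _ = w := by group
    have hcomM : ∀ {a b : G}, a ∈ M → b ∈ M → a * b = b * a := fun ha hb =>
      comm_of_isMulCommutative hMc ha hb
    -- elements of square `z` centralize or invert `w`
    have hdich : ∀ t : G, t ^ 2 = z → t * w * t⁻¹ = w ∨ t * w * t⁻¹ = w⁻¹ := by
      intro t ht
      obtain ⟨x, hx⟩ : ∃ x, x = t * w * t⁻¹ := ⟨_, rfl⟩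
      have hxM : x ∈ M := hx ▸ hMn.conj_mem w hwM t
      have h1 : t * x * t⁻¹ = w := by
        rw [hx]
        calc t * (t * w * t⁻¹) * t⁻¹ = (t ^ 2) * w * (t ^ 2)⁻¹ := by
              rw [pow_two]; group
          _ = w := by rw [ht, hzw]
      by_cases hy : w * x = 1
      · right
        rw [← hx]
        exact eq_inv_of_mul_eq_one_right hy
      · left
        have hyo : orderOf (w * x) = q := orderOf_eq_prime (hMexp _ (mul_mem hwM hxM)) hy
        have hfix : t * (w * x) * t⁻¹ = w * x := by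
          calc t * (w * x) * t⁻¹ = (t * w * t⁻¹) * (t * x * t⁻¹) := by group
            _ = x * w := by rw [h1, hx]
            _ = w * x := hcomM hxM hwM
        have hwz : w ∈ zpowers (w * x) := by
          have h2 : zpowers (w * x) = zpowers w := by
            apply Subgroup.eq_of_le_of_card_ge
            · rw [Subgroup.zpowers_le]; exact hMw _ (mul_mem hwM hxM)
            · rw [Nat.card_zpowers, Nat.card_zpowers, hyo, hwo]
          rw [h2]; exact mem_zpowers w
        obtain ⟨a, ha⟩ := mem_zpowers_iff.mp hwz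
        rw [← ha, ← conj_zpow, hfix]
    obtain ⟨v, hvQ, hv2, hvw⟩ : ∃ v ∈ (Q : Subgroup G), v ^ 2 = z ∧ v * w * v⁻¹ = w := by
      rcases hdich i hD.i2 with h1 | h1
      · exact ⟨i, hD.hi, hD.i2, h1⟩
      rcases hdich j hD.j2 with h2 | h2
      · exact ⟨j, hD.hj, hD.j2, h2⟩
      refine ⟨i * j, mul_mem hD.hi hD.hj, hD.ij2, ?_⟩
      calc (i * j) * w * (i * j)⁻¹ = i * (j * w * j⁻¹) * i⁻¹ := by group
        _ = i * w⁻¹ * i⁻¹ := by rw [h2]
        _ = (i * w * i⁻¹)⁻¹ := by group
        _ = w := by rw [h1, inv_inv]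
    let C : Subgroup G := centralizer (M : Set G)
    haveI hCn : C.Normal := Subgroup.normal_centralizer (H := M)
    have hmemC : ∀ t : G, t * w * t⁻¹ = w → t ∈ C := by
      intro t ht
      rw [Subgroup.mem_centralizer_iff]
      intro x hx
      obtain ⟨a, rfl⟩ := mem_zpowers_iff.mp (hMw x hx)
      have h1 : t * w ^ a * t⁻¹ = w ^ a := by rw [← conj_zpow, ht]
      calc w ^ a * t = t * w ^ a * t⁻¹ * t := by rw [h1]
        _ = t * w ^ a := by group
    have hvC : v ∈ C := hmemC v hvw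
    have hzC : z ∈ C := hmemC z hzw
    have hQC : (Q : Subgroup G) ≤ C := by
      intro t ht
      rcases hD.sq t ht with h | h | h
      · rw [h]; exact one_mem _
      · rw [h]; exact hzC
      · exact mem_of_orderOf_eq hB hvC (by rw [hD.orderOf_eq_four hv2, hD.orderOf_eq_four h])
    constructor
    intro t ht g
    have h1 : π (g * t * g⁻¹) ∈ (Q' : Subgroup (G ⧸ M)) := by
      have h2 : π t ∈ (Q' : Subgroup (G ⧸ M)) := by rw [hQ']; exact ⟨t, ht, rfl⟩
      have := hQ'n.conj_mem _ h2 (π g)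
      simpa using this
    rw [hQ'] at h1
    obtain ⟨t', ht', htt⟩ := h1
    have h2 : π (t'⁻¹ * (g * t * g⁻¹)) = 1 := by rw [map_mul, map_inv, htt]; group
    have hm := (hπ1 _).mp h2
    obtain ⟨m, hmdef⟩ : ∃ m, m = t'⁻¹ * (g * t * g⁻¹) := ⟨_, rfl⟩
    rw [← hmdef] at hm
    have h3 : g * t * g⁻¹ = t' * m := by rw [hmdef]; group
    have hcomm : Commute t' m := (Subgroup.mem_centralizer_iff.mp (hQC ht') m hm).symm
    have h4 : (g * t * g⁻¹) ^ 8 = 1 := by
      rw [conj_pow, hD.pow_eight ht]; group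
    rw [h3, hcomm.mul_pow, hD.pow_eight ht', one_mul] at h4
    have h5 := orderOf_dvd_of_pow_eq_one h4
    have h6 := orderOf_dvd_of_pow_eq_one (hMexp m hm)
    have hcop : Nat.Coprime 8 q := by
      have : Nat.Coprime (2 ^ 3) q :=
        Nat.Coprime.pow_left 3 ((Nat.coprime_primes Nat.prime_two hq).mpr (Ne.symm hq2))
      simpa using this
    have h7 := orderOf_eq_one_iff.mp (Nat.eq_one_of_dvd_coprimes hcop h5 h6)
    rw [h3, h7, mul_one]
    exact ht'

end Cfsg.Agent.Lib.PGroup.ConjAb
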