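import Mathlib
import Cfsg.Agent.Lib.PGroup.ConjAbQ8

/-!
# The socle of a solvable group whose abelian subgroups of equal order are conjugate
-/

set_option autoImplicit false

namespace Cfsg.Agent.Lib.PGroup.ConjAb

open Subgroup Cfsg.Agent.Lib.Techniques

universe u

variable {G : Type u} [Group G]

/-- Minimal normal subgroups. -/
def IsMinN (M : Subgroup G) : Prop :=
  M.Normal ∧ M ≠ ⊥ ∧ ∀ N : Subgroup G, N.Normal → N ≤ M → N = ⊥ ∨ N = M

/-- The socle. -/
def soc (G : Type u) [Group G] : Subgroup G := sSup {M | IsMinN M}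

theorem le_soc {M : Subgroup G} (hM : IsMinN M) : M ≤ soc G := le_sSup hM

theorem soc_normal : (soc G).Normal := by
  constructor
  intro x hx g
  have h : soc G ≤ (soc G).comap (MulAut.conj g).toMonoidHom :=
    sSup_le fun M hM y hy => le_soc hM (hM.1.conj_mem y hy g)
  exact h hx

section Soc

variable [Finite G] (hB : HB G) (hs : Group.IsSolvable G)
  (hnp : ∀ M : Subgroup G, IsMinN M → ¬ (Nat.card M).Prime)

include hB hs hnp

theorem min_data {M : Subgroup G} (hM : IsMinN M) :
    ∃ q : ℕ, q.Prime ∧ IsMulCommutative M ∧ (∀ x ∈ M, x ^ q = 1) ∧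
      ∀ S : Subgroup G, IsPGroup q S → S ≤ M := by
  obtain ⟨hMn, hM1, hmin⟩ := id hM
  haveI := hMn
  obtain ⟨q, hq, hc, he, hcase⟩ := min_case hB hs M hM1 hmin
  refine ⟨q, hq, hc, he, ?_⟩
  rcases hcase with h | ⟨h, -⟩ | ⟨rfl, h, -⟩
  · exact h
  · exact absurd (h ▸ hq) (hnp M hM)
  · exact absurd (by rw [h]; exact Nat.prime_two) (hnp M hM)

theorem soc_comm : IsMulCommutative (soc G) := by
  refine isMulCommutative_of_comm ?_
  intro a ha b hb
  have hpair : ∀ M : Subgroup G, IsMinN M → ∀ M' : Subgroup G, IsMinN M' → ∀ x ∈ M, ∀ y ∈ M', x * y = y * x := by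
    intro M hM M' hM' x hx y hy
    by_cases hne : M = M'
    · subst hne
      obtain ⟨-, hc, -, -⟩ := (min_data hB hs hnp hM).choose_spec
      exact comm_of_isMulCommutative hc hx hy
    · have hd : M ⊓ M' = ⊥ := by
        haveI := hM.1
        haveI := hM'.1
        rcases hM.2.2 (M ⊓ M') inferInstance inf_le_left with h | h
        · exact h
        · exfalso
          have hle : M ≤ M' := inf_eq_left.mp h
          rcases hM'.2.2 M hM.1 hle with h' | h'
          · exact hM.2.1 h'
          · exact hne h'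
      exact Subgroup.commute_of_normal_of_disjoint M M' hM.1 hM'.1 (disjoint_iff.mpr hd) x y hx hy
  have h1 : ∀ y ∈ soc G, ∀ M : Subgroup G, IsMinN M → ∀ x ∈ M, x * y = y * x := by
    intro y hy M hM x hx
    have h2 : soc G ≤ centralizer (M : Set G) := by
      apply sSup_le
      intro M' hM' s hs
      rw [Subgroup.mem_centralizer_iff]
      intro t ht
      exact hpair M hM M' hM' t ht s hs
    exact Subgroup.mem_centralizer_iff.mp (h2 hy) x hx
  have h3 : soc G ≤ centralizer ({a} : Set G) := by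
    apply sSup_le
    intro M hM s hs
    rw [Subgroup.mem_centralizer_iff]
    intro t ht
    rw [Set.mem_singleton_iff.mp ht]
    exact (h1 a ha M hM s hs).symm
  exact Subgroup.mem_centralizer_iff.mp (h3 hb) a rfl

/-- Elements of prime power order of the socle lie in a minimal normal Sylow subgroup. -/
theorem soc_elem (r : ℕ) [hr : Fact r.Prime] {y : G} (hy : y ∈ soc G) (k : ℕ) (hyk : y ^ r ^ k = 1)
    (hy1 : y ≠ 1) :
    ∃ M : Subgroup G, IsMinN M ∧ y ∈ M ∧ (∀ x ∈ M, x ^ r = 1) ∧ ∀ S : Subgroup G, IsPGroup r S → S ≤ M := by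
  classical
  have hOcop := Cfsg.Agent.Lib.Core.pPrimeCore_coprime r G
  have hO1 : ∀ b ∈ Cfsg.pPrimeCore r G, b ^ r ^ k = 1 → b = 1 := by
    intro b hb hbk
    have h1 := orderOf_dvd_of_pow_eq_one hbk
    have h2 : orderOf b ∣ Nat.card (Cfsg.pPrimeCore r G) := Subgroup.orderOf_dvd_natCard _ hb
    have h3 : Nat.Coprime (Nat.card (Cfsg.pPrimeCore r G)) (r ^ k) := Nat.Coprime.pow_right k hOcop
    exact orderOf_eq_one_iff.mp (Nat.eq_one_of_dvd_coprimes h3 h2 h1)
  have hcopM : ∀ {M : Subgroup G} {q : ℕ}, q.Prime → q ≠ r → (∀ x ∈ M, x ^ q = 1) →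
      (Nat.card M).Coprime r := by
    intro M q hq hqr he
    haveI : Fact q.Prime := ⟨hq⟩
    have hp : IsPGroup q M := fun x => ⟨1, Subtype.ext (by simpa using he x x.2)⟩
    obtain ⟨j, hj⟩ := IsPGroup.iff_card.mp hp
    rw [hj]
    exact Nat.Coprime.pow_left j ((Nat.coprime_primes hq hr.out).mpr hqr)
  by_cases hex : ∃ M : Subgroup G, IsMinN M ∧ ∀ x ∈ M, x ^ r = 1
  · obtain ⟨M, hM, hMr⟩ := hex
    obtain ⟨q, hq, -, hqe, hall⟩ := min_data hB hs hnp hM
    haveI := hM.1
    have hqr : q = r := by
      obtain ⟨⟨w, hwM⟩, hw1⟩ := Subgroup.ne_bot_iff_exists_ne_one.mp hM.2.1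
      have hw1' : w ≠ 1 := fun h => hw1 (Subtype.ext h)
      haveI : Fact q.Prime := ⟨hq⟩
      have h1 := orderOf_eq_prime (hqe w hwM) hw1'
      have h2 := orderOf_dvd_of_pow_eq_one (hMr w hwM)
      rw [h1] at h2
      exact (Nat.prime_dvd_prime_iff_eq hq hr.out).mp h2
    rw [hqr] at hqe hall
    have hle : soc G ≤ M ⊔ Cfsg.pPrimeCore r G := by
      apply sSup_le
      intro M' hM'
      obtain ⟨q', hq', -, hq'e, -⟩ := min_data hB hs hnp hM'
      by_cases hq'r : q' = r
      · rw [hq'r] at hq'e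
        have hp : IsPGroup r M' := fun x => ⟨1, Subtype.ext (by simpa using hq'e x x.2)⟩
        exact (hall M' hp).trans le_sup_left
      · exact (Cfsg.Agent.Lib.Core.le_pPrimeCore hM'.1 (hcopM hq' hq'r hq'e)).trans le_sup_right
    obtain ⟨a, ha, b, hb, hab⟩ := (Subgroup.mem_sup_of_normal_right).mp (hle hy)
    have hdisj : Disjoint M (Cfsg.pPrimeCore r G) := by
      rw [disjoint_iff]
      apply Subgroup.inf_eq_bot_of_coprime
      have hMp : IsPGroup r M := fun x => ⟨1, Subtype.ext (by simpa using hqe x x.2)⟩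
      obtain ⟨j, hj⟩ := IsPGroup.iff_card.mp hMp
      rw [hj]
      exact Nat.Coprime.pow_left j hOcop.symm
    have hcomm : Commute a b := Subgroup.commute_of_normal_of_disjoint M (Cfsg.pPrimeCore r G) hM.1
      (Cfsg.Agent.Lib.Core.pPrimeCore_normal r G) hdisj a b ha hb
    have hk0 : k ≠ 0 := by
      rintro rfl
      rw [pow_zero, pow_one] at hyk
      exact hy1 hyk
    have h1 : b ^ r ^ k = 1 := by
      obtain ⟨k', rfl⟩ := Nat.exists_eq_succ_of_ne_zero hk0
      have h2 : a ^ r ^ (k' + 1) = 1 := by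
        rw [pow_succ', pow_mul, hqe a ha, one_pow]
      rw [← hab, hcomm.mul_pow] at hyk
      simpa [h2] using hyk
    have hb1 := hO1 b hb h1
    rw [hb1, mul_one] at hab
    exact ⟨M, hM, hab ▸ ha, hqe, hall⟩
  · exfalso
    push Not at hex
    have hle : soc G ≤ Cfsg.pPrimeCore r G := by
      apply sSup_le
      intro M' hM'
      obtain ⟨q', hq', -, hq'e, -⟩ := min_data hB hs hnp hM'
      refine Cfsg.Agent.Lib.Core.le_pPrimeCore hM'.1 (hcopM hq' ?_ hq'e)
      intro hq'r
      rw [hq'r] at hq'e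
      obtain ⟨x, hx, hxne⟩ := hex M' hM'
      exact hxne (hq'e x hx)
    exact hy1 (hO1 y (hle hy) hyk)

theorem soc_coprime : (Nat.card (soc G)).Coprime (soc G).index := by
  classical
  apply Nat.Coprime.symm
  apply Nat.coprime_of_dvd
  intro r hr hd hd2
  haveI : Fact r.Prime := ⟨hr⟩
  obtain ⟨⟨y, hy⟩, hyo⟩ := exists_prime_orderOf_dvd_card' r hd2
  have hyo' : orderOf y = r := by rw [← Subgroup.orderOf_mk y hy]; exact hyo
  have hy1 : y ≠ 1 := by
    rintro rfl
    rw [orderOf_one] at hyo'
    exact hr.one_lt.ne hyo'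
  have hy2 : y ^ r ^ 1 = 1 := by rw [pow_one, ← hyo']; exact pow_orderOf_eq_one y
  obtain ⟨M, hM, -, -, hall⟩ := soc_elem hB hs hnp r hy 1 hy2 hy1
  obtain ⟨P⟩ : Nonempty (Sylow r G) := inferInstance
  have hP : (P : Subgroup G) ≤ soc G := (hall _ P.isPGroup').trans (le_soc hM)
  exact P.not_dvd_index (hd.trans (Subgroup.index_dvd_of_le hP))

/-- Odd Sylow shape. -/
theorem sylow_cases_odd (r : ℕ) [hr : Fact r.Prime] (hr2 : r ≠ 2) {S : Subgroup G} (hS : IsPGroup r S) :
    S ≤ soc G ∨ IsCyclic S := by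
  classical
  obtain ⟨P, hSP⟩ := hS.exists_le_sylow
  have hcyc : IsCyclic (P : Subgroup G) → IsCyclic S := fun h => Subgroup.isCyclic_of_le hSP
  rcases sylow_dichotomy hB r (P : Subgroup G) P.isPGroup' with h | h
  · by_cases hc : IsCyclic (P : Subgroup G)
    · exact Or.inr (hcyc hc)
    · left
      obtain ⟨hn, -, hmin⟩ := big_normal hB hs r P h hc
      have hP1 : (P : Subgroup G) ≠ ⊥ := by
        intro h0
        apply hc
        rw [h0]; infer_instance
      exact hSP.trans (le_soc ⟨hn, hP1, hmin⟩)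
  · rcases Cfsg.Agent.S0016.result r P.isPGroup' h with hc | ⟨h2, -⟩
    · exact Or.inr (hcyc hc)
    · exact absurd h2 hr2

/-- The shape of `2`-subgroups. -/
theorem sylow_cases_two {S : Subgroup G} (hS : IsPGroup 2 S) :
    S ≤ soc G ∨ IsCyclic S ∨ ∃ P : Sylow 2 G, (P : Subgroup G) = S ∧
      Nonempty ((P : Subgroup G) ≃* QuaternionGroup 2) := by
  classical
  haveI : Fact (Nat.Prime 2) := ⟨Nat.prime_two⟩
  obtain ⟨P, hSP⟩ := hS.exists_le_sylow
  have hcyc : IsCyclic (P : Subgroup G) → IsCyclic S := fun h => Subgroup.isCyclic_of_le hSP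
  rcases sylow_dichotomy hB 2 (P : Subgroup G) P.isPGroup' with h | h
  · by_cases hc : IsCyclic (P : Subgroup G)
    · exact Or.inr (Or.inl (hcyc hc))
    · left
      obtain ⟨hn, -, hmin⟩ := big_normal hB hs 2 P h hc
      have hP1 : (P : Subgroup G) ≠ ⊥ := by
        intro h0
        apply hc
        rw [h0]; infer_instance
      exact hSP.trans (le_soc ⟨hn, hP1, hmin⟩)
  · rcases Cfsg.Agent.S0016.result 2 P.isPGroup' h with hc | ⟨-, n, ⟨e⟩⟩
    · exact Or.inr (Or.inl (hcyc hc))
    · right
      rcases n with _ | _ | n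
      · left
        apply hcyc
        have h1 : IsCyclic (QuaternionGroup (2 ^ 0)) := by
          rw [pow_zero]; exact QuaternionGroup.quaternionGroup_one_isCyclic
        exact isCyclic_of_injective e.toMonoidHom e.injective
      · -- order eight
        have e' : (P : Subgroup G) ≃* QuaternionGroup 2 := by
          simpa using e
        have hD := Q8D.of_equiv e'
        by_cases hcard : Nat.card S ≤ 4
        · left
          by_cases hex : ∃ t ∈ S, t ≠ 1 ∧ t ≠ ((e'.symm (QuaternionGroup.a 2) : (P : Subgroup G)) : G)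
          · obtain ⟨t, htS, ht1, htz⟩ := hex
            have ht2 : t ^ 2 = ((e'.symm (QuaternionGroup.a 2) : (P : Subgroup G)) : G) := by
              rcases hD.sq t (hSP htS) with h | h | h
              · exact absurd h ht1
              · exact absurd h htz
              · exact h
            have ho := hD.orderOf_eq_four ht2
            have hz : zpowers t = S := by
              apply Subgroup.eq_of_le_of_card_ge ((Subgroup.zpowers_le).mpr htS)
              rw [Nat.card_zpowers, ho]
              exact hcard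
            rw [← hz]
            infer_instance
          · push Not at hex
            have hle : S ≤ zpowers ((e'.symm (QuaternionGroup.a 2) : (P : Subgroup G)) : G) := by
              intro t ht
              by_cases h1 : t = 1
              · rw [h1]; exact one_mem _
              · rw [hex t ht h1]; exact mem_zpowers _
            exact Subgroup.isCyclic_of_le hle
        · right
          have hdvd : Nat.card S ∣ 8 := by
            rw [← hD.card]; exact Subgroup.card_dvd_of_le hSP
          have h8 : Nat.card S = 8 := by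
            have hle := Nat.le_of_dvd (by norm_num) hdvd
            interval_cases h : Nat.card S <;> first | rfl | omega
          have hPS : (P : Subgroup G) = S := (Subgroup.eq_of_le_of_card_ge hSP (by
            rw [h8, hD.card])).symm
          exact ⟨P, hPS, ⟨e'⟩⟩
      · exfalso
        have hQ := Cfsg.Agent.Lib.BS.QData.of_equiv (P : Subgroup G) e
        refine quat_excl hs P.isPGroup' P.not_dvd_index hQ ⊤ le_top ?_
        intro u v _ _ huo hvo
        obtain ⟨g, hg⟩ := hB (zpowers u) (zpowers v) (isMulCommutative_zpowers u)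
          (isMulCommutative_zpowers v) (by rw [Nat.card_zpowers, Nat.card_zpowers, huo, hvo])
        refine ⟨g, mem_top g, ?_⟩
        rw [hg]
        exact ⟨u, mem_zpowers u, rfl⟩

end Soc

end Cfsg.Agent.Lib.PGroup.ConjAb
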