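import Mathlib
import Cfsg.Agent.Lib.PGroup.ConjAbF

/-!
# The `Q₈` step in the proof that all subgroups of equal order are conjugate
-/

set_option autoImplicit false

namespace Cfsg.Agent.Lib.PGroup.ConjAb

open Subgroup Cfsg.Agent.Lib.Techniques

universe u

variable {G : Type u} [Group G]

/-- Order of a product with a normalizing subgroup, coprime case. -/
theorem card_sup_coprime [Finite G] {E H : Subgroup G} (hHE : H ≤ normalizer (E : Set G))
    (hcop : (Nat.card H).Coprime (Nat.card E)) :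
    Nat.card (E ⊔ H : Subgroup G) = Nat.card E * Nat.card H := by
  classical
  let Ψ : Subgroup G := E ⊔ H
  have hEΨ : E ≤ Ψ := le_sup_left
  have hHΨ : H ≤ Ψ := le_sup_right
  have hnorm : Ψ ≤ normalizer (E : Set G) := sup_le Subgroup.le_normalizer hHE
  haveI hE' : (E.subgroupOf Ψ).Normal := Subgroup.normal_subgroupOf_iff_le_normalizer hEΨ |>.mpr hnorm
  have h1 := Cfsg.Agent.Lib.PSolv.card_sup_mul_card_inf (H.subgroupOf Ψ) (E.subgroupOf Ψ)
  have eE : Nat.card (E.subgroupOf Ψ) = Nat.card E :=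
    Nat.card_congr (Subgroup.subgroupOfEquivOfLe hEΨ).toEquiv
  have eH : Nat.card (H.subgroupOf Ψ) = Nat.card H :=
    Nat.card_congr (Subgroup.subgroupOfEquivOfLe hHΨ).toEquiv
  have hsup : H.subgroupOf Ψ ⊔ E.subgroupOf Ψ = ⊤ := by
    rw [eq_top_iff]
    have h2 : ((H.subgroupOf Ψ ⊔ E.subgroupOf Ψ : Subgroup Ψ)).map Ψ.subtype = Ψ := by
      rw [Subgroup.map_sup, Subgroup.map_subgroupOf_eq_of_le hEΨ, Subgroup.map_subgroupOf_eq_of_le hHΨ,
        sup_comm]
    intro x _
    have h3 : (x : G) ∈ ((H.subgroupOf Ψ ⊔ E.subgroupOf Ψ : Subgroup Ψ)).map Ψ.subtype := by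
      rw [h2]; exact x.2
    obtain ⟨y, hy, hyx⟩ := h3
    have : y = x := Subtype.ext hyx
    rwa [← this]
  have hinf : H.subgroupOf Ψ ⊓ E.subgroupOf Ψ = ⊥ :=
    Subgroup.inf_eq_bot_of_coprime (by rw [eH, eE]; exact hcop)
  rw [hsup, hinf, Subgroup.card_bot, mul_one, Subgroup.card_top, eH, eE] at h1
  show Nat.card Ψ = _
  rw [h1, mul_comm]

/-- An element whose primary parts all lie in a subgroup lies there. -/
theorem mem_of_primary_parts [Finite G] (S : Subgroup G) (x : G)
    (h : ∀ y ∈ zpowers x, ∀ (r k : ℕ), r.Prime → y ^ r ^ k = 1 → y ∈ S) : x ∈ S := by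
  classical
  induction hn : orderOf x using Nat.strong_induction_on generalizing x with
  | _ n ih =>
  by_cases hx : orderOf x = 1
  · rw [orderOf_eq_one_iff.mp hx]; exact one_mem _
  have hr : (orderOf x).minFac.Prime := Nat.minFac_prime hx
  obtain ⟨a, b, hab, -, ⟨k, hk⟩, hb, ha, hbz⟩ := Cfsg.Agent.Lib.Transfer.exists_parts hr x
  have haS : a ∈ S := h a ha _ k hr hk
  have hlt : orderOf b < n := by
    have h1 : orderOf b ∣ orderOf x := by
      obtain ⟨i, rfl⟩ := mem_zpowers_iff.mp hbz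
      apply orderOf_dvd_of_pow_eq_one
      rw [← zpow_natCast, ← zpow_mul, mul_comm, zpow_mul, zpow_natCast, pow_orderOf_eq_one, one_zpow]
    have h2 : orderOf b ≠ orderOf x := by
      intro h3
      rw [h3] at hb
      have h4 : (orderOf x).minFac ∣ orderOf x := Nat.minFac_dvd _
      have h5 := Nat.Coprime.eq_one_of_dvd (Nat.Coprime.symm hb) h4
      exact hr.one_lt.ne h5.symm
    rw [← hn]
    exact lt_of_le_of_ne (Nat.le_of_dvd (orderOf_pos x) h1) h2
  have hbS : b ∈ S := by
    refine ih _ hlt b ?_ rfl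
    intro y hy r k hr' hyk
    have h3 : zpowers b ≤ zpowers x := (Subgroup.zpowers_le).mpr hbz
    exact h y (h3 hy) r k hr' hyk
  rw [hab]
  exact mul_mem haS hbS

/-- Growing subgroups avoiding an element in an elementary abelian group. -/
theorem grow {A : Type*} [CommGroup A] [Finite A] {r : ℕ} [hr : Fact r.Prime]
    (hexp : ∀ x : A, x ^ r = 1) {m m' : A} (hm : m ≠ 1) (hm' : m' ∉ zpowers m) :
    ∀ j : ℕ, r ^ (j + 1) < Nat.card A → ∃ W : Subgroup A, Nat.card W = r ^ (j + 1) ∧ m ∈ W ∧ m' ∉ W := by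
  classical
  intro j
  induction j with
  | zero =>
    intro _
    refine ⟨zpowers m, ?_, mem_zpowers m, hm'⟩
    rw [Nat.card_zpowers, orderOf_eq_prime (hexp m) hm]
    simp
  | succ j ih =>
    intro hlt
    have hlt' : r ^ (j + 1) < Nat.card A := by
      refine lt_of_le_of_lt (Nat.pow_le_pow_right hr.out.pos (by omega)) hlt
    obtain ⟨W, hWc, hmW, hm'W⟩ := ih hlt'
    -- an element outside `W ⊔ ⟨m'⟩`
    have hcardsup : Nat.card (W ⊔ zpowers m' : Subgroup A) ≤ r ^ (j + 1 + 1) := by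
      have h1 := Cfsg.Agent.Lib.PSolv.card_sup_mul_card_inf W (zpowers m')
      have hm'1 : m' ≠ 1 := by
        rintro rfl
        exact hm'W (one_mem _)
      rw [Nat.card_zpowers, orderOf_eq_prime (hexp m') hm'1, hWc] at h1
      have hpos : 0 < Nat.card (W ⊓ zpowers m' : Subgroup A) := Nat.card_pos
      calc Nat.card (W ⊔ zpowers m' : Subgroup A)
          ≤ Nat.card (W ⊔ zpowers m' : Subgroup A) * Nat.card (W ⊓ zpowers m' : Subgroup A) :=
            Nat.le_mul_of_pos_right _ hpos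
        _ = r ^ (j + 1) * r := h1
        _ = _ := (pow_succ r (j + 1)).symm
    obtain ⟨x, hx⟩ : ∃ x : A, x ∉ (W ⊔ zpowers m' : Subgroup A) := by
      by_contra hcon
      push Not at hcon
      have h2 : (W ⊔ zpowers m' : Subgroup A) = ⊤ := eq_top_iff.mpr fun y _ => hcon y
      rw [h2, Subgroup.card_top] at hcardsup
      omega
    have hxW : x ∉ W := fun h => hx (Subgroup.mem_sup_left h)
    have hx1 : x ≠ 1 := by
      rintro rfl
      exact hxW (one_mem _)
    have hxo : orderOf x = r := orderOf_eq_prime (hexp x) hx1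
    have hgen : ∀ i : ℤ, x ^ i ≠ 1 → x ∈ zpowers (x ^ i) := by
      intro i hi
      have h1 : orderOf (x ^ i) = r := orderOf_eq_prime (by
        rw [← zpow_natCast, ← zpow_mul, mul_comm, zpow_mul, zpow_natCast, hexp x, one_zpow]) hi
      have h2 : zpowers (x ^ i) = zpowers x := by
        apply Subgroup.eq_of_le_of_card_ge
        · rw [Subgroup.zpowers_le]; exact Subgroup.zpow_mem _ (mem_zpowers x) i
        · rw [Nat.card_zpowers, Nat.card_zpowers, h1, hxo]
      rw [h2]; exact mem_zpowers x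
    have hinf : W ⊓ zpowers x = ⊥ := by
      rw [eq_bot_iff]
      intro y hy
      obtain ⟨hyW, hyz⟩ := Subgroup.mem_inf.mp hy
      obtain ⟨i, rfl⟩ := mem_zpowers_iff.mp hyz
      rw [Subgroup.mem_bot]
      by_contra hne
      have h1 := hgen i hne
      exact hxW ((Subgroup.zpowers_le.mpr hyW) h1)
    refine ⟨W ⊔ zpowers x, ?_, Subgroup.mem_sup_left hmW, ?_⟩
    · have h1 := Cfsg.Agent.Lib.PSolv.card_sup_mul_card_inf W (zpowers x)
      rw [hinf, Subgroup.card_bot, mul_one, Nat.card_zpowers, hxo, hWc] at h1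
      rw [h1]
      exact (pow_succ r (j + 1)).symm
    · intro hcon
      obtain ⟨w, hw, y, hy, hwy⟩ := Subgroup.mem_sup.mp hcon
      obtain ⟨i, rfl⟩ := mem_zpowers_iff.mp hy
      by_cases hi : x ^ i = 1
      · rw [hi, mul_one] at hwy
        exact hm'W (hwy ▸ hw)
      · have h1 := hgen i hi
        apply hx
        have h2 : x ^ i ∈ (W ⊔ zpowers m' : Subgroup A) := by
          have h3 : x ^ i = w⁻¹ * m' := by rw [← hwy]; group
          rw [h3]
          exact mul_mem (Subgroup.mem_sup_left (inv_mem hw)) (Subgroup.mem_sup_right (mem_zpowers m'))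
        exact (Subgroup.zpowers_le.mpr h2) h1

end Cfsg.Agent.Lib.PGroup.ConjAb
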