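import Mathlib
import Cfsg.Agent.Lib.PGroup.Basic

/-!
# Breadth of p-groups (Vaughan-Lee's bound)

The main theorem `card_commutator_le`: if every conjugacy class of the finite `p`-group `G` has at
most `p ^ b` elements then `|G'| ≤ p ^ (b (b + 1) / 2)`.

The proof is an induction on `|N|` for a statement about a subgroup `N` and an element `t`
normalizing it: all the elements of the coset `tN` have few conjugates under `N`.
-/

namespace Cfsg.Agent.Lib.PGroup.Breadth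

open Subgroup
open scoped commutatorElement

variable {G : Type*} [Group G]

theorem comm_mul_left (a b c : G) : ⁅a * b, c⁆ = a * ⁅b, c⁆ * a⁻¹ * ⁅a, c⁆ := by
  simp only [commutatorElement_def]; group

theorem comm_mul_right (a b c : G) : ⁅a, b * c⁆ = ⁅a, b⁆ * (b * ⁅a, c⁆ * b⁻¹) := by
  simp only [commutatorElement_def]; group

theorem conj_eq_comm_mul (a x : G) : a * x * a⁻¹ = ⁅a, x⁆ * x := by
  simp only [commutatorElement_def]; group

/-- `II N t` is the subgroup `N' [t, N]`. -/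
def II (N : Subgroup G) (t : G) : Subgroup G :=
  ⁅N, N⁆ ⊔ closure ((fun m => ⁅t, m⁆) '' (N : Set G))

theorem comm_le_II (N : Subgroup G) (t : G) : ⁅N, N⁆ ≤ II N t := le_sup_left

theorem mem_II (N : Subgroup G) (t : G) {m : G} (hm : m ∈ N) : ⁅t, m⁆ ∈ II N t :=
  (le_sup_right : closure ((fun m => ⁅t, m⁆) '' (N : Set G)) ≤ II N t)
    (subset_closure ⟨m, hm, rfl⟩)

theorem commutator_self_le (N : Subgroup G) : ⁅N, N⁆ ≤ N :=
  Subgroup.commutator_le.mpr fun a ha b hb => by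
    rw [commutatorElement_def]
    exact N.mul_mem (N.mul_mem (N.mul_mem ha hb) (N.inv_mem ha)) (N.inv_mem hb)

theorem II_le {N H : Subgroup G} {t : G} (hNH : ⁅N, N⁆ ≤ H) (ht : ∀ m ∈ N, ⁅t, m⁆ ∈ H) :
    II N t ≤ H := by
  refine sup_le hNH ((closure_le _).mpr ?_)
  rintro _ ⟨m, hm, rfl⟩
  exact ht m hm

theorem II_mul_le (N : Subgroup G) (t : G) {n : G} (hn : n ∈ N) : II N (t * n) ≤ II N t := by
  refine II_le (comm_le_II N t) ?_
  intro m hm
  have h : ⁅t * n, m⁆ = ⁅t, n * m * n⁻¹⁆ * ⁅n, m⁆ := by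
    simp only [commutatorElement_def]; group
  rw [h]
  exact (II N t).mul_mem (mem_II N t (N.mul_mem (N.mul_mem hn hm) (N.inv_mem hn)))
    (comm_le_II N t (Subgroup.commutator_mem_commutator hn hm))

theorem II_mul_eq (N : Subgroup G) (t : G) {n : G} (hn : n ∈ N) : II N (t * n) = II N t := by
  refine le_antisymm (II_mul_le N t hn) ?_
  have := II_mul_le N (t * n) (N.inv_mem hn)
  simpa using this

/-- Elements of `R ⊔ ⟨F(X)⟩` have the form `F m * r` when `F` is a homomorphism modulo `R`. -/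
theorem form_lemma (X R : Subgroup G) (F : G → G)
    (hFR : ∀ m ∈ X, ∀ r ∈ R, (F m)⁻¹ * r * F m ∈ R)
    (hF : ∀ x ∈ X, ∀ y ∈ X, (F x * F y)⁻¹ * F (x * y) ∈ R) :
    ∀ c ∈ R ⊔ closure (F '' (X : Set G)), ∃ m ∈ X, ∃ r ∈ R, c = F m * r := by
  have h1 : F 1 ∈ R := by
    have := hF 1 X.one_mem 1 X.one_mem
    simp only [mul_one] at this
    have h2 : (F 1 * F 1)⁻¹ * F 1 = (F 1)⁻¹ := by group
    rw [h2] at this
    simpa using R.inv_mem this
  have key : ∀ c ∈ closure ((R : Set G) ∪ F '' (X : Set G)), ∃ m ∈ X, ∃ r ∈ R, c = F m * r := by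
    intro c hc'
    induction hc' using closure_induction with
    | mem x hx =>
      rcases hx with hx | ⟨m, hm, rfl⟩
      · exact ⟨1, X.one_mem, (F 1)⁻¹ * x, R.mul_mem (R.inv_mem h1) hx, by group⟩
      · exact ⟨m, hm, 1, R.one_mem, by group⟩
    | one => exact ⟨1, X.one_mem, (F 1)⁻¹, R.inv_mem h1, by group⟩
    | mul x y _ _ hx hy =>
      obtain ⟨m, hm, r, hr, rfl⟩ := hx
      obtain ⟨m', hm', r', hr', rfl⟩ := hy
      refine ⟨m * m', X.mul_mem hm hm',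
        ((F m * F m')⁻¹ * F (m * m'))⁻¹ * ((F m')⁻¹ * r * F m') * r', ?_, by group⟩
      exact R.mul_mem (R.mul_mem (R.inv_mem (hF m hm m' hm')) (hFR m' hm' r hr)) hr'
    | inv x _ hx =>
      obtain ⟨m, hm, r, hr, rfl⟩ := hx
      have h3 := hF m hm m⁻¹ (X.inv_mem hm)
      simp only [mul_inv_cancel] at h3
      have h4 : (F m * F m⁻¹)⁻¹ ∈ R := by
        have : (F m * F m⁻¹)⁻¹ = (F m * F m⁻¹)⁻¹ * F 1 * (F 1)⁻¹ := by group
        rw [this]; exact R.mul_mem h3 (R.inv_mem h1)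
      refine ⟨m⁻¹, X.inv_mem hm, (F m⁻¹)⁻¹ * r⁻¹ * F m⁻¹ * (F m * F m⁻¹)⁻¹, ?_, by group⟩
      exact R.mul_mem (hFR _ (X.inv_mem hm) _ (R.inv_mem hr)) h4
  intro c hc
  refine key c ?_
  rw [Subgroup.closure_union, closure_eq]; exact hc

/-- Counting: a subgroup of elements `F m * r` has at most `|X : K| |R|` elements when `F` is a
homomorphism modulo `R` sending `K` into `R`. -/
theorem count_lemma [Finite G] (X R K C : Subgroup G) (F : G → G)
    (hF : ∀ x ∈ X, ∀ y ∈ X, (F x * F y)⁻¹ * F (x * y) ∈ R)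
    (hK : ∀ k ∈ X, k ∈ K → F k ∈ R)
    (hC : ∀ c ∈ C, ∃ m ∈ X, ∃ r ∈ R, c = F m * r) :
    Nat.card C ≤ K.relIndex X * Nat.card R := by
  classical
  let Q := ↥X ⧸ K.subgroupOf X
  let g : Q × ↥R → G := fun z => F ((z.1.out : ↥X) : G) * (z.2 : G)
  have hsurj : ∀ c : ↥C, ∃ z, g z = (c : G) := by
    rintro ⟨c, hc⟩
    obtain ⟨m, hm, r, hr, rfl⟩ := hC c hc
    let q : Q := QuotientGroup.mk (⟨m, hm⟩ : ↥X)
    obtain ⟨h, hh⟩ := QuotientGroup.mk_out_eq_mul (K.subgroupOf X) (⟨m, hm⟩ : ↥X)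
    -- `q.out = m * h`
    have hout : ((q.out : ↥X) : G) = m * ((h : ↥X) : G) := by
      have : (q.out : ↥X) = (⟨m, hm⟩ : ↥X) * (h : ↥X) := hh
      rw [this]; rfl
    have hhX : ((h : ↥X) : G) ∈ X := (h : ↥X).2
    have hhK : ((h : ↥X) : G) ∈ K := h.2
    set x : G := ((q.out : ↥X) : G) with hx
    set k : G := ((h : ↥X) : G)⁻¹ with hk
    have hkX : k ∈ X := X.inv_mem hhX
    have hkK : k ∈ K := K.inv_mem hhK
    have hxX : x ∈ X := (q.out : ↥X).2
    have hmx : m = x * k := by rw [hout, hk]; group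
    have hFk : F k ∈ R := hK k hkX hkK
    have h5 := hF x hxX k hkX
    rw [← hmx] at h5
    refine ⟨(q, ⟨F k * ((F x * F k)⁻¹ * F m) * r, R.mul_mem (R.mul_mem hFk h5) hr⟩), ?_⟩
    simp only [g]
    show F x * (F k * ((F x * F k)⁻¹ * F m) * r) = F m * r
    group
  choose ι hι using hsurj
  have hinj : Function.Injective ι := by
    intro a b hab
    have : (a : G) = b := by rw [← hι a, ← hι b, hab]
    exact Subtype.ext this
  have h6 := Nat.card_le_card_of_injective ι hinj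
  have h7 : Nat.card (Q × ↥R) = K.relIndex X * Nat.card R := by
    rw [Nat.card_prod]; rfl
  rw [h7] at h6
  exact h6

theorem conj_mem_of_comm_le {H R : Subgroup G} (hA : ⁅H, H⁆ ≤ R) (hRH : R ≤ H) {x r : G}
    (hx : x ∈ H) (hr : r ∈ R) : x * r * x⁻¹ ∈ R := by
  rw [conj_eq_comm_mul]
  exact R.mul_mem (hA (Subgroup.commutator_mem_commutator hx (hRH hr))) hr

theorem inv_conj_mem_of_comm_le {H R : Subgroup G} (hA : ⁅H, H⁆ ≤ R) (hRH : R ≤ H) {x r : G}
    (hx : x ∈ H) (hr : r ∈ R) : x⁻¹ * r * x ∈ R := by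
  have := conj_mem_of_comm_le hA hRH (H.inv_mem hx) hr
  simpa using this

theorem relIndex_mul_card' {H L : Subgroup G} (h : H ≤ L) :
    H.relIndex L * Nat.card H = Nat.card L := by
  have h1 := (H.subgroupOf L).card_mul_index
  have e1 : Nat.card (H.subgroupOf L) = Nat.card H :=
    Nat.card_congr (Subgroup.subgroupOfEquivOfLe h).toEquiv
  rw [e1] at h1
  rw [Subgroup.relIndex, mul_comm]
  exact h1

theorem sup_card [Finite G] {H I₁ I₂ : Subgroup G} (h1 : ⁅H, H⁆ ≤ I₁) (h1' : I₁ ≤ H)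
    (h2 : ⁅H, H⁆ ≤ I₂) (h2' : I₂ ≤ H) :
    Nat.card (I₁ ⊔ I₂ : Subgroup G) * Nat.card (⁅H, H⁆ : Subgroup G) ≤ Nat.card I₁ * Nat.card I₂ := by
  have hform := form_lemma I₂ I₁ id
    (fun m hm r hr => inv_conj_mem_of_comm_le h1 h1' (h2' hm) hr)
    (fun x _ y _ => by simp)
  have hcount := count_lemma I₂ I₁ ⁅H, H⁆ (I₁ ⊔ I₂) id (fun x _ y _ => by simp)
    (fun k _ hk => h1 hk)
    (fun c hc => hform c (by simpa using hc))
  have h3 := relIndex_mul_card' h2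
  calc Nat.card (I₁ ⊔ I₂ : Subgroup G) * Nat.card (⁅H, H⁆ : Subgroup G)
      ≤ ((⁅H, H⁆ : Subgroup G).relIndex I₂ * Nat.card I₁) * Nat.card (⁅H, H⁆ : Subgroup G) := Nat.mul_le_mul_right _ hcount
    _ = Nat.card I₁ * ((⁅H, H⁆ : Subgroup G).relIndex I₂ * Nat.card (⁅H, H⁆ : Subgroup G)) := by ring
    _ = Nat.card I₁ * Nat.card I₂ := by rw [h3]

theorem card_sup_le [Finite G] {H I₁ I₂ : Subgroup G} (h1 : ⁅H, H⁆ ≤ I₁) (h1' : I₁ ≤ H)
    (h2 : ⁅H, H⁆ ≤ I₂) (h2' : I₂ ≤ H) {x : ℕ} (hx : Nat.card I₂ ≤ x * Nat.card (⁅H, H⁆ : Subgroup G)) :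
    Nat.card (I₁ ⊔ I₂ : Subgroup G) ≤ Nat.card I₁ * x := by
  have h3 := sup_card h1 h1' h2 h2'
  have h4 : 0 < Nat.card (⁅H, H⁆ : Subgroup G) := Nat.card_pos
  have h5 : Nat.card (I₁ ⊔ I₂ : Subgroup G) * Nat.card (⁅H, H⁆ : Subgroup G)
      ≤ (Nat.card I₁ * x) * Nat.card (⁅H, H⁆ : Subgroup G) :=
    h3.trans (by
      calc Nat.card I₁ * Nat.card I₂ ≤ Nat.card I₁ * (x * Nat.card (⁅H, H⁆ : Subgroup G)) :=
            Nat.mul_le_mul_left _ hx
        _ = _ := by ring)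
  exact Nat.le_of_mul_le_mul_right h5 h4

theorem card_II_le [Finite G] {H : Subgroup G} {g : G} (hg : ∀ m ∈ H, ⁅g, m⁆ ∈ H) :
    Nat.card (II H g) ≤ (centralizer ({g} : Set G)).relIndex H * Nat.card (⁅H, H⁆ : Subgroup G) := by
  have hA : ⁅H, H⁆ ≤ H := commutator_self_le H
  have hform := form_lemma H ⁅H, H⁆ (fun m => ⁅g, m⁆)
    (fun m hm r hr => inv_conj_mem_of_comm_le le_rfl hA (hg m hm) hr)
    (by
      intro x hx y hy
      have : (⁅g, x⁆ * ⁅g, y⁆)⁻¹ * ⁅g, x * y⁆ = ⁅⁅g, y⁆⁻¹, x⁆ := by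
        simp only [commutatorElement_def]; group
      simp only [this]
      exact Subgroup.commutator_mem_commutator (H.inv_mem (hg y hy)) hx)
  refine count_lemma H ⁅H, H⁆ (centralizer ({g} : Set G)) (II H g) (fun m => ⁅g, m⁆)
    (by
      intro x hx y hy
      have : (⁅g, x⁆ * ⁅g, y⁆)⁻¹ * ⁅g, x * y⁆ = ⁅⁅g, y⁆⁻¹, x⁆ := by
        simp only [commutatorElement_def]; group
      simp only [this]
      exact Subgroup.commutator_mem_commutator (H.inv_mem (hg y hy)) hx)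
    (by
      intro k _ hk
      have hk' : k * g = g * k := Subgroup.mem_centralizer_singleton_iff.mp hk
      have : ⁅g, k⁆ = 1 := commutatorElement_eq_one_iff_mul_comm.mpr hk'.symm
      simp only [this]
      exact Subgroup.one_mem _)
    hform

/-- The setup of the inductive step: `H` is a normal subgroup of index `p` of `N`. -/
structure Ctx (N H : Subgroup G) (p : ℕ) : Prop where
  le : H ≤ N
  nrm : ∀ n ∈ N, ∀ m ∈ H, n * m * n⁻¹ ∈ H
  idx : H.relIndex N = p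
  comm : ∀ a ∈ N, ∀ b ∈ N, ⁅a, b⁆ ∈ H

variable {N H : Subgroup G} {p : ℕ}

theorem Ctx.good_mul (hc : Ctx N H p) {σ n : G} (hσ : ∀ m ∈ N, ⁅σ, m⁆ ∈ H) (hn : n ∈ N) :
    ∀ m ∈ N, ⁅σ * n, m⁆ ∈ H := by
  intro m hm
  have h : ⁅σ * n, m⁆ = ⁅σ, n * m * n⁻¹⁆ * ⁅n, m⁆ := by
    simp only [commutatorElement_def]; group
  rw [h]
  exact H.mul_mem (hσ _ (N.mul_mem (N.mul_mem hn hm) (N.inv_mem hn))) (hc.comm n hn m hm)

theorem Ctx.form [Fact p.Prime] [Finite G] (hc : Ctx N H p) {y : G} (hy : y ∈ N) (hyH : y ∉ H)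
    {m : G} (hm : m ∈ N) : ∃ w ∈ H, ∃ i : ℕ, m = w * y ^ i := by
  haveI hnrm : (H.subgroupOf N).Normal := ⟨by
    intro a ha b
    rw [Subgroup.mem_subgroupOf] at ha ⊢
    exact hc.nrm b b.2 a ha⟩
  have hcard : Nat.card (↥N ⧸ H.subgroupOf N) = p := by
    rw [← Subgroup.index_eq_card]; exact hc.idx
  have hne : (QuotientGroup.mk (⟨y, hy⟩ : ↥N) : ↥N ⧸ H.subgroupOf N) ≠ 1 := by
    rw [Ne, QuotientGroup.eq_one_iff, Subgroup.mem_subgroupOf]
    exact hyH
  have h1 := mem_zpowers_of_prime_card hcard (g := QuotientGroup.mk (⟨y, hy⟩ : ↥N))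
    (g' := QuotientGroup.mk (⟨m, hm⟩ : ↥N)) hne
  have h2 := mem_powers_iff_mem_zpowers.mpr h1
  obtain ⟨i, hi⟩ := Submonoid.mem_powers_iff _ _ |>.mp h2
  have h3 : (QuotientGroup.mk ((⟨y, hy⟩ : ↥N) ^ i) : ↥N ⧸ H.subgroupOf N)
      = QuotientGroup.mk (⟨m, hm⟩ : ↥N) := by
    rw [QuotientGroup.mk_pow]; exact hi
  rw [QuotientGroup.eq, Subgroup.mem_subgroupOf] at h3
  simp only [InvMemClass.coe_inv, MulMemClass.coe_mul, SubmonoidClass.coe_pow] at h3
  refine ⟨m * (y ^ i)⁻¹, ?_, i, by group⟩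
  have h4 := hc.nrm (y ^ i) (N.pow_mem hy i) _ h3
  have h5 : y ^ i * ((y ^ i)⁻¹ * m) * (y ^ i)⁻¹ = m * (y ^ i)⁻¹ := by group
  rwa [h5] at h4

theorem Ctx.induct [Fact p.Prime] [Finite G] (hc : Ctx N H p) {y : G} (hy : y ∈ N) (hyH : y ∉ H)
    (Pr : G → Prop) (hH : ∀ w ∈ H, Pr w) (hPy : Pr y) (hmul : ∀ a b, Pr a → Pr b → Pr (a * b)) :
    ∀ m ∈ N, Pr m := by
  have hpow : ∀ i : ℕ, Pr (y ^ i) := by
    intro i
    induction i with
    | zero => simpa using hH 1 H.one_mem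
    | succ i ih => rw [pow_succ]; exact hmul _ _ ih hPy
  intro m hm
  obtain ⟨w, hw, i, rfl⟩ := hc.form hy hyH hm
  exact hmul _ _ (hH w hw) (hpow i)

theorem Ctx.R_normal [Fact p.Prime] [Finite G] (hc : Ctx N H p) {y : G} (hy : y ∈ N) (hyH : y ∉ H)
    {R : Subgroup G} (hRH : R ≤ H) (hA : ⁅H, H⁆ ≤ R) (hny : ∀ n ∈ H, ⁅n, y⁆ ∈ R) :
    ∀ x ∈ N, ∀ r ∈ R, x * r * x⁻¹ ∈ R := by
  refine hc.induct hy hyH (fun x => ∀ r ∈ R, x * r * x⁻¹ ∈ R) ?_ ?_ ?_
  · intro w hw r hr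
    exact conj_mem_of_comm_le hA hRH hw hr
  · intro r hr
    rw [conj_eq_comm_mul]
    have : ⁅y, r⁆ = ⁅r, y⁆⁻¹ := (commutatorElement_inv r y).symm
    rw [this]
    exact R.mul_mem (R.inv_mem (hny r (hRH hr))) hr
  · intro a b ha hb r hr
    have : a * b * r * (a * b)⁻¹ = a * (b * r * b⁻¹) * a⁻¹ := by group
    rw [this]
    exact ha _ (hb r hr)

theorem Ctx.comm_le [Fact p.Prime] [Finite G] (hc : Ctx N H p) {y : G} (hy : y ∈ N) (hyH : y ∉ H)
    {R : Subgroup G} (hRH : R ≤ H) (hA : ⁅H, H⁆ ≤ R) (hny : ∀ n ∈ H, ⁅n, y⁆ ∈ R) :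
    ⁅N, N⁆ ≤ R := by
  have hnorm := hc.R_normal hy hyH hRH hA hny
  -- step 1
  have s1 : ∀ w ∈ H, ∀ b ∈ N, ⁅w, b⁆ ∈ R := by
    intro w hw b hb
    have := hc.induct hy hyH (fun b => b ∈ N ∧ ⁅w, b⁆ ∈ R)
      (fun w' hw' => ⟨hc.le hw', hA (Subgroup.commutator_mem_commutator hw hw')⟩)
      ⟨hy, hny w hw⟩
      (fun a b ha hb => ⟨N.mul_mem ha.1 hb.1, by
        rw [comm_mul_right]
        exact R.mul_mem ha.2 (hnorm a ha.1 _ hb.2)⟩) b hb
    exact this.2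
  have s2 : ∀ b ∈ N, ⁅b, y⁆ ∈ R := by
    intro b hb
    have := hc.induct hy hyH (fun b => b ∈ N ∧ ⁅b, y⁆ ∈ R)
      (fun w' hw' => ⟨hc.le hw', hny w' hw'⟩)
      ⟨hy, by simp⟩
      (fun a b ha hb => ⟨N.mul_mem ha.1 hb.1, by
        rw [comm_mul_left]
        exact R.mul_mem (hnorm a ha.1 _ hb.2) ha.2⟩) b hb
    exact this.2
  rw [Subgroup.commutator_le]
  intro a ha b hb
  have := hc.induct hy hyH (fun a => a ∈ N ∧ ⁅a, b⁆ ∈ R)
    (fun w hw => ⟨hc.le hw, s1 w hw b hb⟩)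
    ⟨hy, by
      have : ⁅y, b⁆ = ⁅b, y⁆⁻¹ := (commutatorElement_inv b y).symm
      rw [this]; exact R.inv_mem (s2 b hb)⟩
    (fun a a' ha ha' => ⟨N.mul_mem ha.1 ha'.1, by
      rw [comm_mul_left]
      exact R.mul_mem (hnorm a ha.1 _ ha'.2) ha.2⟩) a ha
  exact this.2

theorem Ctx.II_le_of [Fact p.Prime] [Finite G] (hc : Ctx N H p) {y : G} (hy : y ∈ N) (hyH : y ∉ H)
    {R : Subgroup G} (hRH : R ≤ H) (hA : ⁅H, H⁆ ≤ R) (hny : ∀ n ∈ H, ⁅n, y⁆ ∈ R) {σ : G}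
    (hσH : ∀ m ∈ H, ⁅σ, m⁆ ∈ R) (hσy : ⁅σ, y⁆ ∈ R) : II N σ ≤ R := by
  have hnorm := hc.R_normal hy hyH hRH hA hny
  refine II_le (hc.comm_le hy hyH hRH hA hny) ?_
  intro m hm
  have := hc.induct hy hyH (fun m => m ∈ N ∧ ⁅σ, m⁆ ∈ R)
    (fun w hw => ⟨hc.le hw, hσH w hw⟩)
    ⟨hy, hσy⟩
    (fun a b ha hb => ⟨N.mul_mem ha.1 hb.1, by
      rw [comm_mul_right]
      exact R.mul_mem ha.2 (hnorm a ha.1 _ hb.2)⟩) m hm
  exact this.2

theorem II_le_self {H : Subgroup G} {σ : G} (hσ : ∀ m ∈ H, ⁅σ, m⁆ ∈ H) : II H σ ≤ H :=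
  II_le (commutator_self_le H) hσ

theorem Ctx.comm_mem_sup (hc : Ctx N H p) {σ y : G} (hσ : ∀ m ∈ N, ⁅σ, m⁆ ∈ H) (hy : y ∈ N)
    {n : G} (hn : n ∈ H) : ⁅n, y⁆ ∈ II H σ ⊔ II H (σ * y) := by
  have hu : ⁅y, n⁆ ∈ H := hc.comm y hy n (hc.le hn)
  have h1 : ⁅n, y⁆ = ⁅σ, n⁆ * ⁅σ * y, n⁆⁻¹ * ⁅σ, ⁅y, n⁆⁆ := by
    have h2 : ⁅σ * y, n⁆ = ⁅σ, ⁅y, n⁆⁆ * ⁅y, n⁆ * ⁅σ, n⁆ := by
      rw [comm_mul_left, conj_eq_comm_mul]
    rw [h2, ← commutatorElement_inv y n]
    group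
  rw [h1]
  have hle1 : II H σ ≤ II H σ ⊔ II H (σ * y) := le_sup_left
  have hle2 : II H (σ * y) ≤ II H σ ⊔ II H (σ * y) := le_sup_right
  exact Subgroup.mul_mem _ (Subgroup.mul_mem _ (hle1 (mem_II H σ hn))
    (Subgroup.inv_mem _ (hle2 (mem_II H _ hn)))) (hle1 (mem_II H σ hu))

theorem Ctx.card_II_le_p [Fact p.Prime] [Finite G] (hc : Ctx N H p) {σ y : G}
    (hσ : ∀ m ∈ N, ⁅σ, m⁆ ∈ H) (hy : y ∈ N) (hyH : y ∉ H) :
    Nat.card (II N σ) ≤ p * Nat.card (II H σ ⊔ II H (σ * y) : Subgroup G) := by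
  set R := II H σ ⊔ II H (σ * y) with hR
  have hσH : ∀ m ∈ H, ⁅σ, m⁆ ∈ H := fun m hm => hσ m (hc.le hm)
  have hσyH : ∀ m ∈ H, ⁅σ * y, m⁆ ∈ H := fun m hm => hc.good_mul hσ hy m (hc.le hm)
  have hRH : R ≤ H := sup_le (II_le_self hσH) (II_le_self hσyH)
  have hA : ⁅H, H⁆ ≤ R := (comm_le_II H σ).trans le_sup_left
  have hny : ∀ n ∈ H, ⁅n, y⁆ ∈ R := fun n hn => hc.comm_mem_sup hσ hy hn
  have hnorm := hc.R_normal hy hyH hRH hA hny
  have hNR := hc.comm_le hy hyH hRH hA hny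
  have hF : ∀ x ∈ N, ∀ z ∈ N, (⁅σ, x⁆ * ⁅σ, z⁆)⁻¹ * ⁅σ, x * z⁆ ∈ R := by
    intro x hx z hz
    have : (⁅σ, x⁆ * ⁅σ, z⁆)⁻¹ * ⁅σ, x * z⁆ = ⁅⁅σ, z⁆⁻¹, x⁆ := by
      simp only [commutatorElement_def]; group
    rw [this]
    exact hNR (Subgroup.commutator_mem_commutator (N.inv_mem (hc.le (hσ z hz))) hx)
  have hform := form_lemma N R (fun m => ⁅σ, m⁆)
    (fun m hm r hr => by
      have := hnorm (⁅σ, m⁆)⁻¹ (N.inv_mem (hc.le (hσ m hm))) r hr
      simpa using this) hF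
  have hcount := count_lemma N R H (II N σ) (fun m => ⁅σ, m⁆) hF
    (fun k _ hk => (le_sup_left : II H σ ≤ R) (mem_II H σ hk))
    (fun c hcc => hform c (by
      have h1 : II N σ ≤ R ⊔ closure ((fun m => ⁅σ, m⁆) '' (N : Set G)) :=
        sup_le_sup_right hNR _
      exact h1 hcc))
  rwa [hc.idx] at hcount

theorem Ctx.card_II_le_P [Fact p.Prime] [Finite G] (hc : Ctx N H p) {σ y : G}
    (hσ : ∀ m ∈ N, ⁅σ, m⁆ ∈ H) (hy : y ∈ N) (hyH : y ∉ H) (hcomm : ⁅σ, y⁆ = 1)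
    (P₁ : Subgroup G) (hP₁ : ∀ n ∈ H, n ∈ P₁ → ⁅n, y⁆ ∈ II H σ) :
    Nat.card (II N σ) ≤ P₁.relIndex H * Nat.card (II H σ) := by
  set I₀ := II H σ with hI₀
  have hσH : ∀ m ∈ H, ⁅σ, m⁆ ∈ H := fun m hm => hσ m (hc.le hm)
  have hI₀H : I₀ ≤ H := II_le_self hσH
  have hAI : ⁅H, H⁆ ≤ I₀ := comm_le_II H σ
  have hFH : ∀ n ∈ H, ⁅n, y⁆ ∈ H := fun n hn => hc.comm n (hc.le hn) y hy
  have hF : ∀ x ∈ H, ∀ z ∈ H, (⁅x, y⁆ * ⁅z, y⁆)⁻¹ * ⁅x * z, y⁆ ∈ I₀ := by
    intro x hx z hz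
    have hu := hFH x hx
    have hv := hFH z hz
    have h1 : (⁅x, y⁆ * ⁅z, y⁆)⁻¹ * ⁅x * z, y⁆
        = (⁅z, y⁆⁻¹ * ⁅x, y⁆⁻¹) * ⁅x, ⁅z, y⁆⁆ * (⁅z, y⁆⁻¹ * ⁅x, y⁆⁻¹)⁻¹
          * ⁅⁅z, y⁆⁻¹, ⁅x, y⁆⁻¹⁆ := by
      rw [comm_mul_left, conj_eq_comm_mul]
      simp only [commutatorElement_def]; group
    rw [h1]
    refine hAI (Subgroup.mul_mem _ ?_ (Subgroup.commutator_mem_commutator (H.inv_mem hv)
      (H.inv_mem hu)))
    exact conj_mem_of_comm_le le_rfl (commutator_self_le H)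
      (H.mul_mem (H.inv_mem hv) (H.inv_mem hu)) (Subgroup.commutator_mem_commutator hx hv)
  have hform := form_lemma H I₀ (fun n => ⁅n, y⁆)
    (fun m hm r hr => inv_conj_mem_of_comm_le hAI hI₀H (hFH m hm) hr) hF
  have hcount := count_lemma H I₀ P₁ (II N σ) (fun n => ⁅n, y⁆) hF hP₁
    (fun c hcc => hform c (by
      have h1 : II N σ ≤ I₀ ⊔ closure ((fun n => ⁅n, y⁆) '' (H : Set G)) := by
        refine hc.II_le_of hy hyH (R := I₀ ⊔ closure ((fun n => ⁅n, y⁆) '' (H : Set G))) ?_ ?_ ?_ ?_ ?_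
        · refine sup_le hI₀H ((closure_le _).mpr ?_)
          rintro _ ⟨n, hn, rfl⟩
          exact hFH n hn
        · exact hAI.trans le_sup_left
        · intro n hn
          exact (le_sup_right : closure ((fun n => ⁅n, y⁆) '' (H : Set G)) ≤ _)
            (subset_closure ⟨n, hn, rfl⟩)
        · intro m hm
          exact (le_sup_left : I₀ ≤ _) (mem_II H σ hm)
        · rw [hcomm]; exact Subgroup.one_mem _
      exact h1 hcc))
  exact hcount

theorem Ctx.key_a [Fact p.Prime] [Finite G] (hc : Ctx N H p) {σ n m y : G}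
    (hσ : ∀ m ∈ N, ⁅σ, m⁆ ∈ H) (hn : n ∈ H) (hm : m ∈ N) (hmH : m ∉ H)
    (hcomm : ⁅σ * n, m⁆ = 1) (hy : y ∈ N) :
    ⁅n, y⁆ * ⁅σ, y⁆ ∈ II H σ := by
  obtain ⟨w, hw, i, hwy⟩ := hc.form hm hmH hy
  set R := II H σ with hR
  have hσH : ∀ m ∈ H, ⁅σ, m⁆ ∈ H := fun m hm => hσ m (hc.le hm)
  have hRH : R ≤ H := II_le_self hσH
  have hA : ⁅H, H⁆ ≤ R := comm_le_II H σ
  have hw₁ : w⁻¹ ∈ H := H.inv_mem hw
  have hnN : n ∈ N := hc.le hn
  have hc0 : w⁻¹ * y = m ^ i := by rw [hwy]; group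
  have hcN : w⁻¹ * y ∈ N := by rw [hc0]; exact N.pow_mem hm i
  have h00 : ⁅σ * n, w⁻¹ * y⁆ = 1 := by
    rw [hc0]
    rw [commutatorElement_eq_one_iff_mul_comm] at hcomm ⊢
    exact (Commute.pow_right hcomm i)
  have hu₁ : ⁅n, w⁻¹ * y⁆ ∈ H := hc.comm n hnN _ hcN
  have hv₁ : ⁅n, y⁆ ∈ H := hc.comm n hnN y hy
  have hv₂ : ⁅σ, y⁆ ∈ H := hσ y hy
  -- u₁ u₂ ∈ R
  have h1 : ⁅n, w⁻¹ * y⁆ * ⁅σ, w⁻¹ * y⁆ ∈ R := by
    have h2 := comm_mul_left σ n (w⁻¹ * y)
    rw [h00, conj_eq_comm_mul] at h2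
    have h3 : ⁅n, w⁻¹ * y⁆ * ⁅σ, w⁻¹ * y⁆ = ⁅σ, ⁅n, w⁻¹ * y⁆⁆⁻¹ := by
      have h4 : ⁅σ, ⁅n, w⁻¹ * y⁆⁆ * (⁅n, w⁻¹ * y⁆ * ⁅σ, w⁻¹ * y⁆) = 1 := by
        rw [← mul_assoc]; exact h2.symm
      exact eq_inv_of_mul_eq_one_right h4
    rw [h3]
    exact R.inv_mem (mem_II H σ hu₁)
  -- expansions
  have h5 : ⁅n, w⁻¹ * y⁆ = (⁅n, w⁻¹⁆ * ⁅w⁻¹, ⁅n, y⁆⁆) * ⁅n, y⁆ := by
    rw [comm_mul_right, conj_eq_comm_mul]; group
  have h6 : ⁅σ, w⁻¹ * y⁆ = (⁅σ, w⁻¹⁆ * ⁅w⁻¹, ⁅σ, y⁆⁆) * ⁅σ, y⁆ := by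
    rw [comm_mul_right, conj_eq_comm_mul]; group
  have ha₁ : ⁅n, w⁻¹⁆ * ⁅w⁻¹, ⁅n, y⁆⁆ ∈ R :=
    R.mul_mem (hA (Subgroup.commutator_mem_commutator hn hw₁))
      (hA (Subgroup.commutator_mem_commutator hw₁ hv₁))
  have ha₂ : ⁅σ, w⁻¹⁆ * ⁅w⁻¹, ⁅σ, y⁆⁆ ∈ R :=
    R.mul_mem (mem_II H σ hw₁) (hA (Subgroup.commutator_mem_commutator hw₁ hv₂))
  rw [h5, h6] at h1
  set a₁ := ⁅n, w⁻¹⁆ * ⁅w⁻¹, ⁅n, y⁆⁆
  set a₂ := ⁅σ, w⁻¹⁆ * ⁅w⁻¹, ⁅σ, y⁆⁆
  have h7 : ⁅n, y⁆ * ⁅σ, y⁆ = (⁅n, y⁆ * a₂ * ⁅n, y⁆⁻¹)⁻¹ * a₁⁻¹ * (a₁ * ⁅n, y⁆ * (a₂ * ⁅σ, y⁆)) := by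
    group
  rw [h7]
  exact R.mul_mem (R.mul_mem (R.inv_mem (conj_mem_of_comm_le hA hRH hv₁ ha₂)) (R.inv_mem ha₁)) h1

theorem Ctx.relIndex_eq [Finite G] (hc : Ctx N H p) {g : G} (hle : ∀ m ∈ N, ⁅g, m⁆ = 1 → m ∈ H) :
    (centralizer ({g} : Set G)).relIndex N = (centralizer ({g} : Set G)).relIndex H * p := by
  set C := centralizer ({g} : Set G) with hC
  have h1 : C ⊓ N ≤ H := by
    rintro m ⟨hmC, hmN⟩
    refine hle m hmN ?_
    have hk' : m * g = g * m := Subgroup.mem_centralizer_singleton_iff.mp hmC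
    exact commutatorElement_eq_one_iff_mul_comm.mpr hk'.symm
  have h2 : C ⊓ N = C ⊓ H := le_antisymm (le_inf inf_le_left h1) (inf_le_inf_left _ hc.le)
  have h3 := Subgroup.relIndex_mul_relIndex (C ⊓ N) H N h1 hc.le
  rw [Subgroup.inf_relIndex_right, h2, Subgroup.inf_relIndex_right, hc.idx] at h3
  exact h3.symm

theorem relIndex_centralizer_le [Finite G] (hle : H ≤ N) (g : G) :
    (centralizer ({g} : Set G)).relIndex H ≤ (centralizer ({g} : Set G)).relIndex N :=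
  Subgroup.relIndex_le_of_le_right hle Subgroup.index_ne_zero_of_finite

theorem Ctx.exists_comm [Finite G] (hc : Ctx N H p) (hp : 1 < p) {g : G}
    (hle : (centralizer ({g} : Set G)).relIndex N ≤ (centralizer ({g} : Set G)).relIndex H) :
    ∃ m ∈ N, m ∉ H ∧ ⁅g, m⁆ = 1 := by
  by_contra hcon
  push_neg at hcon
  have h1 := hc.relIndex_eq (g := g) (fun m hm h1 => by
    by_contra hmH
    exact hcon m hm hmH h1)
  rw [h1] at hle
  have h2 : 0 < (centralizer ({g} : Set G)).relIndex H :=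
    Nat.pos_of_ne_zero Subgroup.index_ne_zero_of_finite
  nlinarith

theorem exists_Ctx [Fact p.Prime] [Finite G] (hG : IsPGroup p G) {P : Subgroup G} {t : G}
    (hN : ∀ m ∈ N, t * m * t⁻¹ ∈ N) (hPN : P ≤ N) (hP : ∀ m ∈ P, t * m * t⁻¹ ∈ P)
    (hne : P ≠ N) : ∃ H, P ≤ H ∧ Ctx N H p ∧ ∀ m ∈ N, ⁅t, m⁆ ∈ H := by
  set J : Subgroup G := P ⊔ closure ((fun m => ⁅t, m⁆) '' (N : Set G)) with hJ
  have hJN : J ≤ N := by
    refine sup_le hPN ((closure_le _).mpr ?_)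
    rintro _ ⟨m, hm, rfl⟩
    simp only [SetLike.mem_coe, commutatorElement_def]
    exact N.mul_mem (hN m hm) (N.inv_mem hm)
  have hnil : Group.IsNilpotent G := hG.isNilpotent
  have hnotle : ¬ N ≤ J := by
    intro hle
    have hall : ∀ k, N ≤ P ⊔ (⊤ : Subgroup G).lowerCentralSeries k := by
      intro k
      induction k with
      | zero =>
        have : (⊤ : Subgroup G).lowerCentralSeries 0 = ⊤ := rfl
        rw [this]; simp
      | succ k ih =>
        refine hle.trans (sup_le le_sup_left ((closure_le _).mpr ?_))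
        rintro _ ⟨m, hm, rfl⟩
        have hm' := ih hm
        rw [← SetLike.mem_coe, Subgroup.mul_normal] at hm'
        obtain ⟨a, ha, b, hb, rfl⟩ := Set.mem_mul.mp hm'
        simp only [SetLike.mem_coe] at ha hb ⊢
        rw [comm_mul_right]
        refine Subgroup.mul_mem _ (le_sup_left (a := P) ?_) (le_sup_right (b := (⊤ : Subgroup G).lowerCentralSeries (k + 1)) ?_)
        · rw [commutatorElement_def]
          exact P.mul_mem (hP a ha) (P.inv_mem ha)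
        · have h1 : ⁅t, b⁆ ∈ (⊤ : Subgroup G).lowerCentralSeries (k + 1) := by
            have : ⁅t, b⁆ = ⁅b, t⁆⁻¹ := (commutatorElement_inv b t).symm
            rw [this]
            refine Subgroup.inv_mem _ ?_
            rw [Subgroup.lowerCentralSeries_succ]
            exact Subgroup.commutator_mem_commutator hb (Subgroup.mem_top t)
          exact (inferInstance : ((⊤ : Subgroup G).lowerCentralSeries (k + 1)).Normal).conj_mem _ h1 a
    obtain ⟨n, hn⟩ := _root_.nilpotent_iff_lowerCentralSeries.mp hnil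
    have h2 := hall n
    rw [hn, sup_bot_eq] at h2
    exact hne (le_antisymm hPN h2)
  have hne2 : J.subgroupOf N ≠ ⊤ := by
    intro htop
    exact hnotle (Subgroup.subgroupOf_eq_top.mp htop)
  obtain ⟨M, hM, hJM⟩ := (eq_top_or_exists_le_coatom (J.subgroupOf N)).resolve_left hne2
  have hpN : IsPGroup p ↥N := hG.to_subgroup N
  have hidx : M.index = p := Cfsg.Agent.Lib.PGroup.index_eq_prime_of_isCoatom hpN hM
  have hnrm : M.Normal := Cfsg.Agent.Lib.PGroup.normal_of_index_eq_prime hpN hidx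
  refine ⟨M.map N.subtype, ?_, ⟨Subgroup.map_subtype_le M, ?_, ?_, ?_⟩, ?_⟩
  · intro x hx
    have : (⟨x, hPN hx⟩ : ↥N) ∈ M := hJM (by
      rw [Subgroup.mem_subgroupOf]; exact le_sup_left (a := P) hx)
    exact ⟨_, this, rfl⟩
  · rintro n hn _ ⟨m, hm, rfl⟩
    exact ⟨(⟨n, hn⟩ : ↥N) * m * (⟨n, hn⟩ : ↥N)⁻¹, hnrm.conj_mem m hm _, rfl⟩
  · have : (M.map N.subtype).subgroupOf N = M := by
      ext x
      simp [Subgroup.mem_subgroupOf]
    rw [Subgroup.relIndex, this]; exact hidx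
  · intro a ha b hb
    have hc : Nat.card (↥N ⧸ M) = p := by rw [← Subgroup.index_eq_card]; exact hidx
    have hcyc : IsCyclic (↥N ⧸ M) := isCyclic_of_prime_card hc
    have hmem : ⁅(⟨a, ha⟩ : ↥N), (⟨b, hb⟩ : ↥N)⁆ ∈ M := by
      rw [← QuotientGroup.eq_one_iff]
      have hcomm : ((⟨a, ha⟩ : ↥N) : ↥N ⧸ M) * ((⟨b, hb⟩ : ↥N) : ↥N ⧸ M)
          = ((⟨b, hb⟩ : ↥N) : ↥N ⧸ M) * ((⟨a, ha⟩ : ↥N) : ↥N ⧸ M) :=
        hcyc.isMulCommutative.is_comm.comm _ _
      rw [commutatorElement_def]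
      simp only [QuotientGroup.mk_mul, QuotientGroup.mk_inv]
      rw [hcomm]
      group
    exact ⟨_, hmem, rfl⟩
  · intro m hm
    have h1 : ⁅t, m⁆ ∈ J := (le_sup_right : closure ((fun m => ⁅t, m⁆) '' (N : Set G)) ≤ J)
      (subset_closure ⟨m, hm, rfl⟩)
    have : (⟨⁅t, m⁆, hJN h1⟩ : ↥N) ∈ M := hJM (by
      rw [Subgroup.mem_subgroupOf]; exact h1)
    exact ⟨_, this, rfl⟩

/-- `rk N g` is the number of `N`-conjugates of `g`. -/
noncomputable abbrev rk (N : Subgroup G) (g : G) : ℕ := (centralizer ({g} : Set G)).relIndex N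

theorem rk_pos [Finite G] (N : Subgroup G) (g : G) : 0 < rk N g :=
  Nat.pos_of_ne_zero Subgroup.index_ne_zero_of_finite

/-- The triangular numbers. -/
def tri : ℕ → ℕ
  | 0 => 0
  | r + 1 => tri r + (r + 1)

theorem tri_eq (b : ℕ) : tri b = b * (b + 1) / 2 := by
  induction b with
  | zero => rfl
  | succ r ih =>
    have h : (r + 1) * (r + 1 + 1) = r * (r + 1) + 2 * (r + 1) := by ring
    rw [tri, ih, h, Nat.add_mul_div_left _ _ (by norm_num : 0 < 2)]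

/-- The hypothesis of the main induction. -/
structure Hyp (p : ℕ) (N P : Subgroup G) (t : G) (ρ : ℕ) : Prop where
  hPN : P ≤ N
  hN : ∀ m ∈ N, t * m * t⁻¹ ∈ N
  hP : ∀ m ∈ P, t * m * t⁻¹ ∈ P
  h1 : ∀ n ∈ N, rk N (t * n) ≤ p ^ ρ
  h2 : ∀ n ∈ N, n ∉ P → rk N (t * n) * p ≤ p ^ ρ

/-- The conclusion of the main induction. -/
def Concl (p : ℕ) (N P : Subgroup G) (t : G) (ρ : ℕ) : Prop :=
  ∀ e, P.relIndex N = p ^ e → Nat.card (II N t) * p ^ (min e ρ) ≤ p ^ tri ρ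

theorem relIndex_pow [Fact p.Prime] [Finite G] (hG : IsPGroup p G) (C H : Subgroup G) :
    ∃ k, C.relIndex H = p ^ k := by
  obtain ⟨n, hn⟩ := IsPGroup.iff_card.mp (hG.to_subgroup H)
  have h1 : C.relIndex H ∣ p ^ n := by rw [← hn]; exact Subgroup.relIndex_dvd_card C H
  obtain ⟨k, _, hk⟩ := (Nat.dvd_prime_pow (Fact.out : p.Prime)).mp h1
  exact ⟨k, hk⟩

theorem le_pow_of_mul_le {x r : ℕ} (hp : 0 < p) (h : x * p ≤ p ^ (r + 1)) : x ≤ p ^ r := by
  rw [pow_succ] at h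
  exact Nat.le_of_mul_le_mul_right h hp

theorem mul_le_of_not_le [Fact p.Prime] [Finite G] (hG : IsPGroup p G) {C H : Subgroup G} {ρ : ℕ}
    (h : ¬ p ^ ρ ≤ C.relIndex H) : C.relIndex H * p ≤ p ^ ρ := by
  obtain ⟨k, hk⟩ := relIndex_pow hG C H
  rw [hk] at h ⊢
  have hp : 1 < p := (Fact.out : p.Prime).one_lt
  have hlt : k < ρ := by
    by_contra hcon
    exact h (Nat.pow_le_pow_right hp.le (not_lt.mp hcon))
  rw [← pow_succ]
  exact Nat.pow_le_pow_right hp.le hlt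

theorem Ctx.exists_not_mem [Finite G] (hc : Ctx N H p) (hp : 1 < p) : ∃ y ∈ N, y ∉ H := by
  by_contra hcon
  push_neg at hcon
  have h1 : H.relIndex N = 1 := Subgroup.relIndex_eq_one.mpr hcon
  rw [hc.idx] at h1
  omega

theorem Ctx.exists_P [Fact p.Prime] [Finite G] (hc : Ctx N H p) {σ y' : G}
    (hσ : ∀ m ∈ N, ⁅σ, m⁆ ∈ H) (hy' : y' ∈ N) (hcomm : ⁅σ, y'⁆ = 1) {ρ : ℕ}
    (hbd : ∀ n ∈ H, rk N (σ * n) ≤ p ^ ρ) :
    ∃ P₁ : Subgroup G, Hyp p H P₁ σ ρ ∧ ∀ n ∈ H, n ∈ P₁ → ⁅n, y'⁆ ∈ II H σ := by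
  have hσH : ∀ m ∈ H, ⁅σ, m⁆ ∈ H := fun m hm => hσ m (hc.le hm)
  have hRH : II H σ ≤ H := II_le_self hσH
  have hA : ⁅H, H⁆ ≤ II H σ := comm_le_II H σ
  let P₁ : Subgroup G :=
    { carrier := {n | n ∈ H ∧ ⁅n, y'⁆ ∈ II H σ}
      mul_mem' := by
        rintro a b ⟨ha, ha'⟩ ⟨hb, hb'⟩
        refine ⟨H.mul_mem ha hb, ?_⟩
        rw [comm_mul_left]
        exact Subgroup.mul_mem _ (conj_mem_of_comm_le hA hRH ha hb') ha'
      one_mem' := ⟨H.one_mem, by simp [Subgroup.one_mem]⟩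
      inv_mem' := by
        rintro a ⟨ha, ha'⟩
        refine ⟨H.inv_mem ha, ?_⟩
        have h1 : ⁅a⁻¹, y'⁆ = a⁻¹ * ⁅a, y'⁆⁻¹ * a := by
          simp only [commutatorElement_def]; group
        rw [h1]
        exact inv_conj_mem_of_comm_le hA hRH ha (Subgroup.inv_mem _ ha') }
  refine ⟨P₁, ⟨fun x hx => hx.1, ?_, ?_, ?_, ?_⟩, fun n _ hn => hn.2⟩
  · intro m hm
    rw [conj_eq_comm_mul]
    exact H.mul_mem (hσH m hm) hm
  · rintro m ⟨hm, hm'⟩
    have hm1 : σ * m * σ⁻¹ ∈ H := by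
      rw [conj_eq_comm_mul]
      exact H.mul_mem (hσH m hm) hm
    refine ⟨hm1, ?_⟩
    have h2 : σ * y' * σ⁻¹ = y' := by
      rw [commutatorElement_eq_one_iff_mul_comm] at hcomm
      rw [hcomm]; group
    have h3 : ⁅σ * m * σ⁻¹, y'⁆ = σ * ⁅m, y'⁆ * σ⁻¹ := by
      conv_lhs => rw [← h2]
      simp only [commutatorElement_def]; group
    rw [h3, conj_eq_comm_mul]
    exact Subgroup.mul_mem _ (mem_II H σ (hRH hm')) hm'
  · intro n hn
    exact (relIndex_centralizer_le hc.le _).trans (hbd n hn)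
  · intro n hn hnP
    have hle : ∀ m ∈ N, ⁅σ * n, m⁆ = 1 → m ∈ H := by
      intro m hm hm1
      by_contra hmH
      have h4 := hc.key_a hσ hn hm hmH hm1 hy'
      rw [hcomm, mul_one] at h4
      exact hnP ⟨hn, h4⟩
    rw [← hc.relIndex_eq hle]
    exact hbd n hn

theorem Ctx.bound_comm [Fact p.Prime] [Finite G] (hc : Ctx N H p) {σ y' z : G}
    (hσ : ∀ m ∈ N, ⁅σ, m⁆ ∈ H) (hy' : y' ∈ N) (hy'H : y' ∉ H) (hcomm : ⁅σ, y'⁆ = 1)
    (hz : z ∈ N) (hzH : z ∉ H) {x : ℕ}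
    (hx : Nat.card (II H (σ * z)) ≤ x * Nat.card (⁅H, H⁆ : Subgroup G)) :
    Nat.card (II N σ) ≤ Nat.card (II H σ) * x := by
  have hσH : ∀ m ∈ H, ⁅σ, m⁆ ∈ H := fun m hm => hσ m (hc.le hm)
  have hσzH : ∀ m ∈ H, ⁅σ * z, m⁆ ∈ H := fun m hm => hc.good_mul hσ hz m (hc.le hm)
  have h1 : ⁅(1 : G), z⁆ * ⁅σ, z⁆ ∈ II H σ := hc.key_a (n := 1) hσ H.one_mem hy' hy'H
    (by simpa using hcomm) hz
  have h2 : ⁅σ, z⁆ ∈ II H σ := by simpa using h1
  have h3 : II N σ ≤ II H σ ⊔ II H (σ * z) := by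
    refine hc.II_le_of hz hzH (sup_le (II_le_self hσH) (II_le_self hσzH))
      ((comm_le_II H σ).trans le_sup_left) (fun n hn => hc.comm_mem_sup hσ hz hn) ?_ ?_
    · intro m hm
      exact (le_sup_left : II H σ ≤ _) (mem_II H σ hm)
    · exact (le_sup_left : II H σ ≤ _) h2
  have h4 := card_sup_le (comm_le_II H σ) (II_le_self hσH) (comm_le_II H (σ * z))
    (II_le_self hσzH) hx
  exact (Subgroup.card_le_of_le h3).trans h4

theorem card_II_le_of_rk [Finite G] {H : Subgroup G} {g : G} (hg : ∀ m ∈ H, ⁅g, m⁆ ∈ H) {x : ℕ}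
    (hx : rk H g ≤ x) : Nat.card (II H g) ≤ x * Nat.card (⁅H, H⁆ : Subgroup G) :=
  (card_II_le hg).trans (Nat.mul_le_mul_right _ hx)

section main

variable [hpp : Fact p.Prime] [Finite G]

/-- The case `P = N` of the inductive step. -/
theorem step_top (hG : IsPGroup p G) (hc : Ctx N H p) {t : G} (ht : ∀ m ∈ N, ⁅t, m⁆ ∈ H) {ρ : ℕ}
    (h1 : ∀ n ∈ N, rk N (t * n) ≤ p ^ ρ)
    (IH : ∀ (P : Subgroup G) (σ : G) (ρ' : ℕ), Hyp p H P σ ρ' → Concl p H P σ ρ') :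
    Nat.card (II N t) ≤ p ^ tri ρ := by
  have hp : 1 < p := hpp.out.one_lt
  by_cases hC : ∃ n ∈ N, p ^ ρ ≤ rk H (t * n)
  · obtain ⟨n₀, hn₀, hle⟩ := hC
    set σ := t * n₀ with hσdef
    have hσ : ∀ m ∈ N, ⁅σ, m⁆ ∈ H := hc.good_mul ht hn₀
    have hII : II N σ = II N t := II_mul_eq N t hn₀
    obtain ⟨y', hy', hy'H, hcomm⟩ := hc.exists_comm hp
      ((h1 n₀ hn₀).trans hle)
    obtain ⟨P₁, hyp₁, hmem⟩ := hc.exists_P hσ hy' hcomm (ρ := ρ) (fun n hn => by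
      have : σ * n = t * (n₀ * n) := by rw [hσdef]; group
      rw [this]
      exact h1 _ (N.mul_mem hn₀ (hc.le hn)))
    obtain ⟨e', he'⟩ := relIndex_pow hG P₁ H
    have h2 := IH P₁ σ ρ hyp₁ e' he'
    have h3 := hc.card_II_le_P hσ hy' hy'H hcomm P₁ hmem
    rw [he'] at h3
    have h4 : Nat.card (II N σ) ≤ Nat.card (II H σ) * p ^ ρ := by
      refine hc.bound_comm hσ hy' hy'H hcomm hy' hy'H ?_
      refine card_II_le_of_rk (fun m hm => hc.good_mul hσ hy' m (hc.le hm)) ?_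
      have : σ * y' = t * (n₀ * y') := by rw [hσdef]; group
      rw [this]
      exact (relIndex_centralizer_le hc.le _).trans (h1 _ (N.mul_mem hn₀ hy'))
    rw [← hII]
    refine le_trans ?_ h2
    rcases le_total e' ρ with h | h
    · rw [min_eq_left h, mul_comm]; exact h3
    · rw [min_eq_right h]; exact h4
  · push_neg at hC
    have hρ : ρ ≠ 0 := by
      rintro rfl
      have := hC 1 N.one_mem
      have h0 := rk_pos H (t * 1)
      simp only [pow_zero] at this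
      omega
    obtain ⟨r, rfl⟩ := Nat.exists_eq_succ_of_ne_zero hρ
    have hrk : ∀ n ∈ N, rk H (t * n) ≤ p ^ r := fun n hn =>
      le_pow_of_mul_le (by omega) (mul_le_of_not_le hG (not_le.mpr (hC n hn)))
    have htH : ∀ m ∈ H, ⁅t, m⁆ ∈ H := fun m hm => ht m (hc.le hm)
    have hyp : Hyp p H H t r := by
      refine ⟨le_rfl, ?_, ?_, ?_, fun n hn hn' => absurd hn hn'⟩
      · intro m hm; rw [conj_eq_comm_mul]; exact H.mul_mem (htH m hm) hm
      · intro m hm; rw [conj_eq_comm_mul]; exact H.mul_mem (htH m hm) hm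
      · intro n hn; exact hrk n (hc.le hn)
    have h2 := IH H t r hyp 0 (by simp)
    simp only [Nat.zero_le, min_eq_left, pow_zero, mul_one] at h2
    obtain ⟨y, hy, hyH⟩ := hc.exists_not_mem hp
    have h3 := hc.card_II_le_p ht hy hyH
    have h4 := card_sup_le (comm_le_II H t) (II_le_self htH) (comm_le_II H (t * y))
      (II_le_self (fun m hm => hc.good_mul ht hy m (hc.le hm)))
      (card_II_le_of_rk (fun m hm => hc.good_mul ht hy m (hc.le hm)) (hrk y hy))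
    calc Nat.card (II N t) ≤ p * (Nat.card (II H t) * p ^ r) :=
          h3.trans (Nat.mul_le_mul_left _ h4)
      _ ≤ p * (p ^ tri r * p ^ r) := Nat.mul_le_mul_left _ (Nat.mul_le_mul_right _ h2)
      _ = p ^ tri (r + 1) := by
        simp only [tri]; ring

/-- The case `P ≠ N` of the inductive step. -/
theorem step_sub (hG : IsPGroup p G) (hc : Ctx N H p) {t : G} (ht : ∀ m ∈ N, ⁅t, m⁆ ∈ H) {r δ : ℕ}
    (hbd : ∀ m ∈ N, m ∉ H → rk N (t * m) ≤ p ^ r)
    (hIc : Nat.card (II H t) ≤ p ^ (r + δ) * Nat.card (⁅H, H⁆ : Subgroup G))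
    (hcp : (∀ n ∈ H, ∀ m ∈ N, ⁅t * n, m⁆ = 1 → m ∈ H) →
      Nat.card (II H t) * p ≤ p ^ (r + δ) * Nat.card (⁅H, H⁆ : Subgroup G))
    (IH : ∀ (P : Subgroup G) (σ : G) (ρ' : ℕ), Hyp p H P σ ρ' → Concl p H P σ ρ') :
    Nat.card (II N t) ≤ p ^ (tri r + δ) ∧ (r = 0 → Nat.card (II N t) ≤ p ^ tri r) := by
  have hp : 1 < p := hpp.out.one_lt
  have hp0 : 0 < p := by omega
  by_cases hC : ∃ m ∈ N, m ∉ H ∧ p ^ r ≤ rk H (t * m)
  · obtain ⟨m₀, hm₀, hm₀H, hle⟩ := hC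
    set σ := t * m₀ with hσdef
    have hσ : ∀ m ∈ N, ⁅σ, m⁆ ∈ H := hc.good_mul ht hm₀
    have hII : II N σ = II N t := II_mul_eq N t hm₀
    obtain ⟨y', hy', hy'H, hcomm⟩ := hc.exists_comm hp ((hbd m₀ hm₀ hm₀H).trans hle)
    obtain ⟨P₁, hyp₁, hmem⟩ := hc.exists_P hσ hy' hcomm (ρ := r) (fun n hn => by
      have : σ * n = t * (m₀ * n) := by rw [hσdef]; group
      rw [this]
      refine hbd _ (N.mul_mem hm₀ (hc.le hn)) ?_
      intro h
      exact hm₀H (by simpa using H.mul_mem h (H.inv_mem hn)))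
    obtain ⟨e', he'⟩ := relIndex_pow hG P₁ H
    have h2 := IH P₁ σ r hyp₁ e' he'
    have h3 := hc.card_II_le_P hσ hy' hy'H hcomm P₁ hmem
    rw [he'] at h3
    have hz : m₀⁻¹ ∈ N := N.inv_mem hm₀
    have hzH : m₀⁻¹ ∉ H := fun h => hm₀H (by simpa using H.inv_mem h)
    have hσz : σ * m₀⁻¹ = t := by rw [hσdef]; group
    have h4 : Nat.card (II N σ) ≤ Nat.card (II H σ) * p ^ (r + δ) := by
      refine hc.bound_comm hσ hy' hy'H hcomm hz hzH ?_
      rw [hσz]; exact hIc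
    rw [← hII]
    have h5 : p ^ (min e' r) * 1 ≤ p ^ (min e' r) := by simp
    constructor
    · calc Nat.card (II N σ) ≤ Nat.card (II H σ) * p ^ (min e' r + δ) := by
            rcases le_total e' (r + δ) with h | h
            · refine (h3.trans_eq (mul_comm _ _)).trans (Nat.mul_le_mul_left _ ?_)
              refine Nat.pow_le_pow_right hp0 ?_
              omega
            · refine h4.trans (Nat.mul_le_mul_left _ ?_)
              refine Nat.pow_le_pow_right hp0 ?_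
              omega
        _ = (Nat.card (II H σ) * p ^ (min e' r)) * p ^ δ := by rw [pow_add]; ring
        _ ≤ p ^ tri r * p ^ δ := Nat.mul_le_mul_right _ h2
        _ = p ^ (tri r + δ) := by rw [pow_add]
    · intro hr0
      subst hr0
      have he0 : e' = 0 := by
        by_contra hne
        have hP₁ : P₁ ≠ H := by
          rintro rfl
          rw [Subgroup.relIndex_self] at he'
          have : p ^ e' ≠ 1 := by
            apply ne_of_gt
            exact Nat.one_lt_pow hne hp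
          exact this he'.symm
        have hnot : ¬ H ≤ P₁ := fun h => hP₁ (le_antisymm hyp₁.hPN h)
        obtain ⟨n, hn, hnP⟩ := SetLike.not_le_iff_exists.mp hnot
        have h6 := hyp₁.h2 n hn hnP
        have h7 := rk_pos H (σ * n)
        simp only [pow_zero] at h6
        nlinarith
      subst he0
      simp only [pow_zero, one_mul] at h3
      simp only [Nat.zero_le, min_eq_left, pow_zero, mul_one] at h2
      exact h3.trans h2
  · push_neg at hC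
    obtain ⟨y, hy, hyH⟩ := hc.exists_not_mem hp
    have hr : r ≠ 0 := by
      rintro rfl
      have := hC y hy hyH
      have h0 := rk_pos H (t * y)
      simp only [pow_zero] at this
      omega
    obtain ⟨r', rfl⟩ := Nat.exists_eq_succ_of_ne_zero hr
    refine ⟨?_, fun h => absurd h hr⟩
    have hrk : ∀ m ∈ N, m ∉ H → rk H (t * m) ≤ p ^ r' := fun m hm hmH =>
      le_pow_of_mul_le hp0 (mul_le_of_not_le hG (not_le.mpr (hC m hm hmH)))
    have htH : ∀ m ∈ H, ⁅t, m⁆ ∈ H := fun m hm => ht m (hc.le hm)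
    have htyH : ∀ m ∈ H, ⁅t * y, m⁆ ∈ H := fun m hm => hc.good_mul ht hy m (hc.le hm)
    have hyp : Hyp p H H (t * y) r' := by
      refine ⟨le_rfl, ?_, ?_, ?_, fun n hn hn' => absurd hn hn'⟩
      · intro m hm; rw [conj_eq_comm_mul]; exact H.mul_mem (htyH m hm) hm
      · intro m hm; rw [conj_eq_comm_mul]; exact H.mul_mem (htyH m hm) hm
      · intro n hn
        have h1 : t * y * n = t * (y * n) := by group
        rw [h1]
        refine hrk _ (N.mul_mem hy (hc.le hn)) ?_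
        intro h
        exact hyH (by simpa using H.mul_mem h (H.inv_mem hn))
    have h2 := IH H (t * y) r' hyp 0 (by simp)
    simp only [Nat.zero_le, min_eq_left, pow_zero, mul_one] at h2
    set R₀ := II H t ⊔ II H (t * y) with hR₀
    have hAc : 0 < Nat.card (⁅H, H⁆ : Subgroup G) := Nat.card_pos
    have hfinal : Nat.card (II N t) ≤ p ^ tri r' * p ^ (r' + 1 + δ) := by
      by_cases hsub : ∃ n ∈ H, ∃ m ∈ N, m ∉ H ∧ ⁅t * n, m⁆ = 1
      · obtain ⟨n, hn, m, hm, hmH, hcm⟩ := hsub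
        have h3 := hc.key_a ht hn hm hmH hcm hy
        have h4 : ⁅n, y⁆ ∈ R₀ := hc.comm_mem_sup ht hy hn
        have h5 : ⁅t, y⁆ ∈ R₀ := by
          have h6 : ⁅n, y⁆ * ⁅t, y⁆ ∈ R₀ := (le_sup_left : II H t ≤ R₀) h3
          have h7 : ⁅t, y⁆ = ⁅n, y⁆⁻¹ * (⁅n, y⁆ * ⁅t, y⁆) := by group
          rw [h7]
          exact R₀.mul_mem (R₀.inv_mem h4) h6
        have h8 : II N t ≤ R₀ := by
          refine hc.II_le_of hy hyH (sup_le (II_le_self htH) (II_le_self htyH))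
            ((comm_le_II H t).trans le_sup_left) (fun n hn => hc.comm_mem_sup ht hy hn) ?_ h5
          intro m hm
          exact (le_sup_left : II H t ≤ R₀) (mem_II H t hm)
        have h9 := card_sup_le (comm_le_II H (t * y)) (II_le_self htyH) (comm_le_II H t)
          (II_le_self htH) hIc
        rw [sup_comm] at h9
        calc Nat.card (II N t) ≤ Nat.card R₀ := Subgroup.card_le_of_le h8
          _ ≤ Nat.card (II H (t * y)) * p ^ (r' + 1 + δ) := h9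
          _ ≤ p ^ tri r' * p ^ (r' + 1 + δ) := Nat.mul_le_mul_right _ h2
      · push_neg at hsub
        have h3 := hcp (fun n hn m hm hcm => by
          by_contra hmH
          exact hsub n hn m hm hmH hcm)
        have h4 : Nat.card (II H t) ≤ p ^ (r' + δ) * Nat.card (⁅H, H⁆ : Subgroup G) := by
          have h5 : p ^ (r' + 1 + δ) = p ^ (r' + δ) * p := by
            rw [show r' + 1 + δ = (r' + δ) + 1 by ring, pow_succ]
          rw [h5] at h3
          have h6 : Nat.card (II H t) * p ≤ (p ^ (r' + δ) * Nat.card (⁅H, H⁆ : Subgroup G)) * p := by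
            calc Nat.card (II H t) * p ≤ p ^ (r' + δ) * p * Nat.card (⁅H, H⁆ : Subgroup G) := h3
              _ = _ := by ring
          exact Nat.le_of_mul_le_mul_right h6 hp0
        have h9 := card_sup_le (comm_le_II H (t * y)) (II_le_self htyH) (comm_le_II H t)
          (II_le_self htH) h4
        rw [sup_comm] at h9
        have h10 := hc.card_II_le_p ht hy hyH
        calc Nat.card (II N t) ≤ p * Nat.card R₀ := h10
          _ ≤ p * (Nat.card (II H (t * y)) * p ^ (r' + δ)) := Nat.mul_le_mul_left _ h9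
          _ ≤ p * (p ^ tri r' * p ^ (r' + δ)) :=
            Nat.mul_le_mul_left _ (Nat.mul_le_mul_right _ h2)
          _ = p ^ tri r' * p ^ (r' + 1 + δ) := by
            rw [show r' + 1 + δ = (r' + δ) + 1 by ring, pow_succ]; ring
    refine hfinal.trans_eq ?_
    rw [← pow_add]
    congr 1
    simp only [tri]
    omega

/-- The main induction. -/
theorem main_ind (hG : IsPGroup p G) :
    ∀ (s : ℕ) (N : Subgroup G), Nat.card N ≤ s → ∀ (P : Subgroup G) (t : G) (ρ : ℕ),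
      Hyp p N P t ρ → Concl p N P t ρ := by
  have hp : 1 < p := hpp.out.one_lt
  have hp0 : 0 < p := by omega
  intro s
  induction s with
  | zero =>
    intro N hN
    have : 0 < Nat.card N := Nat.card_pos
    omega
  | succ s ih =>
    intro N hN P t ρ hyp e he
    -- induction hypothesis for a subgroup of index `p`
    have IHof : ∀ H : Subgroup G, Ctx N H p → ∀ (P : Subgroup G) (σ : G) (ρ' : ℕ),
        Hyp p H P σ ρ' → Concl p H P σ ρ' := by
      intro H hc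
      refine ih H ?_
      have h1 := relIndex_mul_card' hc.le
      rw [hc.idx] at h1
      have h2 : 0 < Nat.card H := Nat.card_pos
      have h3 : Nat.card H < Nat.card N := by rw [← h1]; nlinarith
      omega
    by_cases hPN : P = N
    · subst hPN
      rw [Subgroup.relIndex_self] at he
      have he0 : e = 0 := by
        by_contra hne
        have : p ^ e ≠ 1 := by
          apply ne_of_gt
          exact Nat.one_lt_pow hne hp
        exact this he.symm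
      subst he0
      simp only [Nat.zero_le, min_eq_left, pow_zero, mul_one]
      by_cases hbot : P = ⊥
      · subst hbot
        have h1 : II (⊥ : Subgroup G) t ≤ ⊥ := by
          refine II_le (commutator_self_le _) ?_
          intro m hm
          rw [Subgroup.mem_bot] at hm
          subst hm
          simp
        have h2 : II (⊥ : Subgroup G) t = ⊥ := le_antisymm h1 bot_le
        rw [h2]
        simp only [Subgroup.card_bot]
        exact Nat.one_le_pow _ _ hp0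
      · obtain ⟨H, _, hc, ht⟩ := exists_Ctx (N := P) (P := ⊥) (t := t) hG hyp.hN bot_le
          (by
            intro m hm
            rw [Subgroup.mem_bot] at hm ⊢
            subst hm
            simp) (Ne.symm hbot)
        exact step_top hG hc ht hyp.h1 (IHof H hc)
    · obtain ⟨H, hPH, hc, ht⟩ := exists_Ctx hG hyp.hN hyp.hPN hyp.hP hPN
      have hρ : ρ ≠ 0 := by
        rintro rfl
        have hnot : ¬ N ≤ P := fun h => hPN (le_antisymm hyp.hPN h)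
        obtain ⟨n, hn, hnP⟩ := SetLike.not_le_iff_exists.mp hnot
        have h6 := hyp.h2 n hn hnP
        have h7 := rk_pos N (t * n)
        simp only [pow_zero] at h6
        nlinarith
      obtain ⟨r, rfl⟩ := Nat.exists_eq_succ_of_ne_zero hρ
      have hbd : ∀ m ∈ N, m ∉ H → rk N (t * m) ≤ p ^ r := by
        intro m hm hmH
        exact le_pow_of_mul_le hp0 (hyp.h2 m hm (fun h => hmH (hPH h)))
      have hgood : ∀ n ∈ H, ∀ m ∈ H, ⁅t * n, m⁆ ∈ H := fun n hn m hm =>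
        hc.good_mul ht (hc.le hn) m (hc.le hm)
      by_cases hPH' : P = H
      · subst hPH'
        -- `e = 1`
        rw [hc.idx] at he
        have he1 : e = 1 := by
          have h1 : p ^ 1 = p ^ e := by simpa using he
          exact (Nat.pow_right_injective hp h1).symm
        subst he1
        have hIc : Nat.card (II P t) ≤ p ^ (r + 1) * Nat.card (⁅P, P⁆ : Subgroup G) := by
          have h1 : rk P (t * 1) ≤ p ^ (r + 1) :=
            (relIndex_centralizer_le hc.le _).trans (hyp.h1 1 N.one_mem)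
          have := card_II_le_of_rk (hgood 1 P.one_mem) h1
          simpa using this
        have hcp : (∀ n ∈ P, ∀ m ∈ N, ⁅t * n, m⁆ = 1 → m ∈ P) →
            Nat.card (II P t) * p ≤ p ^ (r + 1) * Nat.card (⁅P, P⁆ : Subgroup G) := by
          intro hle
          have h1 := hc.relIndex_eq (hle 1 P.one_mem)
          have h2 : rk N (t * 1) ≤ p ^ (r + 1) := hyp.h1 1 N.one_mem
          have h3 := card_II_le (hgood 1 P.one_mem)
          have h4 : (centralizer ({t * 1} : Set G)).relIndex P * p ≤ p ^ (r + 1) := by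
            rw [← h1]; exact h2
          have h5 : II P (t * 1) = II P t := by rw [mul_one]
          rw [h5] at h3
          calc Nat.card (II P t) * p
              ≤ ((centralizer ({t * 1} : Set G)).relIndex P * Nat.card (⁅P, P⁆ : Subgroup G)) * p :=
                Nat.mul_le_mul_right _ h3
            _ = ((centralizer ({t * 1} : Set G)).relIndex P * p) * Nat.card (⁅P, P⁆ : Subgroup G) := by
                ring
            _ ≤ _ := Nat.mul_le_mul_right _ h4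
        obtain ⟨h1, h2⟩ := step_sub (δ := 1) hG hc ht hbd hIc hcp (IHof P hc)
        have hmin : min 1 (r + 1) = 1 := by omega
        rw [hmin, pow_one]
        by_cases hr : r = 0
        · subst hr
          have h3 := h2 rfl
          calc Nat.card (II N t) * p ≤ p ^ tri 0 * p := Nat.mul_le_mul_right _ h3
            _ = p ^ tri (0 + 1) := by simp [tri]
        · calc Nat.card (II N t) * p ≤ p ^ (tri r + 1) * p := Nat.mul_le_mul_right _ h1
            _ = p ^ (tri r + 1 + 1) := (pow_succ p (tri r + 1)).symm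
            _ ≤ p ^ tri (r + 1) := by
              refine Nat.pow_le_pow_right hp0 ?_
              simp only [tri]
              omega
      · have hnot : ¬ H ≤ P := fun h => hPH' (le_antisymm hPH h)
        obtain ⟨a, ha, haP⟩ := SetLike.not_le_iff_exists.mp hnot
        have hII : II H (t * a) = II H t := II_mul_eq H t ha
        have h0 : rk N (t * a) ≤ p ^ r := le_pow_of_mul_le hp0 (hyp.h2 a (hc.le ha) haP)
        have hIc : Nat.card (II H t) ≤ p ^ (r + 0) * Nat.card (⁅H, H⁆ : Subgroup G) := by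
          rw [← hII]
          exact card_II_le_of_rk (hgood a ha) ((relIndex_centralizer_le hc.le _).trans h0)
        have hcp : (∀ n ∈ H, ∀ m ∈ N, ⁅t * n, m⁆ = 1 → m ∈ H) →
            Nat.card (II H t) * p ≤ p ^ (r + 0) * Nat.card (⁅H, H⁆ : Subgroup G) := by
          intro hle
          have h1 := hc.relIndex_eq (hle a ha)
          have h0' : (centralizer ({t * a} : Set G)).relIndex H * p ≤ p ^ (r + 0) := by
            rw [← h1]; exact h0
          have h3 := card_II_le (hgood a ha)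
          rw [hII] at h3
          calc Nat.card (II H t) * p
              ≤ ((centralizer ({t * a} : Set G)).relIndex H * Nat.card (⁅H, H⁆ : Subgroup G)) * p :=
                Nat.mul_le_mul_right _ h3
            _ = ((centralizer ({t * a} : Set G)).relIndex H * p) * Nat.card (⁅H, H⁆ : Subgroup G) := by
                ring
            _ ≤ _ := Nat.mul_le_mul_right _ h0'
        obtain ⟨h1, _⟩ := step_sub (δ := 0) hG hc ht hbd hIc hcp (IHof H hc)
        calc Nat.card (II N t) * p ^ min e (r + 1) ≤ p ^ tri r * p ^ (r + 1) := by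
              refine Nat.mul_le_mul h1 ?_
              exact Nat.pow_le_pow_right hp0 (min_le_right _ _)
          _ = p ^ tri (r + 1) := by
            rw [← pow_add]; rfl

end main

/-- Vaughan-Lee's theorem. -/
theorem card_commutator_le [Fact p.Prime] [Finite G] (hG : IsPGroup p G) (b : ℕ)
    (hb : ∀ x : G, (centralizer ({x} : Set G)).index ≤ p ^ b) :
    Nat.card (commutator G) ≤ p ^ (b * (b + 1) / 2) := by
  have hyp : Hyp p (⊤ : Subgroup G) ⊤ 1 b := by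
    refine ⟨le_rfl, fun _ _ => Subgroup.mem_top _, fun _ _ => Subgroup.mem_top _, ?_, ?_⟩
    · intro n _
      show (centralizer ({1 * n} : Set G)).relIndex ⊤ ≤ p ^ b
      rw [Subgroup.relIndex_top_right]
      exact hb _
    · intro n hn hn'
      exact absurd hn hn'
  have h1 := main_ind hG (Nat.card (⊤ : Subgroup G)) ⊤ le_rfl ⊤ 1 b hyp 0 (by simp)
  simp only [Nat.zero_le, min_eq_left, pow_zero, mul_one] at h1
  rw [← tri_eq]
  refine le_trans (Subgroup.card_le_of_le ?_) h1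
  exact comm_le_II ⊤ 1

end Cfsg.Agent.Lib.PGroup.Breadth
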