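import Mathlib
import Cfsg.Agent.Lib.PGroup.CWGroup
import Cfsg.Agent.Lib.Char.Burnside

/-!
# Isometries of an anisotropic quadratic map into a group of order four

`q : V → W`, `V` of exponent two, `W` of exponent two and order four, `q v = 1` only for `v = 1`,
the defect of `q` biadditive. The group of automorphisms of `V` preserving `q` is solvable.
-/

set_option autoImplicit false

namespace Cfsg.Agent.Lib.PGroup.ThreeInv

open Subgroup

/-- The fixed point congruence on an invariant finite set. -/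
theorem card_filter_modEq {α : Type*} [DecidableEq α] (f : α → α) {r : ℕ} [hr : Fact r.Prime]
    (hf : ∀ x, f^[r] x = x) (s : Finset α) (hs : ∀ x ∈ s, f x ∈ s) :
    s.card ≡ (s.filter (fun x => f x = x)).card [MOD r] := by
  classical
  let g : Function.End s := fun x => ⟨f x.1, hs x.1 x.2⟩
  have hg : ∀ (n : ℕ) (x : s), ((g ^ n) x : α) = f^[n] x.1 := by
    intro n
    induction n with
    | zero => intro x; rfl
    | succ n ih =>
      intro x
      rw [pow_succ', Function.iterate_succ_apply']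
      show f (((g ^ n) x : s) : α) = _
      rw [ih]
  have hg1 : g ^ r ^ 1 = 1 := by
    rw [pow_one]
    funext x
    apply Subtype.ext
    rw [hg, hf]
    rfl
  have h := Equiv.Perm.card_fixedPoints_modEq (f := g) (p := r) (n := 1) hg1
  rw [Fintype.card_coe] at h
  have h2 : Fintype.card (Function.fixedPoints g) = (s.filter (fun x => f x = x)).card := by
    rw [← Fintype.card_coe]
    refine Fintype.card_congr
      { toFun := fun x => ⟨x.1.1, Finset.mem_filter.2 ⟨x.1.2, congrArg Subtype.val x.2⟩⟩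
        invFun := fun x => ⟨⟨x.1, (Finset.mem_filter.1 x.2).1⟩,
          Subtype.ext (Finset.mem_filter.1 x.2).2⟩
        left_inv := fun x => rfl
        right_inv := fun x => rfl }
  rw [h2] at h
  exact h

/-- A number whose only prime factors are `p, q`. -/
theorem eq_pow_mul_pow_of_primes {n p q : ℕ} (hn : n ≠ 0) (hp : p.Prime) (hq : q.Prime)
    (h : ∀ r : ℕ, r.Prime → r ∣ n → r = p ∨ r = q) : ∃ a b, n = p ^ a * q ^ b := by
  obtain ⟨a, m, hpm, rfl⟩ := Nat.exists_eq_pow_mul_and_not_dvd hn p hp.ne_one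
  have hm : m ≠ 0 := by
    rintro rfl
    simp at hn
  obtain ⟨b, m', hqm, rfl⟩ := Nat.exists_eq_pow_mul_and_not_dvd hm q hq.ne_one
  have : m' = 1 := by
    by_contra hne
    obtain ⟨r, hr, hrd⟩ := Nat.exists_prime_and_dvd hne
    rcases h r hr (Dvd.dvd.mul_left (Dvd.dvd.mul_left hrd _) _) with rfl | rfl
    · exact hpm (Dvd.dvd.mul_left hrd _)
    · exact hqm hrd
  subst this
  exact ⟨a, b, by ring⟩

section
variable {W : Type*} [CommGroup W] [Finite W]

/-- Two elements outside `{1, w₃}` have product inside `{1, w₃}`, if `|W| = 4`. -/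
theorem out_mul (hW : ∀ w : W, w ^ 2 = 1) (hcard : Nat.card W = 4) {w₃ a b : W} (h3 : w₃ ≠ 1)
    (ha1 : a ≠ 1) (ha3 : a ≠ w₃) :
    b ≠ 1 → b ≠ w₃ → a * b = 1 ∨ a * b = w₃ := by
  classical
  intro hb1 hb3
  haveI := Fintype.ofFinite W
  have hc : ({1, w₃, a, a * w₃} : Finset W).card = 4 := by
    rw [Finset.card_insert_of_notMem, Finset.card_insert_of_notMem, Finset.card_insert_of_notMem,
      Finset.card_singleton]
    · simp only [Finset.mem_singleton]
      intro e
      exact h3 (by simpa using e)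
    · simp only [Finset.mem_insert, Finset.mem_singleton, not_or]
      refine ⟨ha3.symm, ?_⟩
      intro e
      exact ha1 (by simpa using e.symm)
    · simp only [Finset.mem_insert, Finset.mem_singleton, not_or]
      refine ⟨h3.symm, ha1.symm, ?_⟩
      intro e
      have : a = w₃⁻¹ := eq_inv_of_mul_eq_one_left e.symm
      have hw : w₃⁻¹ = w₃ := inv_eq_of_mul_eq_one_left (by rw [← pow_two]; exact hW w₃)
      exact ha3 (this.trans hw)
  have hu : ({1, w₃, a, a * w₃} : Finset W) = Finset.univ :=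
    Finset.eq_univ_of_card _ (by rw [hc, ← Nat.card_eq_fintype_card, hcard])
  have hb : b ∈ ({1, w₃, a, a * w₃} : Finset W) := by rw [hu]; exact Finset.mem_univ b
  simp only [Finset.mem_insert, Finset.mem_singleton] at hb
  rcases hb with rfl | rfl | rfl | rfl
  · exact absurd rfl hb1
  · exact absurd rfl hb3
  · left; rw [← pow_two]; exact hW _
  · right
    rw [← mul_assoc, ← pow_two, hW, one_mul]

theorem out_mul_three (hW : ∀ w : W, w ^ 2 = 1) (hcard : Nat.card W = 4) {w₃ a b c : W} (h3 : w₃ ≠ 1)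
    (ha1 : a ≠ 1) (ha3 : a ≠ w₃) (hb1 : b ≠ 1) (hb3 : b ≠ w₃) (hc1 : c ≠ 1) (hc3 : c ≠ w₃) :
    a * b * c ≠ 1 ∧ a * b * c ≠ w₃ := by
  have hw : w₃⁻¹ = w₃ := inv_eq_of_mul_eq_one_left (by rw [← pow_two]; exact hW w₃)
  rcases out_mul hW hcard h3 ha1 ha3 hb1 hb3 with e | e
  · rw [e, one_mul]; exact ⟨hc1, hc3⟩
  · rw [e]
    refine ⟨fun e' => hc3 ?_, fun e' => hc1 (by simpa using e')⟩
    have := eq_inv_of_mul_eq_one_right e'
    rw [this, hw]

end

/-- An anisotropic quadratic map between exponent two groups, `|W| = 4`. -/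
structure QData {V W : Type*} [CommGroup V] [CommGroup W] (q : V → W) (b : V → V → W) : Prop where
  hV : ∀ v : V, v ^ 2 = 1
  hW : ∀ w : W, w ^ 2 = 1
  hb1 : ∀ u v w, b (u * v) w = b u w * b v w
  hb2 : ∀ u v w, b u (v * w) = b u v * b u w
  hq : ∀ u v, q (u * v) = q u * q v * b u v
  hZ : ∀ v, q v = 1 → v = 1
  hcard : Nat.card W = 4

/-- The group of automorphisms preserving `q`. -/
def isomGroup {V W : Type*} [Group V] (q : V → W) : Subgroup (MulAut V) where
  carrier := {h | ∀ v, q (h v) = q v}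
  one_mem' := fun v => rfl
  mul_mem' := by
    intro a c ha hc v
    show q (a (c v)) = q v
    rw [ha, hc]
  inv_mem' := by
    intro a ha v
    have := ha (a⁻¹ v)
    rw [MulAut.apply_inv_self] at this
    exact this.symm

theorem mem_isomGroup {V W : Type*} [Group V] (q : V → W) (h : MulAut V) :
    h ∈ isomGroup q ↔ ∀ v, q (h v) = q v := Iff.rfl

section
variable {V W : Type*} [CommGroup V] [CommGroup W] [Finite V] [Finite W]
variable {q : V → W} {b : V → V → W}

theorem QData.b_one_right (hd : QData q b) (u : V) : b u 1 = 1 := by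
  have := hd.hb2 u 1 1
  rw [mul_one] at this
  exact (left_eq_mul.mp this)

theorem QData.q_one (hd : QData q b) : q 1 = 1 := by
  have := hd.hq 1 1
  rw [mul_one, hd.b_one_right, mul_one] at this
  exact (left_eq_mul.mp this)

theorem QData.q_ne (hd : QData q b) {v : V} (hv : v ≠ 1) : q v ≠ 1 := fun e => hv (hd.hZ v e)

theorem QData.inv_eq (hd : QData q b) (v : V) : v⁻¹ = v :=
  inv_eq_of_mul_eq_one_left (by rw [← pow_two]; exact hd.hV v)

theorem QData.b_eq (hd : QData q b) (u v : V) : b u v = q (u * v) * q u * q v := by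
  rw [hd.hq u v]
  have h1 := hd.hW (q u)
  have h2 := hd.hW (q v)
  calc b u v = (q u) ^ 2 * (q v) ^ 2 * b u v := by rw [h1, h2]; simp
    _ = _ := by rw [pow_two, pow_two]; ac_rfl

theorem exists_mem_not_mem_finset {V : Type*} [Group V] [Finite V] (A : Subgroup V) (hA : 4 < Nat.card A)
    (s : Finset V) (hs : s.card ≤ 4) : ∃ t ∈ A, t ∉ s := by
  by_contra hcon
  push Not at hcon
  have h1 : (A : Set V) ⊆ (s : Set V) := fun t ht => hcon t ht
  have h2 : Nat.card A ≤ s.card := by
    have := Set.ncard_le_ncard h1 (Finset.finite_toSet s)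
    rw [Set.ncard_coe_finset] at this
    exact this
  omega

/-- `q` takes every nontrivial value on a subgroup of order more than four. -/
theorem QData.no_miss (hd : QData q b) (A : Subgroup V) (hA : 4 < Nat.card A) {w₃ : W}
    (h3 : w₃ ≠ 1) (hne : ∀ y ∈ A, y ≠ 1 → q y ≠ w₃) : False := by
  classical
  obtain ⟨x, hxA, hx⟩ := exists_mem_not_mem_finset A hA {1} (by simp)
  obtain ⟨y, hyA, hy⟩ := exists_mem_not_mem_finset A hA {1, x} (Finset.card_le_two.trans (by norm_num))
  obtain ⟨t, htA, ht⟩ := exists_mem_not_mem_finset A hA {1, x, y, x * y} Finset.card_le_four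
  simp only [Finset.mem_insert, Finset.mem_singleton, not_or] at hx hy ht
  have hne1 : ∀ {a : V} {c : V}, a ≠ c → a * c ≠ 1 := by
    intro a c hac e
    apply hac
    have := eq_inv_of_mul_eq_one_left e
    rwa [hd.inv_eq] at this
  have hout : ∀ a ∈ A, a ≠ 1 → q a ≠ 1 ∧ q a ≠ w₃ := fun a ha ha1 => ⟨hd.q_ne ha1, hne a ha ha1⟩
  have hxy := hout (x * y) (A.mul_mem hxA hyA) (hne1 (Ne.symm hy.2))
  have hxt := hout (x * t) (A.mul_mem hxA htA) (hne1 (Ne.symm ht.2.1))
  have hyt := hout (y * t) (A.mul_mem hyA htA) (hne1 (Ne.symm ht.2.2.1))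
  have hxyt := hout (x * (y * t)) (A.mul_mem hxA (A.mul_mem hyA htA)) (by
    rw [← mul_assoc]
    exact hne1 (Ne.symm ht.2.2.2))
  have hx' := hout x hxA hx
  have hy' := hout y hyA hy.1
  have ht' := hout t htA ht.1
  have b1 : b x y ≠ 1 ∧ b x y ≠ w₃ := by
    rw [hd.b_eq]
    exact out_mul_three hd.hW hd.hcard h3 hxy.1 hxy.2 hx'.1 hx'.2 hy'.1 hy'.2
  have b2 : b x t ≠ 1 ∧ b x t ≠ w₃ := by
    rw [hd.b_eq]
    exact out_mul_three hd.hW hd.hcard h3 hxt.1 hxt.2 hx'.1 hx'.2 ht'.1 ht'.2
  have b3 : b x (y * t) ≠ 1 ∧ b x (y * t) ≠ w₃ := by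
    rw [hd.b_eq]
    exact out_mul_three hd.hW hd.hcard h3 hxyt.1 hxyt.2 hx'.1 hx'.2 hyt.1 hyt.2
  rw [hd.hb2] at b3
  rcases out_mul hd.hW hd.hcard h3 b1.1 b1.2 b2.1 b2.2 with e | e
  · exact b3.1 e
  · exact b3.2 e

theorem QData.card_le (hd : QData q b) : Nat.card V ≤ 16 := by
  have h := Cfsg.Agent.Lib.PGroup.CW.card_le_mul hd.hV hd.hW hd.hb1 hd.hb2 hd.hq (by
    intro u v hu hv
    rw [hd.hZ u hu, hd.hZ v hv, mul_one, hd.q_one])
  rw [hd.hcard] at h
  have h1 : Nat.card {v : V // q v = 1} = 1 := by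
    rw [Nat.card_eq_one_iff_unique]
    refine ⟨⟨fun a c => Subtype.ext ((hd.hZ _ a.2).trans (hd.hZ _ c.2).symm)⟩, ⟨⟨1, hd.q_one⟩⟩⟩
  rw [h1] at h
  omega

/-- Arithmetic of the possible primes. -/
theorem prime_cases_arith {n j r : ℕ} (hn : n ≤ 4) (hj : j < n) (hr : r.Prime) (hr2 : r ≠ 2)
    (hd : r ∣ 2 ^ n - 2 ^ j) :
    (r = 3 ∧ (n = j + 2 ∨ n = j + 4)) ∨ (r = 5 ∧ n = 4 ∧ j = 0) ∨ (r = 7 ∧ n = j + 3) := by
  have hpos : 0 < 2 ^ n - 2 ^ j := Nat.sub_pos_of_lt (Nat.pow_lt_pow_right (by norm_num) hj)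
  have hle : r ≤ 2 ^ n - 2 ^ j := Nat.le_of_dvd hpos hd
  have hn' : 2 ^ n ≤ 16 := by
    calc 2 ^ n ≤ 2 ^ 4 := Nat.pow_le_pow_right (by norm_num) hn
      _ = 16 := by norm_num
  have hr16 : r ≤ 16 := (hle.trans (Nat.sub_le _ _)).trans hn'
  interval_cases n <;> interval_cases j <;> norm_num at hd hle <;> interval_cases r <;>
    first
      | omega
      | (exfalso; revert hr; norm_num)

/-- The fixed points of an automorphism. -/
def fixSub {V : Type*} [Group V] (h : MulAut V) : Subgroup V where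
  carrier := {v | h v = v}
  one_mem' := map_one h
  mul_mem' := by
    intro a c ha hc
    show h (a * c) = a * c
    rw [map_mul, ha, hc]
  inv_mem' := by
    intro a ha
    show h a⁻¹ = a⁻¹
    rw [map_inv, ha]

theorem mem_fixSub {V : Type*} [Group V] (h : MulAut V) (v : V) : v ∈ fixSub h ↔ h v = v := Iff.rfl

theorem iterate_eq_pow {V : Type*} [Group V] (h : MulAut V) (n : ℕ) (v : V) : (⇑h)^[n] v = (h ^ n) v := by
  induction n with
  | zero => rfl
  | succ n ih =>
    rw [Function.iterate_succ_apply', ih, pow_succ', MulAut.mul_apply]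

/-- The numerics of an automorphism of odd prime order. -/
theorem QData.exists_card (hd : QData q b) (h : MulAut V) {r : ℕ} (hr : r.Prime) (hr2 : r ≠ 2)
    (hord : orderOf h = r) : ∃ n j, Nat.card V = 2 ^ n ∧ Nat.card (fixSub h) = 2 ^ j ∧ n ≤ 4 ∧ j < n ∧
      ((r = 3 ∧ (n = j + 2 ∨ n = j + 4)) ∨ (r = 5 ∧ n = 4 ∧ j = 0) ∨ (r = 7 ∧ n = j + 3)) := by
  classical
  haveI := Fintype.ofFinite V
  haveI : Fact r.Prime := ⟨hr⟩
  have hpow : h ^ r = 1 := by rw [← hord]; exact pow_orderOf_eq_one h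
  have hV2 : IsPGroup 2 V := fun v => ⟨1, by rw [pow_one]; exact hd.hV v⟩
  obtain ⟨n, hn⟩ := IsPGroup.iff_card.1 hV2
  have hF : Nat.card (fixSub h) ∣ 2 ^ n := by
    rw [← hn]; exact Subgroup.card_subgroup_dvd_card _
  obtain ⟨j, hjn, hj⟩ := (Nat.dvd_prime_pow Nat.prime_two).1 hF
  have hn4 : n ≤ 4 := by
    by_contra hcon
    push Not at hcon
    have : 2 ^ 5 ≤ 2 ^ n := Nat.pow_le_pow_right (by norm_num) hcon
    have h16 := hd.card_le
    rw [hn] at h16
    omega
  have hne : h ≠ 1 := by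
    rintro rfl
    rw [orderOf_one] at hord
    exact hr.one_lt.ne hord
  have hjlt : j < n := by
    refine lt_of_le_of_ne hjn ?_
    rintro rfl
    apply hne
    have htop : fixSub h = ⊤ := Subgroup.eq_top_of_card_eq _ (by rw [hj, hn])
    ext v
    have : v ∈ fixSub h := by rw [htop]; trivial
    exact this
  have hmod := card_filter_modEq (⇑h) (r := r) (fun x => by rw [iterate_eq_pow, hpow]; rfl)
    (Finset.univ : Finset V) (fun x _ => Finset.mem_univ _)
  have e1 : (Finset.univ : Finset V).card = 2 ^ n := by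
    rw [Finset.card_univ, ← Nat.card_eq_fintype_card, hn]
  have e2 : (Finset.univ.filter (fun x : V => h x = x)).card = 2 ^ j := by
    rw [← hj, Nat.card_eq_fintype_card, Fintype.card_subtype]
    rfl
  rw [e1, e2] at hmod
  have hdvd : r ∣ 2 ^ n - 2 ^ j :=
    (Nat.modEq_iff_dvd' (Nat.pow_le_pow_right (by norm_num) hjn)).1 hmod.symm
  exact ⟨n, j, hn, hj, hn4, hjlt, prime_cases_arith hn4 hjlt hr hr2 hdvd⟩

/-- No isometry of order `7`. -/
theorem QData.no_seven (hd : QData q b) (h : MulAut V) (hh : ∀ v, q (h v) = q v)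
    (hord : orderOf h = 7) : False := by
  classical
  haveI := Fintype.ofFinite V
  haveI : Fact (Nat.Prime 7) := ⟨by norm_num⟩
  have hpow : h ^ 7 = 1 := by rw [← hord]; exact pow_orderOf_eq_one h
  obtain ⟨n, j, hn, hj, hn4, hjlt, hcases⟩ := hd.exists_card h (r := 7) (by norm_num) (by norm_num) hord
  have hnj : n = j + 3 := by omega
  let φ : V →* V :=
    { toFun := fun v => v * h v
      map_one' := by rw [map_one, mul_one]
      map_mul' := by
        intro a c
        rw [map_mul]
        ac_rfl }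
  have hker : φ.ker = fixSub h := by
    ext v
    rw [MonoidHom.mem_ker, mem_fixSub]
    show v * h v = 1 ↔ _
    constructor
    · intro e
      have := eq_inv_of_mul_eq_one_right e
      rw [this, hd.inv_eq]
    · intro e
      rw [e, ← pow_two, hd.hV]
  have hcardA : Nat.card φ.range = 8 := by
    have h1 := Subgroup.card_mul_index φ.ker
    rw [Subgroup.index_ker, hker, hj, hn, hnj] at h1
    have h2 : 2 ^ j * Nat.card φ.range = 2 ^ j * 8 := by
      rw [h1]; ring
    exact Nat.eq_of_mul_eq_mul_left (by positivity) h2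
  set A := φ.range with hA
  have hinv : ∀ a ∈ A, h a ∈ A := by
    rintro _ ⟨y, rfl⟩
    exact ⟨h y, by show h y * h (h y) = h (y * h y); rw [map_mul]⟩
  have hfree : ∀ a ∈ A, h a = a → a = 1 := by
    rintro _ ⟨y, rfl⟩ ha
    have ha' : h y * h (h y) = y * h y := by
      rw [← map_mul]; exact ha
    have h2 : h (h y) = y := by
      have : h (h y) * h y = y * h y := by rw [← ha', mul_comm]
      exact mul_right_cancel this
    have h8 : (h ^ 8) y = y := by
      have e : ∀ z : V, (h ^ 2) z = h (h z) := fun z => by rw [pow_two]; rfl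
      have e2 : (h ^ 8) = (h ^ 2) * (h ^ 2) * (h ^ 2) * (h ^ 2) := by
        simp only [← pow_add]
      rw [e2]
      simp only [MulAut.mul_apply, e, h2]
    have h9 : h y = y := by
      have e : h ^ 8 = h := by
        rw [show 8 = 7 + 1 from rfl, pow_succ, hpow, one_mul]
      rwa [e] at h8
    show y * h y = 1
    rw [h9, ← pow_two, hd.hV]
  obtain ⟨x, hxA, hx⟩ := exists_mem_not_mem_finset A (by rw [hcardA]; norm_num) {1} (by simp)
  simp only [Finset.mem_singleton] at hx
  set w := q x with hw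
  have hwne : w ≠ 1 := hd.q_ne hx
  let s : Finset V := Finset.univ.filter (fun v => v ∈ A ∧ v ≠ 1 ∧ q v = w)
  have hs : ∀ v ∈ s, h v ∈ s := by
    intro v hv
    simp only [s, Finset.mem_filter, Finset.mem_univ, true_and] at hv ⊢
    refine ⟨hinv v hv.1, ?_, by rw [hh]; exact hv.2.2⟩
    intro e
    exact hv.2.1 ((map_eq_one_iff h h.injective).1 e)
  have hmod := card_filter_modEq (⇑h) (r := 7) (fun x => by rw [iterate_eq_pow, hpow]; rfl) s hs
  have hempty : s.filter (fun v => h v = v) = ∅ := by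
    apply Finset.filter_eq_empty_iff.2
    intro v hv e
    simp only [s, Finset.mem_filter, Finset.mem_univ, true_and] at hv
    exact hv.2.1 (hfree v hv.1 e)
  rw [hempty, Finset.card_empty] at hmod
  have h7 : 7 ∣ s.card := (Nat.modEq_zero_iff_dvd).1 hmod
  have hxs : x ∈ s := by
    simp only [s, Finset.mem_filter, Finset.mem_univ, true_and]
    exact ⟨hxA, hx, rfl⟩
  have hspos : 0 < s.card := Finset.card_pos.2 ⟨x, hxs⟩
  have hs7 : 7 ≤ s.card := Nat.le_of_dvd hspos h7
  let t : Finset V := Finset.univ.filter (fun v => v ∈ A ∧ v ≠ 1)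
  have htA : (Finset.univ.filter (fun v => v ∈ A)).card = 8 := by
    rw [← hcardA, Nat.card_eq_fintype_card, Fintype.card_subtype]
  have ht : t.card = 7 := by
    have e : t = (Finset.univ.filter (fun v => v ∈ A)).erase 1 := by
      ext v
      simp only [t, Finset.mem_filter, Finset.mem_univ, true_and, Finset.mem_erase]
      tauto
    rw [e, Finset.card_erase_of_mem (by simp [A.one_mem]), htA]
  have hst : s ⊆ t := by
    intro v hv
    simp only [s, t, Finset.mem_filter, Finset.mem_univ, true_and] at hv ⊢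
    exact ⟨hv.1, hv.2.1⟩
  have heq : s = t := Finset.eq_of_subset_of_card_le hst (by omega)
  have hall : ∀ y ∈ A, y ≠ 1 → q y = w := by
    intro y hy hy1
    have : y ∈ s := by
      rw [heq]
      simp only [t, Finset.mem_filter, Finset.mem_univ, true_and]
      exact ⟨hy, hy1⟩
    simp only [s, Finset.mem_filter, Finset.mem_univ, true_and] at this
    exact this.2.2
  -- a third value
  haveI := Fintype.ofFinite W
  have hW4 : 2 < Fintype.card W := by
    rw [← Nat.card_eq_fintype_card, hd.hcard]; norm_num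
  obtain ⟨w₃, hw3⟩ : ∃ w₃ : W, w₃ ∉ ({1, w} : Finset W) := by
    by_contra hcon
    push Not at hcon
    have : (Finset.univ : Finset W) ⊆ {1, w} := fun a _ => hcon a
    have h2 := Finset.card_le_card this
    rw [Finset.card_univ] at h2
    have h3 := Finset.card_le_two (a := (1 : W)) (b := w)
    omega
  simp only [Finset.mem_insert, Finset.mem_singleton, not_or] at hw3
  exact hd.no_miss A (by rw [hcardA]; norm_num) hw3.1 (fun y hy hy1 e => hw3.2 (e.symm.trans (hall y hy hy1)))

/-- Isometries of order `5` and `3` cannot coexist. -/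
theorem QData.no_five_three (hd : QData q b) (h₅ h₃ : MulAut V) (hh5 : ∀ v, q (h₅ v) = q v)
    (hh3 : ∀ v, q (h₃ v) = q v) (ho5 : orderOf h₅ = 5) (ho3 : orderOf h₃ = 3) : False := by
  classical
  haveI := Fintype.ofFinite V
  haveI := Fintype.ofFinite W
  haveI : Fact (Nat.Prime 5) := ⟨by norm_num⟩
  haveI : Fact (Nat.Prime 3) := ⟨by norm_num⟩
  have hpow5 : h₅ ^ 5 = 1 := by rw [← ho5]; exact pow_orderOf_eq_one h₅
  have hpow3 : h₃ ^ 3 = 1 := by rw [← ho3]; exact pow_orderOf_eq_one h₃
  obtain ⟨n, j, hn, hj, hn4, hjlt, hc⟩ := hd.exists_card h₅ (r := 5) (by norm_num) (by norm_num) ho5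
  have hn4' : n = 4 := by omega
  have hj0 : j = 0 := by omega
  subst hn4' hj0
  obtain ⟨n', j', hn', hj', hn4', hjlt', hc'⟩ := hd.exists_card h₃ (r := 3) (by norm_num) (by norm_num) ho3
  have hn'' : n' = 4 := by
    have : 2 ^ n' = 2 ^ 4 := by rw [← hn', hn]
    exact Nat.pow_right_injective (le_refl 2) this
  have hj'2 : j' ≤ 2 := by omega
  have hcardV : (Finset.univ : Finset V).card = 16 := by
    rw [Finset.card_univ, ← Nat.card_eq_fintype_card, hn]; norm_num
  have hcardW : (Finset.univ : Finset W).card = 4 := by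
    rw [Finset.card_univ, ← Nat.card_eq_fintype_card, hd.hcard]
  have hfree5 : ∀ v, h₅ v = v → v = 1 := by
    intro v hv
    have hcard1 : Nat.card (fixSub h₅) = 1 := by rw [hj]; norm_num
    have hbot := Subgroup.eq_bot_of_card_eq _ hcard1
    have : v ∈ fixSub h₅ := hv
    rw [hbot] at this
    exact this
  let T₀ : Finset V := Finset.univ.erase 1
  have hT₀ : T₀.card = 15 := by
    rw [Finset.card_erase_of_mem (Finset.mem_univ _), hcardV]
  let W₀ : Finset W := Finset.univ.erase 1
  have hW₀ : W₀.card = 3 := by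
    rw [Finset.card_erase_of_mem (Finset.mem_univ _), hcardW]
  have hmapsT₀ : ∀ v ∈ T₀, q v ∈ W₀ := by
    intro v hv
    simp only [T₀, W₀, Finset.mem_erase, Finset.mem_univ, and_true] at hv ⊢
    exact hd.q_ne hv
  have hsum := Finset.card_eq_sum_card_fiberwise (f := q) (s := T₀) (t := W₀) hmapsT₀
  let c : W → ℕ := fun w => (T₀.filter (fun v => q v = w)).card
  have hinv : ∀ (h : MulAut V), (∀ v, q (h v) = q v) → ∀ w, ∀ v ∈ T₀.filter (fun v => q v = w),
      h v ∈ T₀.filter (fun v => q v = w) := by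
    intro h hh w v hv
    simp only [T₀, Finset.mem_filter, Finset.mem_erase, Finset.mem_univ, and_true] at hv ⊢
    refine ⟨?_, by rw [hh]; exact hv.2⟩
    intro e
    exact hv.1 ((map_eq_one_iff h h.injective).1 e)
  have hc5 : ∀ w ∈ W₀, 5 ≤ c w := by
    intro w hw
    have hw1 : w ≠ 1 := by
      simpa only [W₀, Finset.mem_erase, Finset.mem_univ, and_true] using hw
    have hmod := card_filter_modEq (⇑h₅) (r := 5) (fun x => by rw [iterate_eq_pow, hpow5]; rfl)
      _ (hinv h₅ hh5 w)
    have hempty : (T₀.filter (fun v => q v = w)).filter (fun v => h₅ v = v) = ∅ := by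
      apply Finset.filter_eq_empty_iff.2
      intro v hv e
      simp only [T₀, Finset.mem_filter, Finset.mem_erase, Finset.mem_univ, and_true] at hv
      exact hv.1 (hfree5 v e)
    rw [hempty, Finset.card_empty] at hmod
    have hdvd : 5 ∣ c w := (Nat.modEq_zero_iff_dvd).1 hmod
    have hpos : 0 < c w := by
      apply Finset.card_pos.2
      by_contra hcon
      rw [Finset.not_nonempty_iff_eq_empty] at hcon
      apply hd.no_miss (⊤ : Subgroup V) (by rw [Subgroup.card_top, hn]; norm_num) hw1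
      intro y _ hy1 e
      have : y ∈ T₀.filter (fun v => q v = w) := by
        simp only [T₀, Finset.mem_filter, Finset.mem_erase, Finset.mem_univ, and_true]
        exact ⟨hy1, e⟩
      rw [hcon] at this
      simp at this
    exact Nat.le_of_dvd hpos hdvd
  have hc5' : ∀ w ∈ W₀, c w = 5 := by
    intro w hw
    have h1 := Finset.add_sum_erase W₀ c hw
    have h2 : ((W₀.erase w).card) • 5 ≤ ∑ x ∈ W₀.erase w, c x :=
      Finset.card_nsmul_le_sum _ _ _ (fun x hx => hc5 x (Finset.mem_of_mem_erase hx))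
    rw [Finset.card_erase_of_mem hw, hW₀] at h2
    have h3 := hc5 w hw
    have h4 : ∑ x ∈ W₀, c x = 15 := by rw [← hT₀]; exact hsum.symm
    simp only [smul_eq_mul] at h2
    omega
  let T₁ : Finset V := T₀.filter (fun v => h₃ v = v)
  have hT₁ : T₁.card ≤ 3 := by
    have e2 : (Finset.univ.filter (fun x : V => h₃ x = x)).card = 2 ^ j' := by
      rw [← hj', Nat.card_eq_fintype_card, Fintype.card_subtype]
      rfl
    have hsub : T₁ = (Finset.univ.filter (fun x : V => h₃ x = x)).erase 1 := by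
      ext v
      simp only [T₁, T₀, Finset.mem_filter, Finset.mem_erase, Finset.mem_univ, and_true, true_and]
    rw [hsub, Finset.card_erase_of_mem (by simp), e2]
    have : 2 ^ j' ≤ 2 ^ 2 := Nat.pow_le_pow_right (by norm_num) hj'2
    omega
  have hmapsT₁ : ∀ v ∈ T₁, q v ∈ W₀ := fun v hv => hmapsT₀ v (Finset.mem_of_mem_filter v hv)
  have hsum1 := Finset.card_eq_sum_card_fiberwise (f := q) (s := T₁) (t := W₀) hmapsT₁
  have hd2 : ∀ w ∈ W₀, 2 ≤ (T₁.filter (fun v => q v = w)).card := by
    intro w hw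
    have hmod := card_filter_modEq (⇑h₃) (r := 3) (fun x => by rw [iterate_eq_pow, hpow3]; rfl)
      _ (hinv h₃ hh3 w)
    have e : (T₀.filter (fun v => q v = w)).filter (fun v => h₃ v = v)
        = T₁.filter (fun v => q v = w) := by
      rw [Finset.filter_comm]
    rw [e] at hmod
    have h5 : (T₀.filter (fun v => q v = w)).card = 5 := hc5' w hw
    rw [h5] at hmod
    have h6 : 5 % 3 = (T₁.filter (fun v => q v = w)).card % 3 := hmod
    omega
  have h6 : W₀.card • 2 ≤ ∑ x ∈ W₀, (T₁.filter (fun v => q v = x)).card :=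
    Finset.card_nsmul_le_sum _ _ _ hd2
  rw [hW₀, ← hsum1] at h6
  simp only [smul_eq_mul] at h6
  omega

/-- The isometry group is solvable. -/
theorem QData.solvable (hd : QData q b) : Group.IsSolvable (isomGroup q) := by
  classical
  set H := isomGroup q with hH
  have hn0 : Nat.card H ≠ 0 := Nat.card_pos.ne'
  have hex : ∀ r : ℕ, r.Prime → r ∣ Nat.card H → ∃ h : MulAut V, h ∈ H ∧ orderOf h = r := by
    intro r hr hrd
    haveI : Fact r.Prime := ⟨hr⟩
    obtain ⟨x, hx⟩ := exists_prime_orderOf_dvd_card' r hrd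
    exact ⟨x.1, x.2, by rw [Subgroup.orderOf_coe]; exact hx⟩
  have key : ∀ r : ℕ, r.Prime → r ∣ Nat.card H → r = 2 ∨ r = 3 ∨ r = 5 := by
    intro r hr hrd
    by_cases hr2 : r = 2
    · exact Or.inl hr2
    obtain ⟨h, hh, ho⟩ := hex r hr hrd
    obtain ⟨n, j, _, _, _, _, hc⟩ := hd.exists_card h hr hr2 ho
    rcases hc with ⟨rfl, _⟩ | ⟨rfl, _⟩ | ⟨rfl, _⟩
    · exact Or.inr (Or.inl rfl)
    · exact Or.inr (Or.inr rfl)
    · exact (hd.no_seven h hh ho).elim
  by_cases h5 : 5 ∣ Nat.card H
  · have h3 : ¬ 3 ∣ Nat.card H := by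
      intro h3
      obtain ⟨h₅, hh5, ho5⟩ := hex 5 (by norm_num) h5
      obtain ⟨h₃, hh3, ho3⟩ := hex 3 (by norm_num) h3
      exact hd.no_five_three h₅ h₃ hh5 hh3 ho5 ho3
    obtain ⟨a, c, hac⟩ := eq_pow_mul_pow_of_primes hn0 Nat.prime_two (by norm_num : Nat.Prime 5) (by
      intro r hr hrd
      rcases key r hr hrd with rfl | rfl | rfl
      · exact Or.inl rfl
      · exact absurd hrd h3
      · exact Or.inr rfl)
    exact Cfsg.Agent.Lib.Char.isSolvable_of_card 2 5 a c Nat.prime_two (by norm_num) hac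
  · obtain ⟨a, c, hac⟩ := eq_pow_mul_pow_of_primes hn0 Nat.prime_two (by norm_num : Nat.Prime 3) (by
      intro r hr hrd
      rcases key r hr hrd with rfl | rfl | rfl
      · exact Or.inl rfl
      · exact Or.inr rfl
      · exact absurd hrd h5)
    exact Cfsg.Agent.Lib.Char.isSolvable_of_card 2 3 a c Nat.prime_two (by norm_num) hac

end

end Cfsg.Agent.Lib.PGroup.ThreeInv
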