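import Mathlib
import Cfsg.Agent.Lib.OddLocal.SigComplete
import Cfsg.Agent.Lib.InvolChar.QuatPres
import Cfsg.Agent.Lib.Invol.AutOdd
import Cfsg.Agent.Lib.FF.RankOne
import Cfsg.Agent.Lib.PGroup.ThreeInvQ

/-!
# Extraspecial groups from noncyclic odd automorphism groups: first lemmas

Fixed-point subgroups of a subgroup of `MulAut W`, generation of an invariant subgroup by the
fixed points of the order-`p` subgroups of an elementary abelian group of order `p ^ 2`, and
odd-order automorphisms of a `2`-group with at most one involution.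
-/

set_option autoImplicit false

namespace Cfsg.Agent.Lib.PGroup.ExtraQ

open Subgroup

variable {W : Type*} [Group W]

/-- Points fixed by all of `S`. -/
def fixS (S : Subgroup (MulAut W)) : Subgroup W where
  carrier := {x | ∀ e ∈ S, e x = x}
  one_mem' := fun e _ => map_one e
  mul_mem' := fun ha hb e he => by rw [map_mul, ha e he, hb e he]
  inv_mem' := fun ha e he => by rw [map_inv, ha e he]

theorem mem_fixS {S : Subgroup (MulAut W)} {x : W} : x ∈ fixS S ↔ ∀ e ∈ S, e x = x := Iff.rfl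

/-- The stabilizer of a point in `MulAut W`. -/
def stabS (x : W) : Subgroup (MulAut W) where
  carrier := {e | e x = x}
  one_mem' := rfl
  mul_mem' := fun {a b} ha hb => by
    show (a * b) x = x
    rw [MulAut.mul_apply, hb, ha]
  inv_mem' := fun {a} ha => by
    show a⁻¹ x = x
    conv_lhs => rw [← ha]
    exact MulAut.inv_apply_self W a x

theorem mem_stabS {x : W} {e : MulAut W} : e ∈ stabS x ↔ e x = x := Iff.rfl

/-- An automorphism of odd order fixing `z` (with `z * z = 1`) and moving `x` to `x * z` fixes `x`. -/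
theorem odd_fix {e : MulAut W} {k : ℕ} (he : e ^ (2 * k + 1) = 1) {x z : W} (h : e x = x * z)
    (hz : e z = z) (hzz : z * z = 1) : e x = x := by
  have h2 : (e ^ 2) x = x := by
    rw [pow_two, MulAut.mul_apply, h, map_mul, h, hz, mul_assoc, hzz, mul_one]
  have h3 : ∀ n : ℕ, ((e ^ 2) ^ n) x = x := by
    intro n
    induction n with
    | zero => rfl
    | succ n ih => rw [pow_succ, MulAut.mul_apply, h2, ih]
  have h4 : (e ^ (2 * k + 1)) x = e x := by
    rw [pow_succ', MulAut.mul_apply, pow_mul, h3]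
  rw [he] at h4
  exact h4.symm

section Gen

variable [Finite W] {p : ℕ} [hp : Fact p.Prime]

/-- An invariant `p'`-subgroup is generated by the fixed points of the order-`p` subgroups of an
elementary abelian subgroup of order `p ^ 2` of `MulAut W`. -/
theorem gen_fix (E₀ : Subgroup (MulAut W)) (hc : ∀ e ∈ E₀, ∀ f ∈ E₀, e * f = f * e)
    (he : ∀ e ∈ E₀, e ^ p = 1) (hcard : Nat.card E₀ = p ^ 2) (Y : Subgroup W)
    (hY : ∀ e ∈ E₀, ∀ y ∈ Y, e y ∈ Y) (hcop : p.Coprime (Nat.card Y)) :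
    Y ≤ ⨆ D : {D : Subgroup (MulAut W) // D ≤ E₀ ∧ Nat.card D = p}, Y ⊓ fixS D.1 := by
  classical
  let φ : ↥E₀ →* MulAut W := E₀.subtype
  let G := W ⋊[φ] ↥E₀
  haveI : Finite G := Finite.of_equiv _ (SemidirectProduct.equivProd (φ := φ)).symm
  let inl' : W →* G := SemidirectProduct.inl
  let inr' : ↥E₀ →* G := SemidirectProduct.inr
  have hinl : Function.Injective inl' := SemidirectProduct.inl_injective
  have hinr : Function.Injective inr' := SemidirectProduct.inr_injective
  have hconj : ∀ (e : ↥E₀) (y : W), inr' e * inl' y * (inr' e)⁻¹ = inl' ((e : MulAut W) y) := by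
    intro e y
    have := SemidirectProduct.inl_aut (φ := φ) e y
    rw [← map_inv] 
    exact this.symm
  let A : Subgroup G := inr'.range
  let Y' : Subgroup G := Y.map inl'
  have hcA : ∀ x ∈ A, ∀ y ∈ A, x * y = y * x := by
    rintro _ ⟨a, rfl⟩ _ ⟨b, rfl⟩
    rw [← map_mul, ← map_mul]
    congr 1
    exact Subtype.ext (hc a a.2 b b.2)
  have heA : ∀ x ∈ A, x ^ p = 1 := by
    rintro _ ⟨a, rfl⟩
    rw [← map_pow]
    have : a ^ p = 1 := Subtype.ext (he a a.2)
    rw [this, map_one]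
  have hcardA : Nat.card A = p ^ 2 := by
    rw [← hcard]
    exact Nat.card_congr (MonoidHom.ofInjective hinr).symm.toEquiv
  have hAY : A ≤ normalizer (Y' : Set G) := by
    rintro _ ⟨a, rfl⟩
    rw [Subgroup.mem_normalizer_iff]
    intro n
    constructor
    · rintro ⟨y, hy, rfl⟩
      rw [hconj]
      exact ⟨_, hY a a.2 y hy, rfl⟩
    · rintro ⟨y, hy, hyn⟩
      have h1 : n = inr' a⁻¹ * inl' y * (inr' a⁻¹)⁻¹ := by
        rw [map_inv, inv_inv]
        have : inl' y = inr' a * n * (inr' a)⁻¹ := hyn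
        rw [this]
        simp [mul_assoc]
      rw [h1, hconj]
      exact ⟨_, hY a⁻¹ (a⁻¹).2 y hy, rfl⟩
  have hcop' : p.Coprime (Nat.card Y') := by
    have : Nat.card Y' = Nat.card Y := Subgroup.card_map_of_injective hinl
    rwa [this]
  have hbot : Nat.card (⊥ : Subgroup G) < Nat.card A := by
    rw [hcardA, Subgroup.card_bot]
    exact Nat.one_lt_pow (by norm_num) hp.out.one_lt
  have hgen := Cfsg.Agent.Lib.OddLocal.SigC.gen_hyper hcA heA _ ⊥ bot_le hbot le_rfl Y' hAY hcop'
  have h1 : Y' ≤ Y' ⊓ centralizer ((⊥ : Subgroup G) : Set G) := by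
    refine le_inf le_rfl ?_
    intro y _
    rw [mem_centralizer_iff]
    intro b hb
    have : b = 1 := by simpa using hb
    simp [this]
  set F : {D : Subgroup (MulAut W) // D ≤ E₀ ∧ Nat.card D = p} → Subgroup W := fun D => Y ⊓ fixS D.1
    with hF
  have h2 : Y' ≤ (⨆ D, F D).map inl' := by
    refine h1.trans (hgen.trans (iSup_le ?_))
    rintro ⟨T, hT, hTc⟩
    -- the subgroup of `E₀` corresponding to `T`
    let D : Subgroup (MulAut W) := (T.comap inr').map E₀.subtype
    have hDE : D ≤ E₀ := by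
      rintro _ ⟨a, -, rfl⟩
      exact a.2
    have hcT : Nat.card (T.comap inr') = Nat.card T := by
      have : (T.comap inr').map inr' = T := by
        rw [Subgroup.map_comap_eq_self]
        exact hT
      rw [← this]
      exact (Subgroup.card_map_of_injective hinr).symm ▸ (by rw [this])
    have hcardD : Nat.card D = p := by
      have h3 : Nat.card D = Nat.card (T.comap inr') :=
        Subgroup.card_map_of_injective (Subgroup.subtype_injective E₀)
      rw [h3, hcT]
      rw [hcardA, pow_two] at hTc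
      exact Nat.eq_of_mul_eq_mul_right hp.out.pos hTc
    have h4 : Y' ⊓ centralizer ((T : Subgroup G) : Set G) ≤ (F ⟨D, hDE, hcardD⟩).map inl' := by
      rintro g ⟨⟨y, hy, rfl⟩, hg⟩
      refine ⟨y, ⟨hy, ?_⟩, rfl⟩
      rintro _ ⟨a, ha, rfl⟩
      have h5 : inr' a ∈ T := ha
      have h6 := (mem_centralizer_iff.1 hg) _ h5
      have h7 : inr' a * inl' y * (inr' a)⁻¹ = inl' y := by
        rw [h6, mul_inv_cancel_right]
      rw [hconj] at h7
      exact hinl h7
    exact h4.trans (Subgroup.map_mono (le_iSup F _))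
  exact (Subgroup.map_le_map_iff_of_injective hinl).1 h2

end Gen

section Odd

variable {Q : Type*} [Group Q] [Finite Q]

/-- A nontrivial odd automorphism of a `2`-group with at most one involution forces `|Q| = 8`
and `Q` nonabelian. -/
theorem oddAut_struct (hQ : IsPGroup 2 Q)
    (hU : ∀ x y : Q, orderOf x = 2 → orderOf y = 2 → x = y) (τ : MulAut Q) (hτ : Odd (orderOf τ))
    (hne : τ ≠ 1) : Nat.card Q = 8 ∧ ¬ IsMulCommutative Q := by
  classical
  haveI hf2 : Fact (Nat.Prime 2) := ⟨Nat.prime_two⟩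
  have key : IsPGroup 2 (MulAut Q) → False := by
    intro h
    obtain ⟨k, hk⟩ := h τ
    have h1 : orderOf τ ∣ 2 ^ k := orderOf_dvd_of_pow_eq_one hk
    have hcop : Nat.Coprime (orderOf τ) (2 ^ k) :=
      Nat.Coprime.pow_right k ((Nat.coprime_comm.1 (Nat.coprime_two_left.2 hτ)))
    have h2 : orderOf τ = 1 := Nat.Coprime.eq_one_of_dvd hcop h1
    exact hne (orderOf_eq_one_iff.1 h2)
  have hcomm : ¬ IsMulCommutative Q := by
    intro hc
    have hA : IsMulCommutative (⊤ : Subgroup Q) := ⟨⟨fun a b => Subtype.ext (hc.is_comm.comm a.1 b.1)⟩⟩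
    have hcyc : IsCyclic (⊤ : Subgroup Q) := by
      refine Cfsg.Agent.Lib.FF.isCyclic_of_abelian_rank_le_one (p := 2) hA (hQ.to_subgroup _) ?_
      intro E _ hE
      by_cases hE1 : ∃ x ∈ E, x ≠ 1
      · obtain ⟨x, hxE, hx1⟩ := hE1
        have hxo : orderOf x = 2 := orderOf_eq_prime (hE x hxE) hx1
        have hle : E ≤ zpowers x := by
          intro y hy
          by_cases hy1 : y = 1
          · rw [hy1]; exact one_mem _
          · rw [hU y x (orderOf_eq_prime (hE y hy) hy1) hxo]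
            exact mem_zpowers x
        have := Subgroup.card_le_of_le hle
        rwa [Nat.card_zpowers, hxo] at this
      · push Not at hE1
        have : E = ⊥ := by
          rw [Subgroup.eq_bot_iff_forall]
          exact hE1
        rw [this, Subgroup.card_bot]
        norm_num
    haveI : IsCyclic Q := by
      exact isCyclic_of_surjective (Subgroup.subtype (⊤ : Subgroup Q)) (fun x => ⟨⟨x, trivial⟩, rfl⟩)
    exact key (Cfsg.Agent.Lib.Invol.isPGroup_aut_of_isCyclic hQ)
  refine ⟨?_, hcomm⟩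
  have hnt : Nontrivial Q := by
    by_contra hcon
    rw [not_nontrivial_iff_subsingleton] at hcon
    exact hcomm ⟨⟨fun a b => Subsingleton.elim _ _⟩⟩
  obtain ⟨k, hk⟩ := IsPGroup.iff_card.1 hQ
  have h2dvd : 2 ∣ Nat.card Q := by
    rw [hk]
    rcases k with _ | k
    · rw [pow_zero] at hk
      exact absurd (Nat.card_eq_one_iff_unique.1 hk).1 (not_subsingleton Q)
    · exact dvd_pow_self 2 (Nat.succ_ne_zero k)
  obtain ⟨z, hz⟩ := exists_prime_orderOf_dvd_card' 2 h2dvd
  have hUU : ∃! x : Q, orderOf x = 2 := ⟨z, hz, fun y hy => hU y z hy hz⟩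
  obtain ⟨a, b, n, hn, ho, hb, hba, hb2, hall⟩ :=
    Cfsg.Agent.Lib.InvolChar.exists_quat_pres hQ hcomm hUU
  have hidx : (zpowers a).index = 2 := by
    rw [Subgroup.index_eq_two_iff]
    refine ⟨b⁻¹, fun x => ?_⟩
    by_cases hx : x ∈ zpowers a
    · right
      refine ⟨hx, fun hxb => ?_⟩
      apply hb
      have : b = (x * b⁻¹)⁻¹ * x := by group
      rw [this]
      exact mul_mem (inv_mem hxb) hx
    · left
      exact ⟨(hall x).resolve_left hx, hx⟩
  have hcard : Nat.card Q = 2 ^ n * 2 := by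
    rw [← Subgroup.card_mul_index (zpowers a), Nat.card_zpowers, ho, hidx]
  by_cases h3 : n = 2
  · rw [hcard, h3]; norm_num
  · exfalso
    apply key
    refine Cfsg.Agent.Lib.Invol.isPGroup_aut_of_cyclic ho hidx.le ?_
    intro t ht
    obtain ⟨i, hi⟩ := mem_zpowers_iff.1 ((hall t).resolve_left ht)
    have ht' : t = a ^ i * b := by rw [hi]; group
    have hconj : b * a ^ i * b⁻¹ = (a ^ i)⁻¹ := by
      have : b * a ^ i * b⁻¹ = (b * a * b⁻¹) ^ i := by rw [conj_zpow]
      rw [this, hba, inv_zpow]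
    have hsq : t ^ 2 = b ^ 2 := by
      rw [ht', pow_two, pow_two]
      calc a ^ i * b * (a ^ i * b) = a ^ i * (b * a ^ i * b⁻¹) * (b * b) := by group
        _ = b * b := by rw [hconj]; group
    have h4 : t ^ 4 = 1 := by
      calc t ^ 4 = (t ^ 2) ^ 2 := by rw [← pow_mul]
        _ = (a ^ 2 ^ (n - 1)) ^ 2 := by rw [hsq, hb2]
        _ = a ^ 2 ^ n := by
          rw [← pow_mul, ← pow_succ]
          congr 2
          omega
        _ = 1 := by rw [← ho, pow_orderOf_eq_one]
    have h5 : orderOf t ≤ 4 := orderOf_le_of_pow_eq_one (by norm_num) h4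
    rw [ho]
    have h6 : 2 ^ 3 ≤ 2 ^ n := Nat.pow_le_pow_right (by norm_num) (by omega)
    omega

/-- Prime order automorphisms of a group of order `8` with at most one involution. -/
theorem q8_fix (hcard : Nat.card Q = 8) (hU : ∀ x y : Q, orderOf x = 2 → orderOf y = 2 → x = y)
    (τ : MulAut Q) {r : ℕ} [hr : Fact r.Prime] (hr2 : r ≠ 2) (hτ : τ ^ r = 1) (hne : τ ≠ 1) :
    r = 3 ∧ Nat.card (ThreeInv.fixSub τ) = 2 := by
  classical
  haveI := Fintype.ofFinite Q
  haveI hf2 : Fact (Nat.Prime 2) := ⟨Nat.prime_two⟩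
  have h2 : 2 ∣ Nat.card Q := by rw [hcard]; norm_num
  obtain ⟨z, hz⟩ := exists_prime_orderOf_dvd_card' 2 h2
  have hτz : τ z = z := hU _ _ (by rw [MulEquiv.orderOf_eq]; exact hz) hz
  have hF : Nat.card (ThreeInv.fixSub τ) ∣ 2 ^ 3 := by
    rw [show 2 ^ 3 = 8 by norm_num, ← hcard]
    exact Subgroup.card_subgroup_dvd_card _
  obtain ⟨j, hj3, hj⟩ := (Nat.dvd_prime_pow Nat.prime_two).1 hF
  have hmod := ThreeInv.card_filter_modEq (⇑τ) (r := r)
    (fun x => by rw [ThreeInv.iterate_eq_pow, hτ]; rfl)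
    (Finset.univ : Finset Q) (fun x _ => Finset.mem_univ _)
  have e1 : (Finset.univ : Finset Q).card = 8 := by
    rw [Finset.card_univ, ← Nat.card_eq_fintype_card, hcard]
  have e2 : (Finset.univ.filter (fun x : Q => τ x = x)).card = 2 ^ j := by
    rw [← hj, Nat.card_eq_fintype_card, Fintype.card_subtype]
    rfl
  rw [e1, e2] at hmod
  have hj0 : j ≠ 0 := by
    rintro rfl
    rw [pow_zero] at hj
    have : z ∈ ThreeInv.fixSub τ := hτz
    have hz1 : (⟨z, this⟩ : ThreeInv.fixSub τ) = 1 :=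
      (Nat.card_eq_one_iff_unique.1 hj).1.elim _ _
    have hz2 : z = 1 := congrArg Subtype.val hz1
    rw [hz2, orderOf_one] at hz
    omega
  have hj3' : j ≠ 3 := by
    rintro rfl
    apply hne
    have htop : ThreeInv.fixSub τ = ⊤ := Subgroup.eq_top_of_card_eq _ (by rw [hj, hcard]; norm_num)
    ext v
    have : v ∈ ThreeInv.fixSub τ := by rw [htop]; trivial
    exact this
  have hj12 : j = 1 ∨ j = 2 := by omega
  have hrp := hr.out
  rcases hj12 with rfl | rfl
  · have hdvd : r ∣ 8 - 2 ^ 1 := (Nat.modEq_iff_dvd' (by norm_num)).1 hmod.symm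
    have h6 : r ∣ 2 * 3 := by simpa using hdvd
    rcases (Nat.Prime.dvd_mul hrp).1 h6 with h7 | h7
    · exact absurd ((Nat.prime_dvd_prime_iff_eq hrp Nat.prime_two).1 h7) hr2
    · exact ⟨(Nat.prime_dvd_prime_iff_eq hrp Nat.prime_three).1 h7, by rw [hj]; norm_num⟩
  · have hdvd : r ∣ 8 - 2 ^ 2 := (Nat.modEq_iff_dvd' (by norm_num)).1 hmod.symm
    have h6 : r ∣ 2 ^ 2 := by simpa using hdvd
    exact absurd ((Nat.prime_dvd_prime_iff_eq hrp Nat.prime_two).1 (hrp.dvd_of_dvd_pow h6)) hr2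

end Odd

section Res

/-- Restriction of an automorphism to an invariant subgroup. -/
def resA (Q : Subgroup W) (e : MulAut W) (h : ∀ x ∈ Q, e x ∈ Q) (h' : ∀ x ∈ Q, e⁻¹ x ∈ Q) : MulAut Q where
  toFun x := ⟨e x, h x x.2⟩
  invFun x := ⟨e⁻¹ x, h' x x.2⟩
  left_inv x := Subtype.ext (MulAut.inv_apply_self W e x)
  right_inv x := Subtype.ext (MulAut.apply_inv_self W e x)
  map_mul' x y := Subtype.ext (map_mul e (x : W) (y : W))

theorem resA_coe (Q : Subgroup W) (e : MulAut W) (h : ∀ x ∈ Q, e x ∈ Q) (h' : ∀ x ∈ Q, e⁻¹ x ∈ Q) (x : Q) :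
    ((resA Q e h h' x : Q) : W) = e (x : W) := rfl

theorem resA_pow (Q : Subgroup W) (e : MulAut W) (h : ∀ x ∈ Q, e x ∈ Q) (h' : ∀ x ∈ Q, e⁻¹ x ∈ Q)
    (n : ℕ) (x : Q) : ((((resA Q e h h') ^ n) x : Q) : W) = (e ^ n) (x : W) := by
  induction n with
  | zero => rfl
  | succ n ih =>
    rw [pow_succ', MulAut.mul_apply, resA_coe, ih, pow_succ', MulAut.mul_apply]

/-- The predicate "`Q` is quaternion of order `8` with central involution `z`". -/
structure IsQ8 (Q : Subgroup W) (z : W) : Prop where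
  mem : z ∈ Q
  ne : z ≠ 1
  sq : z * z = 1
  card : Nat.card Q = 8
  uniq : ∀ x ∈ Q, x * x = 1 → x = 1 ∨ x = z
  nc : ∃ a ∈ Q, ∃ b ∈ Q, a * b ≠ b * a

/-- A subgroup with at most one involution on which a prime order automorphism (odd prime)
acts nontrivially. -/
theorem sub_struct [Finite W] (Q : Subgroup W) (hW : IsPGroup 2 W)
    (hU : ∀ x ∈ Q, ∀ y ∈ Q, orderOf x = 2 → orderOf y = 2 → x = y) (e : MulAut W) {r : ℕ}
    [hr : Fact r.Prime] (hr2 : r ≠ 2) (her : e ^ r = 1) (hinv : ∀ x ∈ Q, e x ∈ Q)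
    (hinv' : ∀ x ∈ Q, e⁻¹ x ∈ Q) (hne : ∃ x ∈ Q, e x ≠ x) :
    r = 3 ∧ ∃ z, IsQ8 Q z ∧ ∀ x ∈ Q, e x = x → x = 1 ∨ x = z := by
  classical
  set τ := resA Q e hinv hinv' with hτd
  have hτr : τ ^ r = 1 := by
    ext x
    rw [hτd, resA_pow, her]
    rfl
  have hτne : τ ≠ 1 := by
    rintro h1
    obtain ⟨x, hx, hex⟩ := hne
    apply hex
    have := congrArg (fun f : MulAut Q => ((f ⟨x, hx⟩ : Q) : W)) h1
    exact this
  have hodd : Odd (orderOf τ) := by
    have hrodd : Odd r := hr.out.odd_of_ne_two hr2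
    exact Odd.of_dvd_nat hrodd (orderOf_dvd_of_pow_eq_one hτr)
  have hU' : ∀ x y : Q, orderOf x = 2 → orderOf y = 2 → x = y := by
    intro x y hx hy
    apply Subtype.ext
    exact hU x x.2 y y.2 (by rw [← Subgroup.orderOf_coe] at hx; exact hx)
      (by rw [← Subgroup.orderOf_coe] at hy; exact hy)
  obtain ⟨hcard, hnc⟩ := oddAut_struct (hW.to_subgroup Q) hU' τ hodd hτne
  obtain ⟨hr3, hF⟩ := q8_fix hcard hU' τ hr2 hτr hτne
  refine ⟨hr3, ?_⟩
  obtain ⟨y, hy, huniq⟩ := (Nat.card_eq_two_iff' (1 : ThreeInv.fixSub τ)).1 hF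
  have hy2 : y ^ 2 = 1 := by
    have := pow_card_eq_one' (x := y)
    rwa [hF] at this
  have hyo : orderOf ((y : Q) : W) = 2 := by
    have h1 : ((y : Q) : W) ≠ 1 := by
      intro h
      apply hy
      exact Subtype.ext (Subtype.ext h)
    refine orderOf_eq_prime ?_ h1
    have := congrArg (fun u : ThreeInv.fixSub τ => ((u : Q) : W)) hy2
    simpa using this
  refine ⟨((y : Q) : W), ⟨(y : Q).2, ?_, ?_, hcard, ?_, ?_⟩, ?_⟩
  · intro h
    rw [h, orderOf_one] at hyo
    omega
  · rw [← pow_two, ← hyo]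
    exact pow_orderOf_eq_one _
  · intro x hx hxx
    by_cases hx1 : x = 1
    · exact Or.inl hx1
    · right
      exact hU x hx _ (y : Q).2 (orderOf_eq_prime (by rw [pow_two]; exact hxx) hx1) hyo
  · by_contra hcon
    push Not at hcon
    exact hnc ⟨⟨fun a b => Subtype.ext (hcon a.1 a.2 b.1 b.2)⟩⟩
  · intro x hx hex
    have hfx : (⟨x, hx⟩ : Q) ∈ ThreeInv.fixSub τ := Subtype.ext hex
    by_cases h1 : (⟨⟨x, hx⟩, hfx⟩ : ThreeInv.fixSub τ) = 1
    · left
      exact congrArg (fun u : ThreeInv.fixSub τ => ((u : Q) : W)) h1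
    · right
      have := huniq _ h1
      exact congrArg (fun u : ThreeInv.fixSub τ => ((u : Q) : W)) this

end Res

end Cfsg.Agent.Lib.PGroup.ExtraQ
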