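import Mathlib
import Cfsg.Agent.Lib.PGroup.ExtraQA

/-!
# Extraspecial groups from noncyclic odd automorphism groups: quaternion subgroups

Elementary properties of a subgroup of order `8` with a unique involution.
-/

set_option autoImplicit false

namespace Cfsg.Agent.Lib.PGroup.ExtraQ

open Subgroup

variable {W : Type*} [Group W]

theorem mem_zp {z x : W} (hzz : z * z = 1) : x ∈ zpowers z ↔ x = 1 ∨ x = z := by
  constructor
  · intro hx
    obtain ⟨i, rfl⟩ := mem_zpowers_iff.1 hx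
    have h2 : z ^ (2 : ℤ) = 1 := by
      rw [zpow_two, hzz]
    rcases Int.emod_two_eq_zero_or_one i with hi | hi
    · left
      rw [← Int.mul_ediv_add_emod i 2, hi, add_zero, zpow_mul, h2, one_zpow]
    · right
      rw [← Int.mul_ediv_add_emod i 2, hi, zpow_add, zpow_mul, h2, one_zpow, one_mul, zpow_one]
  · rintro (rfl | rfl)
    · exact one_mem _
    · exact mem_zpowers _

theorem comm_eq_aux {x y : W} (h : (x * x) * y = y * (x * x)) :
    x * y * x⁻¹ * y⁻¹ = (x * y * (x * y)) * (x * x)⁻¹ * (y * y)⁻¹ := by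
  have h1 : (x * x)⁻¹ * y = y * (x * x)⁻¹ := (Commute.inv_left (show Commute (x * x) y from h)).eq
  calc x * y * x⁻¹ * y⁻¹ = x * y * x * ((x * x)⁻¹ * y) * (y * y)⁻¹ := by group
    _ = (x * y * (x * y)) * (x * x)⁻¹ * (y * y)⁻¹ := by rw [h1]; group

namespace IsQ8

variable [Finite W] {Q : Subgroup W} {z : W}

theorem pow_eight (h : IsQ8 Q z) {x : W} (hx : x ∈ Q) : x ^ 8 = 1 := by
  have := pow_card_eq_one' (x := (⟨x, hx⟩ : Q))
  rw [h.card] at this
  simpa using congrArg Subtype.val this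

theorem sq_cases (h : IsQ8 Q z) {x : W} (hx : x ∈ Q) : x = 1 ∨ x = z ∨ x * x = z := by
  haveI hf2 : Fact (Nat.Prime 2) := ⟨Nat.prime_two⟩
  have h8 := h.pow_eight hx
  have h4mem : x ^ 4 ∈ Q := pow_mem hx 4
  have h44 : x ^ 4 * x ^ 4 = 1 := by
    rw [← pow_add]; exact h8
  have hx4 : x ^ 4 = 1 := by
    rcases h.uniq _ h4mem h44 with h4 | h4
    · exact h4
    · exfalso
      have ho : orderOf x = 2 ^ (2 + 1) := by
        apply orderOf_eq_prime_pow
        · rw [show 2 ^ 2 = 4 by norm_num, h4]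
          exact h.ne
        · rw [show 2 ^ (2 + 1) = 8 by norm_num]
          exact h8
      have hle : zpowers x ≤ Q := (zpowers_le).2 hx
      have heq : zpowers x = Q := by
        apply Subgroup.eq_of_le_of_card_ge hle
        rw [Nat.card_zpowers, ho, h.card]
        norm_num
      obtain ⟨a, ha, b, hb, hab⟩ := h.nc
      rw [← heq] at ha hb
      obtain ⟨i, rfl⟩ := mem_zpowers_iff.1 ha
      obtain ⟨j, rfl⟩ := mem_zpowers_iff.1 hb
      exact hab (zpow_mul_comm x i j)
  have h2mem : x * x ∈ Q := mul_mem hx hx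
  have h22 : (x * x) * (x * x) = 1 := by
    calc (x * x) * (x * x) = x ^ 4 := by simp only [pow_succ, pow_zero, one_mul, mul_assoc]
      _ = 1 := hx4
  rcases h.uniq _ h2mem h22 with h3 | h3
  · rcases h.uniq _ hx h3 with h5 | h5
    · exact Or.inl h5
    · exact Or.inr (Or.inl h5)
  · exact Or.inr (Or.inr h3)

theorem z_comm (h : IsQ8 Q z) {x : W} (hx : x ∈ Q) : x * z = z * x := by
  have hm : x * z * x⁻¹ ∈ Q := mul_mem (mul_mem hx h.mem) (inv_mem hx)
  have hs : (x * z * x⁻¹) * (x * z * x⁻¹) = 1 := by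
    calc (x * z * x⁻¹) * (x * z * x⁻¹) = x * (z * z) * x⁻¹ := by group
      _ = 1 := by rw [h.sq]; group
  rcases h.uniq _ hm hs with h1 | h1
  · exfalso
    apply h.ne
    have : z = x⁻¹ * (x * z * x⁻¹) * x := by group
    rw [this, h1]
    group
  · rw [eq_comm, ← eq_mul_inv_iff_mul_eq] 
    exact h1.symm

theorem sq_mem (h : IsQ8 Q z) {x : W} (hx : x ∈ Q) : x * x ∈ zpowers z := by
  rw [mem_zp h.sq]
  rcases h.sq_cases hx with rfl | rfl | h1
  · left; simp
  · left; exact h.sq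
  · right; exact h1

/-- Commutators in `Q` lie in `⟨z⟩`. -/
theorem comm_mem (h : IsQ8 Q z) {x y : W} (hx : x ∈ Q) (hy : y ∈ Q) :
    x * y * x⁻¹ * y⁻¹ ∈ zpowers z := by
  have hxx := h.sq_mem hx
  have hc : (x * x) * y = y * (x * x) := by
    rcases (mem_zp h.sq).1 hxx with h1 | h1
    · rw [h1]; simp
    · rw [h1]; exact (h.z_comm hy).symm
  rw [comm_eq_aux hc]
  exact mul_mem (mul_mem (h.sq_mem (mul_mem hx hy)) (inv_mem hxx)) (inv_mem (h.sq_mem hy))

/-- A noncentral description of commutators. -/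
theorem comm_cases (h : IsQ8 Q z) {x y : W} (hx : x ∈ Q) (hy : y ∈ Q) :
    x * y = y * x ∨ x * y = z * y * x := by
  have := (mem_zp h.sq).1 (h.comm_mem hx hy)
  rcases this with h1 | h1
  · left
    have h2 : x * y * x⁻¹ = y := by
      rwa [mul_inv_eq_one] at h1
    calc x * y = (x * y * x⁻¹) * x := by group
      _ = y * x := by rw [h2]
  · right
    rw [← h1]
    group

/-- An element of `Q` outside `⟨z⟩` is not central in `Q`. -/
theorem not_central (h : IsQ8 Q z) {x : W} (hx : x ∈ Q) (h1 : x ≠ 1) (hxz : x ≠ z) :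
    ∃ y ∈ Q, x * y ≠ y * x := by
  classical
  by_contra hcon
  push Not at hcon
  haveI : Finite Q := inferInstance
  -- the centre of `Q` has at least three elements
  let C : Subgroup Q := center Q
  have hxC : (⟨x, hx⟩ : Q) ∈ C := by
    rw [Subgroup.mem_center_iff]
    intro g
    exact Subtype.ext (hcon g.1 g.2).symm
  have hzC : (⟨z, h.mem⟩ : Q) ∈ C := by
    rw [Subgroup.mem_center_iff]
    intro g
    exact Subtype.ext (h.z_comm g.2)
  have hcard3 : 3 ≤ Nat.card C := by
    haveI := Fintype.ofFinite C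
    rw [Nat.card_eq_fintype_card]
    have hne : ({⟨1, one_mem _⟩, ⟨⟨z, h.mem⟩, hzC⟩, ⟨⟨x, hx⟩, hxC⟩} : Finset C).card = 3 := by
      rw [Finset.card_eq_three]
      refine ⟨_, _, _, ?_, ?_, ?_, rfl⟩
      · intro e
        exact h.ne (congrArg (fun u : C => ((u : Q) : W)) e).symm
      · intro e
        exact h1 (congrArg (fun u : C => ((u : Q) : W)) e).symm
      · intro e
        exact hxz (congrArg (fun u : C => ((u : Q) : W)) e).symm
    rw [← hne]
    exact Finset.card_le_univ _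
  have hdvd : Nat.card C ∣ 2 ^ 3 := by
    rw [show 2 ^ 3 = 8 by norm_num, ← h.card]
    exact Subgroup.card_subgroup_dvd_card _
  obtain ⟨j, hj3, hj⟩ := (Nat.dvd_prime_pow Nat.prime_two).1 hdvd
  have hmul := Subgroup.card_mul_index C
  rw [h.card, hj] at hmul
  rw [hj] at hcard3
  have hidx : C.index = 1 ∨ C.index = 2 := by
    interval_cases j
    · norm_num at hcard3
    · norm_num at hcard3
    · right; omega
    · left; omega
  haveI : IsCyclic (Q ⧸ C) := by
    rcases hidx with h2 | h2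
    · rw [Subgroup.index_eq_one] at h2
      haveI : Subsingleton (Q ⧸ C) := by
        rw [show C = ⊤ from h2]
        exact QuotientGroup.subsingleton_quotient_top
      exact isCyclic_of_subsingleton
    · haveI : Fact (Nat.Prime 2) := ⟨Nat.prime_two⟩
      exact isCyclic_of_prime_card (p := 2) (by rw [← h2]; rfl)
  have hcomm : IsMulCommutative Q :=
    MonoidHom.isMulCommutative_of_isCyclic_of_ker_le_center (QuotientGroup.mk' C)
      (by rw [QuotientGroup.ker_mk'])
  obtain ⟨a, ha, b, hb, hab⟩ := h.nc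
  exact hab (congrArg Subtype.val (hcomm.is_comm.comm ⟨a, ha⟩ ⟨b, hb⟩))

end IsQ8

/-- The data gathered from the automorphism group. -/
structure Dat (W : Type*) [Group W] where
  E : Subgroup (MulAut W)
  comm : ∀ e ∈ E, ∀ f ∈ E, e * f = f * e
  exp3 : ∀ e ∈ E, e ^ 3 = 1
  card9 : Nat.card E = 9
  z : W
  zne : z ≠ 1
  zz : z * z = 1
  zc : ∀ x, x * z = z * x
  fixE : ∀ x, (∀ e ∈ E, e x = x) ↔ x = 1 ∨ x = z
  typ : ∀ D : Subgroup (MulAut W), D ≤ E → Nat.card D = 3 → fixS D ≤ zpowers z ∨ IsQ8 (fixS D) z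
  two : IsPGroup 2 W

namespace Dat

variable [Finite W] (d : Dat W)

theorem odd_pow (e : MulAut W) (he : e ∈ d.E) : e ^ (2 * 1 + 1) = 1 := d.exp3 e he

theorem e_z {e : MulAut W} (he : e ∈ d.E) : e d.z = d.z := (d.fixE d.z).2 (Or.inr rfl) e he

/-- The points fixed by `D` are permuted by `E`. -/
theorem inv_fix {D : Subgroup (MulAut W)} (hD : D ≤ d.E) {e : MulAut W} (he : e ∈ d.E) {x : W}
    (hx : x ∈ fixS D) : e x ∈ fixS D := by
  intro c hc
  have h1 : (c * e) x = (e * c) x := by rw [d.comm c (hD hc) e he]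
  rw [MulAut.mul_apply, MulAut.mul_apply, hx c hc] at h1
  exact h1

theorem fix_of_sup {D : Subgroup (MulAut W)} (hD : D ≤ d.E) (hc : Nat.card D = 3) {f : MulAut W}
    (hf : f ∈ d.E) (hfD : f ∉ D) {x : W} (hx : x ∈ fixS D) (hfx : f x = x) : x = 1 ∨ x = d.z := by
  rw [← d.fixE]
  have hle : D ⊔ zpowers f ≤ d.E := sup_le hD ((zpowers_le).2 hf)
  have hlt : ¬ Nat.card (↥(D ⊔ zpowers f)) ≤ Nat.card D := by
    intro hcon
    have := Subgroup.eq_of_le_of_card_ge (le_sup_left : D ≤ D ⊔ zpowers f) hcon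
    apply hfD
    rw [this]
    exact (le_sup_right : zpowers f ≤ D ⊔ zpowers f) (mem_zpowers f)
  have hdvd : Nat.card (↥(D ⊔ zpowers f)) ∣ 3 ^ 2 := by
    rw [show 3 ^ 2 = 9 by norm_num, ← d.card9]
    exact Subgroup.card_dvd_of_le hle
  obtain ⟨j, hj2, hj⟩ := (Nat.dvd_prime_pow Nat.prime_three).1 hdvd
  rw [hj, hc] at hlt
  have hE : d.E = D ⊔ zpowers f := by
    symm
    apply Subgroup.eq_of_le_of_card_ge hle
    rw [d.card9, hj]
    interval_cases j <;> simp_all
  intro e he
  rw [hE] at he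
  have hs : D ⊔ zpowers f ≤ stabS x := by
    refine sup_le (fun c hc => hx c hc) ((zpowers_le).2 hfx)
  exact hs he

end Dat

end Cfsg.Agent.Lib.PGroup.ExtraQ
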