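import Mathlib
import Cfsg.Agent.Lib.PGroup.ExtraQB

/-!
# Extraspecial groups from noncyclic odd automorphism groups: commuting of the quaternion subgroups
-/

set_option autoImplicit false

namespace Cfsg.Agent.Lib.PGroup.ExtraQ

open Subgroup

variable {W : Type*} [Group W]

theorem card_eight [DecidableEq W] {z x a b : W} (hz1 : z ≠ 1) (hzz : z * z = 1) (hx1 : x ≠ 1)
    (hxz : x ≠ z) (ha1 : a ≠ 1) (haz : a ≠ z) (hb1 : b ≠ 1) (hbz : b ≠ z) (hxa : x ≠ a)
    (hxaz : x ≠ a * z) (hxb : x ≠ b) (hxbz : x ≠ b * z) (hab : a ≠ b) (habz : a ≠ b * z) :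
    ({1, z, x, x * z, a, a * z, b, b * z} : Finset W).card = 8 := by
  have e2 : ∀ u v : W, u * z = v ↔ u = v * z := by
    intro u v
    constructor
    · rintro rfl; rw [mul_assoc, hzz, mul_one]
    · rintro rfl; rw [mul_assoc, hzz, mul_one]
  have e3 : ∀ u : W, 1 = u * z ↔ u = z := by
    intro u; rw [eq_comm, e2, one_mul]
  have e7 : ∀ u : W, z = u * z ↔ u = 1 := by
    intro u; constructor
    · intro h; exact (mul_eq_right.1 h.symm)
    · rintro rfl; simp
  have e8 : ∀ u : W, u * z * z = u := fun u => by rw [mul_assoc, hzz, mul_one]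
  have hax : a ≠ x * z := fun h => hxaz (by rw [h, e8])
  have hbx : b ≠ x * z := fun h => hxbz (by rw [h, e8])
  have hba : b ≠ a * z := fun h => habz (by rw [h, e8])
  simp [Finset.card_insert_of_notMem, hz1, hz1.symm, hx1, hx1.symm, hxz, hxz.symm, ha1, ha1.symm,
    haz, haz.symm, hb1, hb1.symm, hbz, hbz.symm, hxa, hxa.symm, hxaz, hxb, hxb.symm, hxbz, hab,
    hab.symm, habz, hax, hbx, hba, e2, e3, e7, e8]

namespace Dat

variable [Finite W] (d : Dat W)

theorem central_Z {s : W} (hs : s ∈ zpowers d.z) (u : W) : u * s = s * u := by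
  rcases (mem_zp d.zz).1 hs with rfl | rfl
  · simp
  · exact d.zc u

theorem e_s {e : MulAut W} (he : e ∈ d.E) {s : W} (hs : s ∈ zpowers d.z) : e s = s := by
  rcases (mem_zp d.zz).1 hs with rfl | rfl
  · simp
  · exact d.e_z he

/-- `f` and `f ^ 2` play the same role. -/
theorem sq_notMem {D : Subgroup (MulAut W)} {f : MulAut W} (hf : f ∈ d.E) (hfD : f ∉ D) :
    f ^ 2 ∉ D := by
  intro h
  apply hfD
  have h1 : f = (f ^ 2) ^ 2 := by
    rw [← pow_mul, show 2 * 2 = 3 + 1 by norm_num, pow_succ, d.exp3 f hf, one_mul]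
  rw [h1]
  exact pow_mem h 2

theorem f_sq_apply {f : MulAut W} (hf : f ∈ d.E) (x : W) : f ((f ^ 2) x) = x := by
  rw [← MulAut.mul_apply, ← pow_succ', d.exp3 f hf]
  rfl

theorem norm_mem {D : Subgroup (MulAut W)} (hD : D ≤ d.E) (hc : Nat.card D = 3) {f : MulAut W}
    (hf : f ∈ d.E) (hfD : f ∉ D) {b : W} (hb : b ∈ fixS D) :
    b * f b * (f ^ 2) b = 1 ∨ b * f b * (f ^ 2) b = d.z := by
  rcases d.typ D hD hc with hQ | hQ
  · rcases (mem_zp d.zz).1 (hQ hb) with rfl | rfl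
    · left; simp
    · right
      have h1 : f d.z = d.z := d.e_z hf
      have h2 : (f ^ 2) d.z = d.z := d.e_z (pow_mem hf 2)
      rw [h1, h2, d.zz, one_mul]
  · set c := b * f b * (f ^ 2) b with hcd
    have hfb : f b ∈ fixS D := d.inv_fix hD hf hb
    have hf2 : f ^ 2 ∈ d.E := pow_mem hf 2
    have hffb : (f ^ 2) b ∈ fixS D := d.inv_fix hD hf2 hb
    have hcm : c ∈ fixS D := mul_mem (mul_mem hb hfb) hffb
    have hfc : f c = f b * (f ^ 2) b * b := by
      rw [hcd, map_mul, map_mul, d.f_sq_apply hf, ← MulAut.mul_apply, ← pow_two]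
    have hbc : b * f c = c * b := by
      rw [hfc, hcd]
      group
    have hfix : f c = c := by
      rcases hQ.comm_cases hcm hb with h3 | h3
      · rw [h3] at hbc
        exact mul_left_cancel hbc
      · have h4 : f c = c * d.z := by
          apply mul_left_cancel (a := b)
          calc b * f c = d.z * b * c := by rw [hbc, h3]
            _ = b * d.z * c := by rw [d.zc b]
            _ = b * (d.z * c) := mul_assoc _ _ _
            _ = b * (c * d.z) := by rw [d.zc c]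
        exact odd_fix (k := 1) (d.exp3 f hf) h4 (d.e_z hf) d.zz
    exact d.fix_of_sup hD hc hf hfD hcm hfix

theorem key_move {D : Subgroup (MulAut W)} (hD : D ≤ d.E) (hc : Nat.card D = 3) {g : MulAut W}
    (hg : g ∈ d.E) (hgD : g ∉ D) {x : W} (hx : x ∈ fixS D) (hx1 : x ≠ 1) (hxz : x ≠ d.z) :
    g x ≠ x ∧ g x ≠ x * d.z := by
  have h : ¬ g x = x := fun h => (d.fix_of_sup hD hc hg hgD hx h).elim hx1 hxz
  exact ⟨h, fun h' => h (odd_fix (k := 1) (d.exp3 g hg) h' (d.e_z hg) d.zz)⟩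

/-- The elements of `Q = fixS D` (quaternion) are permuted transitively modulo `z`. -/
theorem cover {D : Subgroup (MulAut W)} (hD : D ≤ d.E) (hc : Nat.card D = 3) {f : MulAut W}
    (hf : f ∈ d.E) (hfD : f ∉ D) (hQ : IsQ8 (fixS D) d.z) {x : W} (hx : x ∈ fixS D) (hx1 : x ≠ 1)
    (hxz : x ≠ d.z) {y : W} (hy : y ∈ fixS D) :
    y = 1 ∨ y = d.z ∨ y = x ∨ y = x * d.z ∨ y = f x ∨ y = f x * d.z ∨ y = (f ^ 2) x ∨
      y = (f ^ 2) x * d.z := by
  classical
  have hf2 : f ^ 2 ∈ d.E := pow_mem hf 2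
  have hf2D : f ^ 2 ∉ D := d.sq_notMem hf hfD
  obtain ⟨k1, k2⟩ := d.key_move hD hc hf hfD hx hx1 hxz
  obtain ⟨k3, k4⟩ := d.key_move hD hc hf2 hf2D hx hx1 hxz
  have hfz := d.e_z hf
  have hfz2 := d.e_z hf2
  have ha1 : f x ≠ 1 := fun h => hx1 (by simpa using h)
  have haz : f x ≠ d.z := fun h => hxz (f.injective (by rw [h, hfz]))
  have hb1 : (f ^ 2) x ≠ 1 := fun h => hx1 (by simpa using h)
  have hbz : (f ^ 2) x ≠ d.z := fun h => hxz ((f ^ 2).injective (by rw [h, hfz2]))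
  have hxa : x ≠ f x := k1.symm
  have e8 : ∀ u : W, u * d.z * d.z = u := fun u => by rw [mul_assoc, d.zz, mul_one]
  have hxaz : x ≠ f x * d.z := fun h => k2 (by
    have := congrArg (· * d.z) h
    simp only [e8] at this
    exact this.symm)
  have hxb : x ≠ (f ^ 2) x := k3.symm
  have hxbz : x ≠ (f ^ 2) x * d.z := fun h => k4 (by
    have := congrArg (· * d.z) h
    simp only [e8] at this
    exact this.symm)
  have hb2 : (f ^ 2) x = f (f x) := by rw [pow_two, MulAut.mul_apply]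
  have hab : f x ≠ (f ^ 2) x := fun h => k1 (f.injective (by rw [← hb2, h]))
  have habz : f x ≠ (f ^ 2) x * d.z := by
    intro h
    apply hxaz
    apply f.injective
    rw [map_mul, hfz, ← hb2]
    exact h
  have hcard := card_eight d.zne d.zz hx1 hxz ha1 haz hb1 hbz hxa hxaz hxb hxbz hab habz
  let F : Finset W := (Set.toFinite (fixS D : Set W)).toFinset
  have hFc : F.card = 8 := by
    rw [← hQ.card]
    have h1 : Nat.card (fixS D) = (fixS D : Set W).ncard := Nat.card_coe_set_eq _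
    rw [h1, Set.ncard_eq_toFinset_card _ (Set.toFinite _)]
  have hmem : ∀ u : W, u ∈ fixS D → u ∈ F := fun u hu => by
    simp only [F, Set.Finite.mem_toFinset]
    exact hu
  have hz := hQ.mem
  have ha := d.inv_fix hD hf hx
  have hb := d.inv_fix hD hf2 hx
  have hsub : ({1, d.z, x, x * d.z, f x, f x * d.z, (f ^ 2) x, (f ^ 2) x * d.z} : Finset W) ⊆ F := by
    intro u hu
    simp only [Finset.mem_insert, Finset.mem_singleton] at hu
    apply hmem
    rcases hu with rfl | rfl | rfl | rfl | rfl | rfl | rfl | rfl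
    · exact one_mem _
    · exact hz
    · exact hx
    · exact mul_mem hx hz
    · exact ha
    · exact mul_mem ha hz
    · exact hb
    · exact mul_mem hb hz
  have heq := Finset.eq_of_subset_of_card_le hsub (by rw [hFc, hcard])
  have hyF := hmem y hy
  rw [← heq] at hyF
  simpa only [Finset.mem_insert, Finset.mem_singleton] using hyF

/-- Commuting modulo `z`. -/
def R (x y : W) : Prop := ∃ s ∈ zpowers d.z, x * y = s * y * x

theorem R_symm {x y : W} (h : d.R x y) : d.R y x := by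
  obtain ⟨s, hs, h⟩ := h
  refine ⟨s⁻¹, inv_mem hs, ?_⟩
  calc y * x = s⁻¹ * (s * y * x) := by group
    _ = s⁻¹ * (x * y) := by rw [h]
    _ = s⁻¹ * x * y := by group

/-- The elements commuting modulo `z` with all of `A`. -/
def relC (A : Set W) : Subgroup W where
  carrier := {x | ∀ y ∈ A, d.R x y}
  one_mem' := fun y _ => ⟨1, one_mem _, by simp⟩
  mul_mem' := by
    intro x₁ x₂ h₁ h₂ y hy
    obtain ⟨s₁, hs₁, e₁⟩ := h₁ y hy
    obtain ⟨s₂, hs₂, e₂⟩ := h₂ y hy
    refine ⟨s₂ * s₁, mul_mem hs₂ hs₁, ?_⟩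
    calc x₁ * x₂ * y = x₁ * (x₂ * y) := by group
      _ = x₁ * s₂ * y * x₂ := by rw [e₂]; group
      _ = s₂ * (x₁ * y) * x₂ := by rw [d.central_Z hs₂ x₁]; group
      _ = s₂ * s₁ * y * (x₁ * x₂) := by rw [e₁]; group
  inv_mem' := by
    intro x h y hy
    obtain ⟨s, hs, e⟩ := h y hy
    refine ⟨s⁻¹, inv_mem hs, ?_⟩
    have h1 : y * x⁻¹ = s * (x⁻¹ * y) := by
      have h2 : y = x⁻¹ * (s * y * x) := by rw [← e]; group
      have h3 : x⁻¹ * (s * y * x) = s * (x⁻¹ * y) * x := by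
        calc x⁻¹ * (s * y * x) = (x⁻¹ * s) * y * x := by group
          _ = (s * x⁻¹) * y * x := by rw [d.central_Z hs x⁻¹]
          _ = s * (x⁻¹ * y) * x := by group
      rw [h3] at h2
      calc y * x⁻¹ = (s * (x⁻¹ * y) * x) * x⁻¹ := by rw [← h2]
        _ = s * (x⁻¹ * y) := by group
    calc x⁻¹ * y = s⁻¹ * (s * (x⁻¹ * y)) := by group
      _ = s⁻¹ * y * x⁻¹ := by rw [← h1]; group

theorem mem_relC {A : Set W} {x : W} : x ∈ d.relC A ↔ ∀ y ∈ A, d.R x y := Iff.rfl

/-- In a `2`-group a subgroup containing the central `z` and not contained in `⟨z⟩` has an element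
outside `⟨z⟩` central modulo `z`. -/
theorem exists_central_mod (X : Subgroup W) (hzX : d.z ∈ X) (hX : ¬ X ≤ zpowers d.z) :
    ∃ x ∈ X, x ∉ zpowers d.z ∧ ∀ y ∈ X, d.R x y := by
  classical
  haveI hf2 : Fact (Nat.Prime 2) := ⟨Nat.prime_two⟩
  let N : Subgroup X := (zpowers d.z).subgroupOf X
  haveI hN : N.Normal := by
    constructor
    intro n hn g
    rw [Subgroup.mem_subgroupOf] at hn ⊢
    have h1 : ((g * n * g⁻¹ : X) : W) = (n : W) := by
      show (g : W) * n * (g : W)⁻¹ = n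
      rw [d.central_Z hn (g : W)]
      group
    rw [h1]
    exact hn
  obtain ⟨x₀, hx₀, hx₀Z⟩ := SetLike.not_le_iff_exists.1 hX
  have hnt : Nontrivial (X ⧸ N) := by
    refine ⟨⟨((⟨x₀, hx₀⟩ : X) : X ⧸ N), 1, ?_⟩⟩
    intro h
    rw [QuotientGroup.eq_one_iff] at h
    exact hx₀Z h
  have hp : IsPGroup 2 (X ⧸ N) := (d.two.to_subgroup X).to_quotient N
  haveI := hp.center_nontrivial
  obtain ⟨c, hc⟩ := exists_ne (1 : center (X ⧸ N))
  obtain ⟨x, hx⟩ := QuotientGroup.mk_surjective (c : X ⧸ N)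
  refine ⟨(x : W), x.2, ?_, ?_⟩
  · intro h
    apply hc
    apply Subtype.ext
    rw [← hx]
    exact (QuotientGroup.eq_one_iff x).2 h
  · intro y hy
    have hcen := (Subgroup.mem_center_iff.1 c.2) ((⟨y, hy⟩ : X) : X ⧸ N)
    rw [← hx] at hcen
    have h2 : ((⟨y, hy⟩ * x : X) : X ⧸ N) = ((x * ⟨y, hy⟩ : X) : X ⧸ N) := hcen
    rw [QuotientGroup.eq] at h2
    have hs : ((y * x)⁻¹ * (x * y) : W) ∈ zpowers d.z := h2
    refine ⟨_, hs, ?_⟩
    calc (x : W) * y = (y * x) * ((y * x)⁻¹ * (x * y)) := by group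
      _ = ((y * x)⁻¹ * (x * y)) * (y * x) := d.central_Z hs _
      _ = ((y * x)⁻¹ * (x * y)) * y * x := (mul_assoc _ _ _).symm

theorem eq_of_common {D₁ D₂ : Subgroup (MulAut W)} (h1 : D₁ ≤ d.E) (c1 : Nat.card D₁ = 3)
    (h2 : D₂ ≤ d.E) (c2 : Nat.card D₂ = 3) {g : MulAut W} (hg1 : g ∈ D₁) (hg2 : g ∈ D₂)
    (hg : g ≠ 1) : D₁ = D₂ := by
  haveI : Fact (Nat.Prime 3) := ⟨Nat.prime_three⟩
  have ho : orderOf g = 3 := orderOf_eq_prime (d.exp3 g (h1 hg1)) hg
  have e1 : zpowers g = D₁ :=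
    Subgroup.eq_of_le_of_card_ge ((zpowers_le).2 hg1) (by rw [Nat.card_zpowers, ho, c1])
  have e2 : zpowers g = D₂ :=
    Subgroup.eq_of_le_of_card_ge ((zpowers_le).2 hg2) (by rw [Nat.card_zpowers, ho, c2])
  rw [← e1, e2]

theorem exists_ne_one_of_card {D : Subgroup (MulAut W)} (c : Nat.card D = 3) : ∃ g ∈ D, g ≠ 1 := by
  by_contra hcon
  push Not at hcon
  have : D = ⊥ := (Subgroup.eq_bot_iff_forall D).2 hcon
  rw [this, Subgroup.card_bot] at c
  omega

omit [Finite W] in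
theorem triple {z a u v w : W} (hzc : ∀ x, x * z = z * x) (hzz : z * z = 1) (hu : a * u = z * u * a)
    (hv : a * v = z * v * a) (hw : a * w = z * w * a) : a * (u * v * w) = z * (u * v * w) * a := by
  calc a * (u * v * w) = (a * u) * v * w := by group
    _ = z * u * (a * v) * w := by rw [hu]; group
    _ = z * u * (z * v * a) * w := by rw [hv]
    _ = z * u * z * v * (a * w) := by group
    _ = z * u * z * v * (z * w * a) := by rw [hw]
    _ = z * (u * z) * v * z * w * a := by group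
    _ = z * (z * u) * v * z * w * a := by rw [hzc u]
    _ = (z * z) * u * v * z * w * a := by group
    _ = (u * v) * z * w * a := by rw [hzz, one_mul]
    _ = z * (u * v) * w * a := by rw [hzc (u * v)]
    _ = z * (u * v * w) * a := by group

/-- The pairing argument. -/
theorem pair_comm {D₁ D₂ : Subgroup (MulAut W)} (h1 : D₁ ≤ d.E) (c1 : Nat.card D₁ = 3)
    (h2 : D₂ ≤ d.E) (c2 : Nat.card D₂ = 3) (hne : D₁ ≠ D₂) {a b : W} (ha : a ∈ fixS D₁)
    (hb : b ∈ fixS D₂) (hR : d.R a b) : a * b = b * a := by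
  obtain ⟨s, hs, e⟩ := hR
  obtain ⟨g, hg, hg1⟩ := exists_ne_one_of_card c1
  have hgE : g ∈ d.E := h1 hg
  have hg2 : g ∉ D₂ := fun h => hne (d.eq_of_common h1 c1 h2 c2 hg h hg1)
  rcases (mem_zp d.zz).1 hs with rfl | rfl
  · simpa using e
  · exfalso
    have e1 : a * g b = d.z * g b * a := by
      have := congrArg g e
      rw [map_mul, map_mul, map_mul, ha g hg, d.e_z hgE] at this
      exact this
    have e2 : a * (g ^ 2 : MulAut W) b = d.z * (g ^ 2 : MulAut W) b * a := by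
      have := congrArg (⇑(g ^ 2 : MulAut W)) e
      rw [map_mul, map_mul, map_mul, ha (g ^ 2) (pow_mem hg 2), d.e_z (pow_mem hgE 2)] at this
      exact this
    have hn := d.norm_mem h2 c2 hgE hg2 hb
    have hcm : a * (b * g b * (g ^ 2 : MulAut W) b) = (b * g b * (g ^ 2 : MulAut W) b) * a :=
      d.central_Z ((mem_zp d.zz).2 hn) a
    have h3 := triple d.zc d.zz e e1 e2
    rw [hcm] at h3
    have h4 := mul_right_cancel h3
    exact d.zne (mul_eq_right.1 h4.symm)

theorem relC_inv {X : Subgroup W} (hX : ∀ e ∈ d.E, ∀ x ∈ X, e x ∈ X) {e : MulAut W} (he : e ∈ d.E)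
    {y : W} (hy : y ∈ d.relC (X : Set W)) : e y ∈ d.relC (X : Set W) := by
  intro u hu
  obtain ⟨s, hs, h⟩ := hy (e⁻¹ u) (hX e⁻¹ (inv_mem he) u hu)
  refine ⟨s, hs, ?_⟩
  have := congrArg e h
  rw [map_mul, map_mul, map_mul, d.e_s he hs, MulAut.apply_inv_self] at this
  exact this

include d in
theorem coprime_three (Y : Subgroup W) : Nat.Coprime 3 (Nat.card Y) := by
  obtain ⟨k, hk⟩ := IsPGroup.iff_card.1 (d.two.to_subgroup Y)
  rw [hk]
  exact Nat.Coprime.pow_right k (by norm_num)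

/-- Commuting of fixed points of distinct order-`3` subgroups inside invariant subgroups. -/
theorem comm_main : ∀ (n : ℕ) (X : Subgroup W), Nat.card X ≤ n → d.z ∈ X →
    (∀ e ∈ d.E, ∀ x ∈ X, e x ∈ X) → ∀ D₁ D₂ : Subgroup (MulAut W), D₁ ≤ d.E → Nat.card D₁ = 3 →
      D₂ ≤ d.E → Nat.card D₂ = 3 → D₁ ≠ D₂ → ∀ a ∈ X, a ∈ fixS D₁ → ∀ b ∈ X, b ∈ fixS D₂ →
        a * b = b * a := by
  intro n
  induction n with
  | zero =>
    intro X hX
    have : 0 < Nat.card X := Nat.card_pos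
    omega
  | succ n ih =>
    intro X hXn hzX hXinv D₁ D₂ h1 c1 h2 c2 hne a haX haD b hbX hbD
    haveI : Fact (Nat.Prime 3) := ⟨Nat.prime_three⟩
    by_cases hXZ : X ≤ zpowers d.z
    · exact d.central_Z (hXZ hbX) a
    obtain ⟨x, hxX, hxZ, hxR⟩ := d.exists_central_mod X hzX hXZ
    let T : Subgroup W := X ⊓ d.relC (X : Set W)
    have hTinv : ∀ e ∈ d.E, ∀ y ∈ T, e y ∈ T := fun e he y hy =>
      ⟨hXinv e he y hy.1, d.relC_inv hXinv he hy.2⟩
    have hgen := gen_fix (p := 3) d.E d.comm d.exp3 (by rw [d.card9]; norm_num) T hTinv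
      (d.coprime_three T)
    have hex : ∃ D : {D : Subgroup (MulAut W) // D ≤ d.E ∧ Nat.card D = 3}, ∃ x₀ ∈ T,
        x₀ ∈ fixS D.1 ∧ x₀ ∉ zpowers d.z := by
      by_contra hno
      push Not at hno
      have hT : T ≤ zpowers d.z :=
        hgen.trans (iSup_le (fun D u hu => hno D u hu.1 hu.2))
      exact hxZ (hT ⟨hxX, hxR⟩)
    obtain ⟨⟨Dk, hDk, hcDk⟩, x₀, hx₀T, hx₀D, hx₀Z⟩ := hex
    have hQ : IsQ8 (fixS Dk) d.z := (d.typ Dk hDk hcDk).resolve_left (fun h => hx₀Z (h hx₀D))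
    have hx₀1 : x₀ ≠ 1 := fun h => hx₀Z (h ▸ one_mem _)
    have hx₀z : x₀ ≠ d.z := fun h => hx₀Z (h ▸ mem_zpowers _)
    obtain ⟨f, hf, hfD⟩ : ∃ f ∈ d.E, f ∉ Dk := by
      by_contra hno
      push Not at hno
      have := Subgroup.card_le_of_le (show d.E ≤ Dk from hno)
      rw [d.card9, hcDk] at this
      omega
    have hzT : d.z ∈ T := ⟨hzX, fun y _ => ⟨1, one_mem _, by rw [one_mul, d.zc y]⟩⟩
    have hsub : fixS Dk ≤ T := by
      intro y hy
      have hfT := hTinv f hf x₀ hx₀T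
      have hf2T := hTinv (f ^ 2) (pow_mem hf 2) x₀ hx₀T
      rcases d.cover hDk hcDk hf hfD hQ hx₀D hx₀1 hx₀z hy with
        rfl | rfl | rfl | rfl | rfl | rfl | rfl | rfl
      · exact one_mem _
      · exact hzT
      · exact hx₀T
      · exact mul_mem hx₀T hzT
      · exact hfT
      · exact mul_mem hfT hzT
      · exact hf2T
      · exact mul_mem hf2T hzT
    have hpair : ∀ D' : Subgroup (MulAut W), D' ≤ d.E → Nat.card D' = 3 → Dk ≠ D' →
        ∀ u ∈ fixS Dk, ∀ v ∈ X, v ∈ fixS D' → u * v = v * u := by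
      intro D' h' c' hne' u hu v hv hvD
      exact d.pair_comm hDk hcDk h' c' hne' hu hvD ((hsub hu).2 v hv)
    let X' : Subgroup W := X ⊓ centralizer (fixS Dk : Set W)
    have hX'lt : Nat.card X' ≤ n := by
      obtain ⟨u, hu, v, hv, huv⟩ := hQ.nc
      have hlt : Nat.card X' < Nat.card X := by
        by_contra hcon
        push Not at hcon
        have heq : X' = X := Subgroup.eq_of_le_of_card_ge inf_le_left hcon
        have huX' : u ∈ X' := by
          rw [heq]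
          exact (hsub hu).1
        exact huv ((mem_centralizer_iff.1 huX'.2) v hv).symm
      omega
    have hzX' : d.z ∈ X' := ⟨hzX, mem_centralizer_iff.2 (fun y _ => d.zc y)⟩
    have hX'inv : ∀ e ∈ d.E, ∀ y ∈ X', e y ∈ X' := by
      intro e he y hy
      refine ⟨hXinv e he y hy.1, mem_centralizer_iff.2 (fun u hu => ?_)⟩
      have hu' : e⁻¹ u ∈ fixS Dk := d.inv_fix hDk (inv_mem he) hu
      have := (mem_centralizer_iff.1 hy.2) _ hu'
      have h3 := congrArg e this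
      rw [map_mul, map_mul, MulAut.apply_inv_self] at h3
      exact h3
    by_cases hD1 : D₁ = Dk
    · subst hD1
      exact hpair D₂ h2 c2 hne a haD b hbX hbD
    by_cases hD2 : D₂ = Dk
    · subst hD2
      exact (hpair D₁ h1 c1 (Ne.symm hne) b hbD a haX haD).symm
    have haX' : a ∈ X' :=
      ⟨haX, mem_centralizer_iff.2 (fun u hu => hpair D₁ h1 c1 (Ne.symm hD1) u hu a haX haD)⟩
    have hbX' : b ∈ X' :=
      ⟨hbX, mem_centralizer_iff.2 (fun u hu => hpair D₂ h2 c2 (Ne.symm hD2) u hu b hbX hbD)⟩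
    exact ih X' hX'lt hzX' hX'inv D₁ D₂ h1 c1 h2 c2 hne a haX' haD b hbX' hbD

/-- Fixed points of distinct order-`3` subgroups commute. -/
theorem comm_top {D₁ D₂ : Subgroup (MulAut W)} (h1 : D₁ ≤ d.E) (c1 : Nat.card D₁ = 3)
    (h2 : D₂ ≤ d.E) (c2 : Nat.card D₂ = 3) (hne : D₁ ≠ D₂) {a b : W} (ha : a ∈ fixS D₁)
    (hb : b ∈ fixS D₂) : a * b = b * a :=
  d.comm_main _ ⊤ le_rfl trivial (fun _ _ _ _ => trivial) D₁ D₂ h1 c1 h2 c2 hne a trivial ha b
    trivial hb

end Dat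

end Cfsg.Agent.Lib.PGroup.ExtraQ
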