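import Mathlib

/-!
# The product-set formula for two subgroups: `|UV| |U ⊓ V| = |U| |V|`.
-/

set_option autoImplicit false

namespace Cfsg.Agent.Lib.PGroup

open scoped Pointwise

variable {X : Type*} [Group X] [Finite X]

/-- The product formula for two subgroups of a finite group. -/
theorem card_coe_mul_coe_mul_card_inf (U V : Subgroup X) :
    Nat.card ↥(((U : Set X) * (V : Set X))) * Nat.card ↥(U ⊓ V) = Nat.card U * Nat.card V := by
  classical
  have := Fintype.ofFinite ↥((U : Set X) * (V : Set X))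
  let f : U × V → ↥((U : Set X) * (V : Set X)) :=
    fun p => ⟨(p.1 : X) * (p.2 : X), Set.mul_mem_mul p.1.2 p.2.2⟩
  have hfib : ∀ s, Nat.card {p // f p = s} = Nat.card ↥(U ⊓ V) := by
    rintro ⟨x, hx⟩
    obtain ⟨u0, hu0, v0, hv0, rfl⟩ := Set.mem_mul.mp hx
    refine Nat.card_congr
      { toFun := fun p => ⟨u0⁻¹ * (p.1.1 : X), ?_⟩
        invFun := fun c => ⟨(⟨u0 * (c : X), ?_⟩, ⟨(c : X)⁻¹ * v0, ?_⟩), ?_⟩
        left_inv := ?_
        right_inv := ?_ }
    · have hp : (p.1.1 : X) * (p.1.2 : X) = u0 * v0 := congrArg Subtype.val p.2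
      refine Subgroup.mem_inf.mpr ⟨U.mul_mem (U.inv_mem hu0) p.1.1.2, ?_⟩
      have e : u0⁻¹ * (p.1.1 : X) = v0 * (p.1.2 : X)⁻¹ := by
        calc u0⁻¹ * (p.1.1 : X) = u0⁻¹ * ((p.1.1 : X) * (p.1.2 : X)) * (p.1.2 : X)⁻¹ := by group
          _ = v0 * (p.1.2 : X)⁻¹ := by rw [hp]; group
      rw [e]
      exact V.mul_mem hv0 (V.inv_mem p.1.2.2)
    · exact U.mul_mem hu0 (Subgroup.mem_inf.mp c.2).1
    · exact V.mul_mem (V.inv_mem (Subgroup.mem_inf.mp c.2).2) hv0
    · apply Subtype.ext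
      show u0 * (c : X) * ((c : X)⁻¹ * v0) = u0 * v0
      group
    · rintro ⟨⟨a, b⟩, hp⟩
      have hp' : (a : X) * (b : X) = u0 * v0 := congrArg Subtype.val hp
      apply Subtype.ext
      apply Prod.ext
      · apply Subtype.ext
        show u0 * (u0⁻¹ * (a : X)) = a
        group
      · apply Subtype.ext
        show (u0⁻¹ * (a : X))⁻¹ * v0 = b
        have : v0 = u0⁻¹ * ((a : X) * (b : X)) := by rw [hp']; group
        rw [this]; group
    · intro c
      apply Subtype.ext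
      show u0⁻¹ * (u0 * (c : X)) = c
      group
  have h1 : Nat.card (U × V) = Nat.card (Σ s, {p // f p = s}) :=
    Nat.card_congr (Equiv.sigmaFiberEquiv f).symm
  rw [Nat.card_prod] at h1
  rw [h1, Nat.card_sigma, Finset.sum_congr rfl (fun s _ => hfib s), Finset.sum_const,
    smul_eq_mul, Finset.card_univ, Nat.card_eq_fintype_card]

/-- `|U||V| ≤ |W||U ⊓ V|` for `U, V ≤ W`. -/
theorem card_mul_card_le_of_le (U V W : Subgroup X) (hU : U ≤ W) (hV : V ≤ W) :
    Nat.card U * Nat.card V ≤ Nat.card W * Nat.card ↥(U ⊓ V) := by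
  rw [← card_coe_mul_coe_mul_card_inf U V]
  refine Nat.mul_le_mul_right _ ?_
  have hsub : ((U : Set X) * (V : Set X)) ⊆ (W : Set X) := by
    rintro _ ⟨u, hu, v, hv, rfl⟩
    exact W.mul_mem (hU hu) (hV hv)
  exact Nat.card_mono (Set.toFinite _) hsub

/-- If `U, V ≤ W` and `|U||V| = |W||U ⊓ V|`, then `W = UV`. -/
theorem exists_mul_eq_of_card_eq (U V W : Subgroup X) (hU : U ≤ W) (hV : V ≤ W)
    (he : Nat.card U * Nat.card V = Nat.card W * Nat.card ↥(U ⊓ V)) :
    ∀ w ∈ W, ∃ u ∈ U, ∃ v ∈ V, w = u * v := by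
  intro w hw
  have h0 : 0 < Nat.card ↥(U ⊓ V) := Nat.card_pos
  rw [← card_coe_mul_coe_mul_card_inf U V] at he
  have hc : Nat.card ↥((U : Set X) * (V : Set X)) = Nat.card W :=
    (Nat.eq_of_mul_eq_mul_right h0 he)
  have hsub : ((U : Set X) * (V : Set X)) ⊆ (W : Set X) := by
    rintro _ ⟨u, hu, v, hv, rfl⟩
    exact W.mul_mem (hU hu) (hV hv)
  have : ((U : Set X) * (V : Set X)) = (W : Set X) := by
    apply Set.eq_of_subset_of_ncard_le hsub
    have h2 : (W : Set X).ncard = Nat.card W := (Nat.card_coe_set_eq _).symm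
    have h3 : ((U : Set X) * (V : Set X)).ncard = Nat.card ↥((U : Set X) * (V : Set X)) :=
      (Nat.card_coe_set_eq _).symm
    rw [h2, h3, hc]
  have hw' : w ∈ (W : Set X) := hw
  rw [← this] at hw'
  obtain ⟨u, hu, v, hv, rfl⟩ := Set.mem_mul.mp hw'
  exact ⟨u, hu, v, hv, rfl⟩

/-- If `W = UV` with `U, V ≤ W`, then `|U||V| = |W||U ⊓ V|`. -/
theorem card_mul_card_eq_of_forall_mem (U V W : Subgroup X) (hU : U ≤ W) (hV : V ≤ W)
    (h : ∀ w ∈ W, ∃ u ∈ U, ∃ v ∈ V, w = u * v) :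
    Nat.card U * Nat.card V = Nat.card W * Nat.card ↥(U ⊓ V) := by
  rw [← card_coe_mul_coe_mul_card_inf U V]
  congr 1
  have : ((U : Set X) * (V : Set X)) = (W : Set X) := by
    apply Set.Subset.antisymm
    · rintro _ ⟨u, hu, v, hv, rfl⟩
      exact W.mul_mem (hU hu) (hV hv)
    · intro w hw
      obtain ⟨u, hu, v, hv, rfl⟩ := h w hw
      exact Set.mul_mem_mul hu hv
  rw [this]
  rfl

end Cfsg.Agent.Lib.PGroup
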