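import Mathlib
import Cfsg.Agent.Lib.PGroup.ExtraQC
import Cfsg.Agent.Lib.Transfer.Frat
import Cfsg.Agent.Lib.Hall.Elementary
import Cfsg.Agent.Lib.PGroup.ProductSet

/-!
# Extraspecial groups from noncyclic odd automorphism groups: the structure of `W`
-/

set_option autoImplicit false

namespace Cfsg.Agent.Lib.PGroup.ExtraQ

open Subgroup
open scoped Pointwise commutatorElement

variable {W : Type*} [Group W]

/-- Product formula for commuting subgroups. -/
theorem card_sup_mul_inf_of_comm [Finite W] (U V : Subgroup W) (h : ∀ u ∈ U, ∀ v ∈ V, u * v = v * u) :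
    Nat.card ↥(U ⊔ V) * Nat.card ↥(U ⊓ V) = Nat.card U * Nat.card V := by
  have h1 := Cfsg.Agent.Lib.PGroup.card_coe_mul_coe_mul_card_inf U V
  let S : Subgroup W :=
    { carrier := (U : Set W) * (V : Set W)
      one_mem' := ⟨1, one_mem U, 1, one_mem V, by simp⟩
      mul_mem' := by
        rintro _ _ ⟨u₁, hu₁, v₁, hv₁, rfl⟩ ⟨u₂, hu₂, v₂, hv₂, rfl⟩
        refine ⟨u₁ * u₂, mul_mem hu₁ hu₂, v₁ * v₂, mul_mem hv₁ hv₂, ?_⟩
        simp only
        rw [mul_assoc, mul_assoc, ← mul_assoc v₁, ← mul_assoc u₂, h u₂ hu₂ v₁ hv₁]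
      inv_mem' := by
        rintro _ ⟨u, hu, v, hv, rfl⟩
        refine ⟨u⁻¹, inv_mem hu, v⁻¹, inv_mem hv, ?_⟩
        simp only
        rw [mul_inv_rev]
        have := h u hu v hv
        rw [← mul_inv_rev, ← mul_inv_rev, this] }
  have h2 : ((U : Set W) * (V : Set W)) = ((U ⊔ V : Subgroup W) : Set W) := by
    apply Set.Subset.antisymm
    · rintro _ ⟨a, ha, b, hb, rfl⟩
      exact Subgroup.mul_mem _ (Subgroup.mem_sup_left ha) (Subgroup.mem_sup_right hb)
    · have hle : U ⊔ V ≤ S := sup_le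
        (fun u hu => ⟨u, hu, 1, one_mem V, by simp⟩) (fun v hv => ⟨1, one_mem U, v, hv, by simp⟩)
      exact fun x hx => hle hx
  rw [h2] at h1
  exact h1

namespace Dat

variable [Finite W] (d : Dat W)

theorem eq_top_of_fix (S : Subgroup W) (h : ∀ D : Subgroup (MulAut W), D ≤ d.E → Nat.card D = 3 → fixS D ≤ S)
    (x : W) : x ∈ S := by
  haveI : Fact (Nat.Prime 3) := ⟨Nat.prime_three⟩
  have hgen := gen_fix (p := 3) d.E d.comm d.exp3 (by rw [d.card9]; norm_num) ⊤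
    (fun _ _ _ _ => trivial) (d.coprime_three ⊤)
  have h1 : (⨆ D : {D : Subgroup (MulAut W) // D ≤ d.E ∧ Nat.card D = 3}, (⊤ : Subgroup W) ⊓ fixS D.1) ≤ S :=
    iSup_le (fun D => inf_le_right.trans (h D.1 D.2.1 D.2.2))
  exact h1 (hgen (mem_top x))

theorem R_fix_fix {D₁ D₂ : Subgroup (MulAut W)} (h1 : D₁ ≤ d.E) (c1 : Nat.card D₁ = 3)
    (h2 : D₂ ≤ d.E) (c2 : Nat.card D₂ = 3) {a b : W} (ha : a ∈ fixS D₁) (hb : b ∈ fixS D₂) :
    d.R a b := by
  by_cases hne : D₁ = D₂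
  · subst hne
    rcases d.typ D₁ h1 c1 with hQ | hQ
    · exact ⟨1, one_mem _, by rw [one_mul]; exact (d.central_Z (hQ ha) b).symm⟩
    · rcases hQ.comm_cases ha hb with h | h
      · exact ⟨1, one_mem _, by rw [one_mul]; exact h⟩
      · exact ⟨d.z, mem_zpowers _, h⟩
  · exact ⟨1, one_mem _, by rw [one_mul]; exact d.comm_top h1 c1 h2 c2 hne ha hb⟩

theorem R_all (x y : W) : d.R x y := by
  have h1 : ∀ D : Subgroup (MulAut W), D ≤ d.E → Nat.card D = 3 → ∀ a ∈ fixS D, ∀ y, d.R a y := by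
    intro D hD hc a ha y
    refine d.R_symm (d.eq_top_of_fix (d.relC {a}) (fun D' hD' hc' b hb a' ha' => ?_) y a rfl)
    rw [Set.mem_singleton_iff] at ha'
    subst ha'
    exact d.R_fix_fix hD' hc' hD hc hb ha
  exact d.eq_top_of_fix (d.relC Set.univ) (fun D hD hc a ha y _ => h1 D hD hc a ha y) x y trivial

/-- The subgroup of elements with square in `⟨z⟩`. -/
theorem sq_all (x : W) : x * x ∈ zpowers d.z := by
  let S : Subgroup W :=
    { carrier := {u | u * u ∈ zpowers d.z}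
      one_mem' := by simp
      mul_mem' := by
        intro a b ha hb
        obtain ⟨s, hs, e⟩ := d.R_all b a
        show a * b * (a * b) ∈ zpowers d.z
        have h1 : a * b * (a * b) = s * ((a * a) * (b * b)) := by
          calc a * b * (a * b) = a * (b * a) * b := by group
            _ = a * (s * a * b) * b := by rw [e]
            _ = (a * s) * a * b * b := by group
            _ = (s * a) * a * b * b := by rw [d.central_Z hs a]
            _ = s * ((a * a) * (b * b)) := by group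
        rw [h1]
        exact mul_mem hs (mul_mem ha hb)
      inv_mem' := by
        intro a ha
        show a⁻¹ * a⁻¹ ∈ zpowers d.z
        have : a⁻¹ * a⁻¹ = (a * a)⁻¹ := by group
        rw [this]
        exact inv_mem ha }
  refine d.eq_top_of_fix S (fun D hD hc a ha => ?_) x
  rcases d.typ D hD hc with hQ | hQ
  · exact mul_mem (hQ ha) (hQ ha)
  · exact hQ.sq_mem ha

theorem zp_le_center : zpowers d.z ≤ center W :=
  (zpowers_le).2 (Subgroup.mem_center_iff.2 d.zc)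

theorem center_le : center W ≤ zpowers d.z := by
  haveI : Fact (Nat.Prime 3) := ⟨Nat.prime_three⟩
  have hinv : ∀ e ∈ d.E, ∀ y ∈ center W, e y ∈ center W := by
    intro e _ y hy
    rw [Subgroup.mem_center_iff] at hy ⊢
    intro g
    have := congrArg e (hy (e⁻¹ g))
    rwa [map_mul, map_mul, MulAut.apply_inv_self] at this
  have hgen := gen_fix (p := 3) d.E d.comm d.exp3 (by rw [d.card9]; norm_num) (center W)
    hinv (d.coprime_three _)
  refine hgen.trans (iSup_le (fun D => ?_))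
  rintro x ⟨hx, hxD⟩
  rcases d.typ D.1 D.2.1 D.2.2 with hQ | hQ
  · exact hQ hxD
  · rw [mem_zp d.zz]
    by_contra hcon
    push Not at hcon
    obtain ⟨y, -, hy⟩ := hQ.not_central hxD hcon.1 hcon.2
    exact hy ((Subgroup.mem_center_iff.1 hx) y).symm

theorem center_eq : center W = zpowers d.z := le_antisymm d.center_le d.zp_le_center

theorem commutator_le : commutator W ≤ zpowers d.z := by
  rw [_root_.commutator_def, Subgroup.commutator_le]
  intro x _ y _
  obtain ⟨s, hs, e⟩ := d.R_all x y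
  rw [commutatorElement_def, e]
  have : s * y * x * x⁻¹ * y⁻¹ = s := by group
  rwa [this]

theorem exists_Q8 : ∃ D : Subgroup (MulAut W), D ≤ d.E ∧ Nat.card D = 3 ∧ IsQ8 (fixS D) d.z := by
  by_contra hno
  push Not at hno
  have hZ : ∀ x : W, x ∈ zpowers d.z := d.eq_top_of_fix _ (fun D hD hc =>
    (d.typ D hD hc).resolve_right (hno D hD hc))
  have hE : d.E = ⊥ := by
    rw [Subgroup.eq_bot_iff_forall]
    intro e he
    ext x
    have h1 := (mem_zp d.zz).1 (hZ x)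
    exact (d.fixE x).2 h1 e he
  have := d.card9
  rw [hE, Subgroup.card_bot] at this
  omega

theorem commutator_eq : commutator W = zpowers d.z := by
  refine le_antisymm d.commutator_le ?_
  obtain ⟨D, -, -, hQ⟩ := d.exists_Q8
  obtain ⟨a, -, b, -, hab⟩ := hQ.nc
  have h1 : ⁅a, b⁆ ∈ commutator W := by
    rw [_root_.commutator_def]
    exact Subgroup.commutator_mem_commutator trivial trivial
  have h2 : ⁅a, b⁆ ∈ zpowers d.z := d.commutator_le h1
  rcases (mem_zp d.zz).1 h2 with h3 | h3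
  · exact absurd (commutatorElement_eq_one_iff_mul_comm.1 h3) hab
  · rw [zpowers_le, ← h3]
    exact h1

theorem frattini_eq : frattini W = zpowers d.z := by
  haveI hf2 : Fact (Nat.Prime 2) := ⟨Nat.prime_two⟩
  haveI hn : (zpowers d.z).Normal := by
    rw [← d.center_eq]
    infer_instance
  refine le_antisymm ?_ ?_
  · refine Cfsg.Agent.Lib.Transfer.frattini_le_of_elementary d.two _ d.commutator_le ?_
    intro x
    rw [pow_two]
    exact d.sq_all x
  · rw [← d.commutator_eq]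
    exact Cfsg.Agent.Lib.Transfer.commutator_le_frattini d.two

theorem card_zp : Nat.card (zpowers d.z) = 2 := by
  haveI hf2 : Fact (Nat.Prime 2) := ⟨Nat.prime_two⟩
  rw [Nat.card_zpowers]
  exact orderOf_eq_prime (by rw [pow_two]; exact d.zz) d.zne

theorem mem_family {D : Subgroup (MulAut W)} :
    D ∈ Cfsg.Agent.Lib.Hall.cycFamily d.E ↔ D ≤ d.E ∧ Nat.card D = 3 := by
  haveI : Fact (Nat.Prime 3) := ⟨Nat.prime_three⟩
  rw [Cfsg.Agent.Lib.Hall.mem_cycFamily]
  constructor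
  · rintro ⟨x, hx, hx1, rfl⟩
    refine ⟨(zpowers_le).2 hx, ?_⟩
    rw [Nat.card_zpowers]
    exact orderOf_eq_prime (d.exp3 x hx) hx1
  · rintro ⟨h1, c1⟩
    obtain ⟨g, hg, hg1⟩ := exists_ne_one_of_card c1
    refine ⟨g, h1 hg, hg1, ?_⟩
    exact Subgroup.eq_of_le_of_card_ge ((zpowers_le).2 hg)
      (by rw [Nat.card_zpowers, orderOf_eq_prime (d.exp3 g (h1 hg)) hg1, c1])

theorem card_family : (Cfsg.Agent.Lib.Hall.cycFamily d.E).card = 4 :=
  Cfsg.Agent.Lib.Hall.card_cycFamily_of_elementary (p := 3) Nat.prime_three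
    (by rw [d.card9]; norm_num) d.exp3

open Classical in
/-- The subgroups of order `3` whose fixed points are quaternion. -/
noncomputable def idx : Finset (Subgroup (MulAut W)) :=
  (Cfsg.Agent.Lib.Hall.cycFamily d.E).filter (fun D => IsQ8 (fixS D) d.z)

theorem mem_idx {D : Subgroup (MulAut W)} :
    D ∈ d.idx ↔ D ≤ d.E ∧ Nat.card D = 3 ∧ IsQ8 (fixS D) d.z := by
  classical
  simp only [idx, Finset.mem_filter, d.mem_family, and_assoc]

/-- The product of the fixed points of a family of subgroups. -/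
def prodS (S : Finset (Subgroup (MulAut W))) : Subgroup W := zpowers d.z ⊔ ⨆ D ∈ S, fixS D

theorem card_prodS (S : Finset (Subgroup (MulAut W)))
    (hS : ∀ D ∈ S, D ≤ d.E ∧ Nat.card D = 3 ∧ IsQ8 (fixS D) d.z) :
    Nat.card (d.prodS S) = 2 * 4 ^ S.card := by
  classical
  induction S using Finset.induction_on with
  | empty => simp [prodS, d.card_zp]
  | insert D S hD ih =>
    have ih' := ih (fun D' h => hS D' (Finset.mem_insert_of_mem h))
    obtain ⟨h1, c1, hQ⟩ := hS D (Finset.mem_insert_self _ _)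
    have heq : d.prodS (insert D S) = d.prodS S ⊔ fixS D := by
      simp only [prodS]
      rw [Finset.iSup_insert, sup_comm (fixS D), ← sup_assoc]
    have hle : d.prodS S ≤ centralizer (fixS D : Set W) := by
      refine sup_le ?_ (iSup₂_le (fun D' hD' => ?_))
      · rw [zpowers_le]
        exact mem_centralizer_iff.2 (fun y _ => d.zc y)
      · intro u hu
        refine mem_centralizer_iff.2 (fun v hv => ?_)
        obtain ⟨h2, c2, -⟩ := hS D' (Finset.mem_insert_of_mem hD')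
        have hne : D ≠ D' := fun h => hD (h ▸ hD')
        exact d.comm_top h1 c1 h2 c2 hne hv hu
    have hcomm : ∀ u ∈ d.prodS S, ∀ v ∈ fixS D, u * v = v * u := fun u hu v hv =>
      ((mem_centralizer_iff.1 (hle hu)) v hv).symm
    have hinf : d.prodS S ⊓ fixS D = zpowers d.z := by
      refine le_antisymm ?_ (le_inf le_sup_left ((zpowers_le).2 hQ.mem))
      rintro x ⟨hxU, hxV⟩
      rw [mem_zp d.zz]
      by_contra hcon
      push Not at hcon
      obtain ⟨y, hy, hxy⟩ := hQ.not_central hxV hcon.1 hcon.2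
      exact hxy (hcomm x hxU y hy)
    have hf := card_sup_mul_inf_of_comm _ _ hcomm
    rw [hinf, d.card_zp, ih', hQ.card] at hf
    rw [heq, Finset.card_insert_of_notMem hD, pow_succ]
    generalize 4 ^ S.card = t at *
    omega

theorem prodS_top : d.prodS d.idx = ⊤ := by
  rw [eq_top_iff]
  intro x _
  refine d.eq_top_of_fix _ (fun D hD hc => ?_) x
  by_cases hQ : IsQ8 (fixS D) d.z
  · have hm : D ∈ d.idx := d.mem_idx.2 ⟨hD, hc, hQ⟩
    exact le_sup_of_le_right (le_iSup₂_of_le D hm le_rfl)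
  · exact ((d.typ D hD hc).resolve_right hQ).trans le_sup_left

theorem card_W : Nat.card W = 2 * 4 ^ d.idx.card := by
  rw [← Subgroup.card_top (G := W), ← d.prodS_top]
  exact d.card_prodS _ (fun D hD => d.mem_idx.1 hD)

theorem idx_card_le : d.idx.card ≤ 4 := by
  classical
  rw [← d.card_family]
  exact Finset.card_filter_le _ _

theorem idx_card_ge : 2 ≤ d.idx.card := by
  obtain ⟨D₀, h1, c1, hQ⟩ := d.exists_Q8
  have hm : D₀ ∈ d.idx := d.mem_idx.2 ⟨h1, c1, hQ⟩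
  have hpos : 0 < d.idx.card := Finset.card_pos.2 ⟨D₀, hm⟩
  by_contra hcon
  have h1c : d.idx.card = 1 := by omega
  have hW := d.card_W
  rw [h1c] at hW
  have htop : fixS D₀ = ⊤ := Subgroup.eq_top_of_card_eq _ (by rw [hQ.card, hW]; norm_num)
  obtain ⟨g, hg, hg1⟩ := exists_ne_one_of_card c1
  apply hg1
  ext x
  have hx : x ∈ fixS D₀ := by rw [htop]; trivial
  exact hx g hg

theorem exists_two : ∃ D₁ D₂ : Subgroup (MulAut W), D₁ ≠ D₂ ∧
    (D₁ ≤ d.E ∧ Nat.card D₁ = 3 ∧ IsQ8 (fixS D₁) d.z) ∧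
    (D₂ ≤ d.E ∧ Nat.card D₂ = 3 ∧ IsQ8 (fixS D₂) d.z) := by
  obtain ⟨a, ha, b, hb, hab⟩ := Finset.one_lt_card.1 (show 1 < d.idx.card by have := d.idx_card_ge; omega)
  exact ⟨a, b, hab, d.mem_idx.1 ha, d.mem_idx.1 hb⟩

section Big

variable (Eb : Subgroup (MulAut W)) (hle : d.E ≤ Eb) (hcomm : ∀ e ∈ Eb, ∀ f ∈ Eb, e * f = f * e)
  (hodd : ∀ e ∈ Eb, ∃ k : ℕ, e ^ (2 * k + 1) = 1)

include hle hcomm in
theorem e_z_big {h : MulAut W} (hh : h ∈ Eb) : h d.z = d.z := by
  have h1 : ∀ e ∈ d.E, e (h d.z) = h d.z := by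
    intro e he
    have := hcomm e (hle he) h hh
    calc e (h d.z) = (e * h) d.z := rfl
      _ = (h * e) d.z := by rw [this]
      _ = h (e d.z) := rfl
      _ = h d.z := by rw [d.e_z he]
  rcases (d.fixE _).1 h1 with h2 | h2
  · exact absurd (by simpa using h2) d.zne
  · exact h2

include hle hcomm hodd in
theorem align {D : Subgroup (MulAut W)} (hD : D ≤ d.E) (hc : Nat.card D = 3)
    (hQ : IsQ8 (fixS D) d.z) {f : MulAut W} (hf : f ∈ d.E) (hfD : f ∉ D) {x : W} (hx : x ∈ fixS D)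
    (hx1 : x ≠ 1) (hxz : x ≠ d.z) {g : MulAut W} (hg : g ∈ Eb) :
    ∃ i ∈ zpowers f, ∃ h ∈ Eb, g = i * h ∧ ∀ y ∈ fixS D, h y = y := by
  have hgx : g x ∈ fixS D := by
    intro c hc'
    have h1 := hcomm c (hle (hD hc')) g hg
    calc c (g x) = (c * g) x := rfl
      _ = (g * c) x := by rw [h1]
      _ = g (c x) := rfl
      _ = g x := by rw [hx c hc']
  have main : ∀ i ∈ zpowers f, (g x = i x ∨ g x = i x * d.z) →
      ∃ i ∈ zpowers f, ∃ h ∈ Eb, g = i * h ∧ ∀ y ∈ fixS D, h y = y := by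
    intro i hi hcase
    have hiE : i ∈ d.E := ((zpowers_le).2 hf) hi
    have hhE : i⁻¹ * g ∈ Eb := mul_mem (inv_mem (hle hiE)) hg
    have hx0 : (i⁻¹ * g) x = x := by
      obtain ⟨k, hk⟩ := hodd _ hhE
      rcases hcase with e | e
      · rw [MulAut.mul_apply, e, MulAut.inv_apply_self]
      · refine odd_fix hk ?_ (d.e_z_big Eb hle hcomm hhE) d.zz
        rw [MulAut.mul_apply, e, map_mul, MulAut.inv_apply_self, d.e_z (inv_mem hiE)]
    refine ⟨i, hi, i⁻¹ * g, hhE, by group, ?_⟩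
    intro y hy
    have hcomm' : ∀ u ∈ d.E, ∀ v, (i⁻¹ * g) (u v) = u ((i⁻¹ * g) v) := by
      intro u hu v
      have h1 := hcomm u (hle hu) _ hhE
      calc (i⁻¹ * g) (u v) = ((i⁻¹ * g) * u) v := rfl
        _ = (u * (i⁻¹ * g)) v := by rw [h1]
        _ = u ((i⁻¹ * g) v) := rfl
    have hzz := d.e_z_big Eb hle hcomm hhE
    have hf2 : f ^ 2 ∈ d.E := pow_mem hf 2
    rcases d.cover hD hc hf hfD hQ hx hx1 hxz hy with
      rfl | rfl | rfl | rfl | rfl | rfl | rfl | rfl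
    · exact map_one _
    · exact hzz
    · exact hx0
    · rw [map_mul, hx0, hzz]
    · rw [hcomm' f hf, hx0]
    · rw [map_mul, hcomm' f hf, hx0, hzz]
    · rw [hcomm' _ hf2, hx0]
    · rw [map_mul, hcomm' _ hf2, hx0, hzz]
  have hmf : f ∈ zpowers f := mem_zpowers f
  have hmf2 : f ^ 2 ∈ zpowers f := pow_mem hmf 2
  rcases d.cover hD hc hf hfD hQ hx hx1 hxz hgx with h1 | h1 | h1 | h1 | h1 | h1 | h1 | h1
  · exact absurd (by simpa using h1) hx1
  · exfalso
    apply hxz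
    apply g.injective
    rw [h1, d.e_z_big Eb hle hcomm hg]
  · exact main 1 (one_mem _) (Or.inl h1)
  · exact main 1 (one_mem _) (Or.inr h1)
  · exact main f hmf (Or.inl h1)
  · exact main f hmf (Or.inr h1)
  · exact main _ hmf2 (Or.inl h1)
  · exact main _ hmf2 (Or.inr h1)

include hle hcomm hodd in
theorem big_le (hfix : ∀ e ∈ Eb, e ≠ 1 → ∀ x y : W, orderOf x = 2 → orderOf y = 2 → e x = x →
    e y = y → x = y) : Eb ≤ d.E := by
  haveI hf2 : Fact (Nat.Prime 2) := ⟨Nat.prime_two⟩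
  obtain ⟨D₁, D₂, hne, ⟨h1, c1, hQ₁⟩, ⟨h2, c2, hQ₂⟩⟩ := d.exists_two
  intro g hg
  obtain ⟨g₁, hg₁, hg₁1⟩ := exists_ne_one_of_card c1
  have hg₁2 : g₁ ∉ D₂ := fun h => hne (d.eq_of_common h1 c1 h2 c2 hg₁ h hg₁1)
  obtain ⟨f₁, hf₁, hf₁D⟩ : ∃ f ∈ d.E, f ∉ D₁ := by
    by_contra hno
    push Not at hno
    have := Subgroup.card_le_of_le (show d.E ≤ D₁ from hno)
    rw [d.card9, c1] at this
    omega
  -- elements outside `⟨z⟩`
  have hout : ∀ D : Subgroup (MulAut W), IsQ8 (fixS D) d.z → ∃ x ∈ fixS D, x ≠ 1 ∧ x ≠ d.z := by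
    intro D hQ
    obtain ⟨a, ha, b, hb, hab⟩ := hQ.nc
    by_contra hno
    push Not at hno
    apply hab
    by_cases ha1 : a = 1
    · rw [ha1]; simp
    · rw [hno a ha ha1]
      exact (d.zc b).symm
  obtain ⟨x₁, hx₁, hx₁1, hx₁z⟩ := hout D₁ hQ₁
  obtain ⟨x₂, hx₂, hx₂1, hx₂z⟩ := hout D₂ hQ₂
  obtain ⟨i, hi, h₁, hh₁, hgi, hfix₁⟩ :=
    d.align Eb hle hcomm hodd h1 c1 hQ₁ hf₁ hf₁D hx₁ hx₁1 hx₁z hg
  obtain ⟨j, hj, h₂, hh₂, hgj, hfix₂⟩ :=
    d.align Eb hle hcomm hodd h2 c2 hQ₂ (h1 hg₁) hg₁2 hx₂ hx₂1 hx₂z hh₁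
  have hjD : j ∈ D₁ := ((zpowers_le).2 hg₁) hj
  have hiE : i ∈ d.E := ((zpowers_le).2 hf₁) hi
  have hjE : j ∈ d.E := h1 hjD
  -- `h₂` also fixes `Q₁`
  have hfix₁' : h₂ x₁ = x₁ := by
    have e1 : h₁ x₁ = x₁ := hfix₁ x₁ hx₁
    rw [hgj, MulAut.mul_apply] at e1
    have e2 : h₂ x₁ = j⁻¹ x₁ := by
      calc h₂ x₁ = j⁻¹ (j (h₂ x₁)) := (MulAut.inv_apply_self W j _).symm
        _ = j⁻¹ x₁ := by rw [e1]
    rw [e2]
    exact hx₁ j⁻¹ (inv_mem hjD)
  by_cases hh₂1 : h₂ = 1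
  · rw [hgi, hgj, hh₂1, mul_one]
    exact mul_mem hiE hjE
  · exfalso
    have hxx₁ : x₁ * x₁ = d.z := by
      rcases hQ₁.sq_cases hx₁ with h | h | h
      · exact absurd h hx₁1
      · exact absurd h hx₁z
      · exact h
    have hxx₂ : x₂ * x₂ = d.z := by
      rcases hQ₂.sq_cases hx₂ with h | h | h
      · exact absurd h hx₂1
      · exact absurd h hx₂z
      · exact h
    have hcc : x₁ * x₂ = x₂ * x₁ := d.comm_top h1 c1 h2 c2 hne hx₁ hx₂
    have hsq : (x₁ * x₂) ^ 2 = 1 := by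
      rw [pow_two]
      calc x₁ * x₂ * (x₁ * x₂) = x₁ * (x₂ * x₁) * x₂ := by group
        _ = x₁ * (x₁ * x₂) * x₂ := by rw [hcc]
        _ = (x₁ * x₁) * (x₂ * x₂) := by group
        _ = 1 := by rw [hxx₁, hxx₂, d.zz]
    have hbad : ∀ s ∈ zpowers d.z, x₁ * x₂ ≠ s := by
      intro s hs h
      have h3 : x₂ = x₁⁻¹ * s := by rw [← h]; group
      have h4 : g₁ x₂ = x₂ := by
        rw [h3, map_mul, map_inv, hx₁ g₁ hg₁, d.e_s (h1 hg₁) hs]
      exact (d.fix_of_sup h2 c2 (h1 hg₁) hg₁2 hx₂ h4).elim hx₂1 hx₂z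
    have ho : orderOf (x₁ * x₂) = 2 := orderOf_eq_prime hsq (hbad 1 (one_mem _))
    have hoz : orderOf d.z = 2 := orderOf_eq_prime (by rw [pow_two]; exact d.zz) d.zne
    have hfx : h₂ (x₁ * x₂) = x₁ * x₂ := by
      rw [map_mul, hfix₁', hfix₂ x₂ hx₂]
    have := hfix h₂ hh₂ hh₂1 _ _ ho hoz hfx (d.e_z_big Eb hle hcomm hh₂)
    exact hbad d.z (mem_zpowers _) this

end Big

end Dat

end Cfsg.Agent.Lib.PGroup.ExtraQ
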