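import Mathlib

/-!
# Irreducible action of an element of prime order on an elementary abelian group

If `τ` has order `p` on an `F_q`-vector space `V` and acts irreducibly and nontrivially, then
`|V| = q ^ e` where `e` is the multiplicative order of `q` modulo `p`.
-/

set_option autoImplicit false

namespace Cfsg.Agent.Lib.PGroup

open Polynomial

section Field

variable {V : Type*} [AddCommGroup V] {q : ℕ} [hq : Fact q.Prime] [Module (ZMod q) V] [Finite V]

theorem pow_eq_expand (P : (ZMod q)[X]) (k : ℕ) : P ^ q ^ k = expand (ZMod q) (q ^ k) P := by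
  induction k with
  | zero => simp
  | succ k ih =>
    rw [pow_succ, pow_mul, ih, ← ZMod.expand_card, expand_expand, mul_comm]

/-- Upper bound: all elements of `F_q[τ]` satisfy `y ^ N = y`, `F_q[τ]` is a domain. -/
theorem card_le_of_irreducible [Nontrivial V] (τ : Module.End (ZMod q) V) {N k : ℕ} (hN : N = q ^ k)
    (hN1 : 1 < N) (hτN : τ ^ N = τ)
    (hirr : ∀ W : Submodule (ZMod q) V, (∀ w ∈ W, τ w ∈ W) → W = ⊥ ∨ W = ⊤) : Nat.card V ≤ N := by
  classical
  let f : (ZMod q)[X] →ₐ[ZMod q] Module.End (ZMod q) V := aeval τ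
  have hcomm : ∀ P, f P * τ = τ * f P := by
    intro P
    have h1 : f (P * X) = f (X * P) := by rw [mul_comm]
    simpa [f] using h1
  have hinj : ∀ P, f P ≠ 0 → Function.Injective (f P) := by
    intro P hP
    have hker : LinearMap.ker (f P) = ⊥ ∨ LinearMap.ker (f P) = ⊤ := by
      refine hirr _ fun w hw => ?_
      rw [LinearMap.mem_ker] at hw ⊢
      have := congrArg (fun g : Module.End (ZMod q) V => g w) (hcomm P)
      simp only [Module.End.mul_apply, hw, map_zero] at this
      exact this
    rcases hker with h | h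
    · exact LinearMap.ker_eq_bot.1 h
    · exact absurd (LinearMap.ker_eq_top.1 h) hP
  have hpow : ∀ P, (f P) ^ N = f P := by
    intro P
    rw [← map_pow, hN, pow_eq_expand, ← hN]
    show aeval τ (expand (ZMod q) N P) = aeval τ P
    rw [expand_aeval, hτN]
  let g : (ZMod q)[X] →+* Module.End (ZMod q) V := f.toRingHom
  let K := (ZMod q)[X] ⧸ RingHom.ker g
  let ι : K →+* Module.End (ZMod q) V := RingHom.kerLift g
  have hι : Function.Injective ι := RingHom.kerLift_injective g
  have hιmk : ∀ P, ι (Ideal.Quotient.mk _ P) = f P := fun P => rfl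
  haveI : Finite (Module.End (ZMod q) V) :=
    Finite.of_injective (fun g : Module.End (ZMod q) V => (g : V → V)) DFunLike.coe_injective
  haveI : Finite K := Finite.of_injective ι hι
  haveI : Nontrivial K := by
    refine ⟨⟨0, 1, fun h => ?_⟩⟩
    have h1 := congrArg ι h
    rw [map_zero, map_one] at h1
    exact zero_ne_one h1
  haveI : NoZeroDivisors K := by
    refine ⟨fun {x y} hxy => ?_⟩
    obtain ⟨P, rfl⟩ := Ideal.Quotient.mk_surjective x
    obtain ⟨Q, rfl⟩ := Ideal.Quotient.mk_surjective y
    by_cases hx : f P = 0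
    · left
      apply hι
      rw [hιmk, hx, map_zero]
    · right
      apply hι
      rw [map_zero, hιmk]
      ext w
      have h1 := congrArg ι hxy
      rw [map_mul, hιmk, hιmk, map_zero] at h1
      have h2 := congrArg (fun h : Module.End (ZMod q) V => h w) h1
      simp only [Module.End.mul_apply, LinearMap.zero_apply] at h2
      exact hinj P hx (h2.trans (map_zero _).symm)
  haveI : IsDomain K := NoZeroDivisors.to_isDomain K
  haveI : Fintype K := Fintype.ofFinite K
  have hroot : ∀ y : K, y ^ N = y := by
    intro y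
    obtain ⟨P, rfl⟩ := Ideal.Quotient.mk_surjective y
    apply hι
    rw [map_pow, hιmk, hpow]
  have hKcard : Nat.card K ≤ N := by
    have hdeg : (X ^ N - X : K[X]).natDegree = N := by
      rw [natDegree_sub_eq_left_of_natDegree_lt]
      · exact natDegree_X_pow N
      · rw [natDegree_X_pow, natDegree_X]
        exact hN1
    have hne : (X ^ N - X : K[X]) ≠ 0 := by
      refine ne_zero_of_natDegree_gt (n := 0) ?_
      rw [hdeg]
      omega
    have := Polynomial.card_le_degree_of_subset_roots (p := (X ^ N - X : K[X]))
      (Z := Finset.univ) (by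
        intro y _
        rw [mem_roots hne, IsRoot.def]
        simp [hroot y])
    rw [hdeg, Finset.card_univ, ← Nat.card_eq_fintype_card] at this
    exact this
  obtain ⟨a, ha⟩ := exists_ne (0 : V)
  have hsurj : Function.Surjective (fun y : K => ι y a) := by
    let W : Submodule (ZMod q) V := LinearMap.range ((LinearMap.applyₗ a : Module.End (ZMod q) V →ₗ[ZMod q] V).comp f.toLinearMap)
    have hW : W = ⊤ := by
      have hinv : ∀ w ∈ W, τ w ∈ W := by
        rintro _ ⟨P, rfl⟩
        refine ⟨X * P, ?_⟩
        simp [f]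
      rcases hirr W hinv with h | h
      · exfalso
        have : a ∈ W := ⟨1, by simp⟩
        rw [h] at this
        exact ha (Submodule.mem_bot _ |>.1 this)
      · exact h
    intro v
    have : v ∈ W := by rw [hW]; trivial
    obtain ⟨P, hP⟩ := this
    exact ⟨Ideal.Quotient.mk _ P, hP⟩
  exact (Nat.card_le_card_of_surjective _ hsurj).trans hKcard

/-- Additive version without a chosen module structure. -/
theorem card_le_of_irreducible_add {W : Type*} [AddCommGroup W] [Finite W] [Nontrivial W]
    (hexp : ∀ x : W, q • x = 0) (t : W →+ W) {N k : ℕ} (hN : N = q ^ k) (hN1 : 1 < N)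
    (htN : ∀ x, t^[N] x = t x)
    (hirr : ∀ U : AddSubgroup W, (∀ u ∈ U, t u ∈ U) → U = ⊥ ∨ U = ⊤) : Nat.card W ≤ N := by
  letI : Module (ZMod q) W := AddCommGroup.zmodModule hexp
  let τ : Module.End (ZMod q) W := t.toZModLinearMap q
  refine card_le_of_irreducible τ hN hN1 ?_ ?_
  · ext w
    rw [Module.End.pow_apply]
    exact htN w
  · intro U hU
    rcases hirr U.toAddSubgroup hU with h | h
    · left
      rw [Submodule.eq_bot_iff]
      intro w hw
      have : w ∈ U.toAddSubgroup := hw
      rw [h] at this
      exact this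
    · right
      rw [Submodule.eq_top_iff']
      intro w
      have : w ∈ U.toAddSubgroup := by rw [h]; trivial
      exact this

end Field

section Group

variable {A : Type*} [CommGroup A] [Finite A] {p q : ℕ} [hp : Fact p.Prime] [hq : Fact q.Prime]

theorem zmod_pow_order (hpq : q ≠ p) : 0 < orderOf (q : ZMod p) := by
  have h0 : (q : ZMod p) ≠ 0 := by
    intro h
    rw [ZMod.natCast_eq_zero_iff] at h
    exact hpq ((Nat.prime_dvd_prime_iff_eq hp.out hq.out).1 h).symm
  have h1 := ZMod.pow_card_sub_one_eq_one h0
  exact orderOf_pos_iff.2 (isOfFinOrder_iff_pow_eq_one.2 ⟨p - 1, Nat.sub_pos_of_lt hp.out.one_lt, h1⟩)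

/-- **The order of an irreducible module for a group of prime order.** -/
theorem card_eq_of_irreducible (hexp : ∀ a : A, a ^ q = 1) (hpq : q ≠ p) (σ : MulAut A)
    (hσ : σ ^ p = 1) (hne : σ ≠ 1)
    (hirr : ∀ B : Subgroup A, (∀ b ∈ B, σ b ∈ B) → B = ⊥ ∨ B = ⊤) :
    Nat.card A = q ^ orderOf (q : ZMod p) := by
  classical
  have hnt : Nontrivial A := by
    by_contra h
    rw [not_nontrivial_iff_subsingleton] at h
    exact hne (MulEquiv.ext fun a => Subsingleton.elim _ _)
  have he0 := zmod_pow_order (p := p) (q := q) hpq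
  -- lower bound
  have hAq : IsPGroup q A := fun a => ⟨1, by rw [pow_one]; exact hexp a⟩
  obtain ⟨d, hd⟩ : ∃ d, Nat.card A = q ^ d := IsPGroup.iff_card.1 hAq
  let B : Subgroup A :=
    { carrier := {b | σ b = b}
      mul_mem' := fun {x y} hx hy => by
        show σ (x * y) = x * y
        rw [map_mul, show σ x = x from hx, show σ y = y from hy]
      one_mem' := map_one σ
      inv_mem' := fun {x} hx => by
        show σ x⁻¹ = x⁻¹
        rw [map_inv, show σ x = x from hx] }
  have hB : B = ⊥ := by
    rcases hirr B (fun b hb => by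
      show σ (σ b) = σ b
      rw [show σ b = b from hb]
      exact hb) with h | h
    · exact h
    · exfalso
      apply hne
      refine MulEquiv.ext fun a => ?_
      have : a ∈ B := by rw [h]; trivial
      exact this
  have hH : IsPGroup p (Subgroup.zpowers σ) := IsPGroup.of_card (n := 1) (by
    rw [Nat.card_zpowers, orderOf_eq_prime hσ hne, pow_one])
  have hfix : MulAction.fixedPoints (Subgroup.zpowers σ) A = {1} := by
    ext a
    rw [MulAction.mem_fixedPoints, Set.mem_singleton_iff]
    constructor
    · intro h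
      have h1 : σ a = a := h ⟨σ, Subgroup.mem_zpowers σ⟩
      have : a ∈ B := h1
      rw [hB] at this
      exact this
    · rintro rfl h
      exact map_one (h : MulAut A)
  have hmod := hH.card_modEq_card_fixedPoints A
  rw [hfix, hd] at hmod
  have hcard1 : Nat.card ↥({1} : Set A) = 1 := Nat.card_unique
  rw [hcard1] at hmod
  have hz : (q : ZMod p) ^ d = 1 := by
    have := (ZMod.natCast_eq_natCast_iff _ _ p).2 hmod
    simpa using this
  have hdvd : orderOf (q : ZMod p) ∣ d := orderOf_dvd_of_pow_eq_one hz
  have hd0 : d ≠ 0 := by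
    rintro rfl
    rw [pow_zero] at hd
    have := Finite.one_lt_card_iff_nontrivial.2 hnt
    omega
  have hed : orderOf (q : ZMod p) ≤ d := Nat.le_of_dvd (Nat.pos_of_ne_zero hd0) hdvd
  -- upper bound
  obtain ⟨e, he⟩ : ∃ e, e = orderOf (q : ZMod p) := ⟨_, rfl⟩
  rw [← he] at hed he0 ⊢
  obtain ⟨N, hN⟩ : ∃ N, N = q ^ e := ⟨_, rfl⟩
  have hN1 : 1 < N := by
    rw [hN]
    exact Nat.one_lt_pow he0.ne' hq.out.one_lt
  have hNz : (N : ZMod p) = 1 := by
    rw [hN, he]
    push_cast
    exact pow_orderOf_eq_one _
  have hNmod : N % p = 1 % p := by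
    have := (ZMod.natCast_eq_natCast_iff' N 1 p).1 (by simpa using hNz)
    exact this
  have hNe : N = p * (N / p) + 1 := by
    have h1 := Nat.div_add_mod N p
    rw [hNmod, Nat.mod_eq_of_lt hp.out.one_lt] at h1
    exact h1.symm
  have hσN : σ ^ N = σ := by
    rw [hNe, pow_add, pow_mul, hσ, one_pow, one_mul, pow_one]
  have hiter : ∀ (n : ℕ) (a : A), (σ.toMonoidHom.toAdditive)^[n] (Additive.ofMul a) = Additive.ofMul ((σ ^ n) a) := by
    intro n
    induction n with
    | zero => intro a; rfl
    | succ n ih =>
      intro a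
      rw [Function.iterate_succ_apply, pow_succ]
      exact ih (σ a)
  have hle := card_le_of_irreducible_add (W := Additive A) (q := q) (fun x => by
      show Additive.ofMul ((Additive.toMul x) ^ q) = 0
      rw [hexp]
      rfl) (σ.toMonoidHom.toAdditive) hN hN1 (fun x => by
      have := hiter N (Additive.toMul x)
      rw [hσN] at this
      exact this) (by
    intro W hW
    let C : Subgroup A :=
      { carrier := {a | Additive.ofMul a ∈ W}
        mul_mem' := fun {x y} hx hy => W.add_mem hx hy
        one_mem' := W.zero_mem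
        inv_mem' := fun {x} hx => W.neg_mem hx }
    rcases hirr C (fun b hb => hW _ hb) with h | h
    · left
      rw [AddSubgroup.eq_bot_iff_forall]
      intro w hw
      have : Additive.toMul w ∈ C := hw
      rw [h] at this
      have h1 : Additive.toMul w = 1 := this
      exact congrArg Additive.ofMul h1
    · right
      rw [AddSubgroup.eq_top_iff']
      intro w
      have : Additive.toMul w ∈ C := by rw [h]; trivial
      exact this)
  have hcard : Nat.card (Additive A) = Nat.card A := Nat.card_congr Additive.toMul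
  rw [hcard, hd, hN] at hle
  have hde : d ≤ e := (Nat.pow_le_pow_iff_right hq.out.one_lt).1 hle
  rw [hd, le_antisymm hde hed]

end Group

end Cfsg.Agent.Lib.PGroup
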