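import Mathlib
import Cfsg.Agent.Lib.Transfer.Basic
import Cfsg.Agent.Lib.Techniques.SylowIn
import Cfsg.Agent.Lib.PSolv.Basic
import Cfsg.Agent.Lib.PGroup.Sylow

/-!
# Preliminaries for Itô's theorem on three class sizes

Elements of prime power order, centralizers of conjugates, and some elementary
counting facts.
-/

set_option autoImplicit false

namespace Cfsg.Agent.Lib.PGroup.Ito

open Subgroup

section Basic

variable {G : Type*} [Group G]

/-- `x` is an `s`-element. -/
def PE (s : ℕ) (x : G) : Prop := ∃ k : ℕ, x ^ s ^ k = 1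

theorem PE.one (s : ℕ) : PE s (1 : G) := ⟨0, by simp⟩

theorem PE.conj {s : ℕ} {x : G} (h : PE s x) (g : G) : PE s (g * x * g⁻¹) := by
  obtain ⟨k, hk⟩ := h
  exact ⟨k, by rw [conj_pow, hk]; group⟩

theorem PE.of_conj {s : ℕ} {x : G} {g : G} (h : PE s (g * x * g⁻¹)) : PE s x := by
  have := h.conj g⁻¹
  have e : g⁻¹ * (g * x * g⁻¹) * g⁻¹⁻¹ = x := by group
  rwa [e] at this

theorem PE.pow {s : ℕ} {x : G} (h : PE s x) (n : ℕ) : PE s (x ^ n) := by
  obtain ⟨k, hk⟩ := h
  exact ⟨k, by rw [← pow_mul, mul_comm, pow_mul, hk, one_pow]⟩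

theorem PE.inv {s : ℕ} {x : G} (h : PE s x) : PE s x⁻¹ := by
  obtain ⟨k, hk⟩ := h
  exact ⟨k, by rw [inv_pow, hk, inv_one]⟩

theorem PE.mul {s : ℕ} {x y : G} (hc : x * y = y * x) (hx : PE s x) (hy : PE s y) : PE s (x * y) := by
  obtain ⟨k, hk⟩ := hx
  obtain ⟨l, hl⟩ := hy
  refine ⟨k + l, ?_⟩
  have hcomm : Commute x y := hc
  rw [hcomm.mul_pow, pow_add]
  rw [pow_mul x, hk, one_pow, mul_comm (s ^ k), pow_mul y, hl, one_pow, one_mul]

theorem PE.map {s : ℕ} {x : G} {H : Type*} [Group H] (f : G →* H) (h : PE s x) : PE s (f x) := by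
  obtain ⟨k, hk⟩ := h
  exact ⟨k, by rw [← map_pow, hk, map_one]⟩

theorem PE.of_subgroup {s : ℕ} {X : Subgroup G} {x : X} (h : PE s (x : G)) : PE s x := by
  obtain ⟨k, hk⟩ := h
  exact ⟨k, Subtype.ext (by simpa using hk)⟩

theorem PE.coe {s : ℕ} {X : Subgroup G} {x : X} (h : PE s x) : PE s (x : G) := h.map X.subtype

theorem PE.orderOf_eq {s : ℕ} (hs : s.Prime) {x : G} (h : PE s x) : ∃ j, orderOf x = s ^ j := by
  obtain ⟨k, hk⟩ := h
  obtain ⟨j, -, hj⟩ := (Nat.dvd_prime_pow hs).mp (orderOf_dvd_of_pow_eq_one hk)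
  exact ⟨j, hj⟩

theorem PE.coprime {s t : ℕ} (hs : s.Prime) (ht : t.Prime) (hst : s ≠ t) {x : G} (h : PE s x) :
    (orderOf x).Coprime t := by
  obtain ⟨j, hj⟩ := h.orderOf_eq hs
  rw [hj]
  exact Nat.Coprime.pow_left _ ((Nat.coprime_primes hs ht).mpr hst)

theorem PE.coprime_orderOf {s t : ℕ} (hs : s.Prime) (ht : t.Prime) (hst : s ≠ t) {x y : G} (h : PE s x)
    (h' : PE t y) : (orderOf x).Coprime (orderOf y) := by
  obtain ⟨j, hj⟩ := h'.orderOf_eq ht
  rw [hj]
  exact Nat.Coprime.pow_right _ (h.coprime hs ht hst)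

theorem PE.eq_one_of_coprime {s t : ℕ} (hs : s.Prime) (ht : t.Prime) (hst : s ≠ t) {x : G} (h : PE s x)
    (h' : PE t x) : x = 1 := by
  have := h.coprime_orderOf hs ht hst h'
  rw [Nat.coprime_self] at this
  exact orderOf_eq_one_iff.mp this

theorem PE.of_mem_isPGroup {s : ℕ} {P : Subgroup G} (hP : IsPGroup s P) {x : G} (hx : x ∈ P) : PE s x := by
  obtain ⟨k, hk⟩ := hP ⟨x, hx⟩
  exact ⟨k, by simpa using congrArg Subtype.val hk⟩

theorem PE.of_isPGroup {s : ℕ} (hP : IsPGroup s G) (x : G) : PE s x := hP x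

/-- The subgroup generated by a commuting s-element is an s-group. -/
theorem PE.isPGroup_zpowers {s : ℕ} {x : G} (hs : s.Prime) (h : PE s x) : IsPGroup s (zpowers x) := by
  obtain ⟨k, hk⟩ := h
  rintro ⟨g, hg⟩
  obtain ⟨n, rfl⟩ := mem_zpowers_iff.mp hg
  refine ⟨k, Subtype.ext ?_⟩
  show (x ^ n) ^ s ^ k = 1
  rw [← zpow_natCast, ← zpow_mul, mul_comm, zpow_mul, zpow_natCast, hk, one_zpow]

/-- Commuting elements of coprime order: `x` is a power of `x * y`. -/
theorem mem_zpowers_mul_of_coprime {x y : G} (hc : x * y = y * x)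
    (hcop : (orderOf x).Coprime (orderOf y)) : x ∈ zpowers (x * y) := by
  obtain ⟨k, hk1, hk2⟩ := Nat.chineseRemainder hcop 1 0
  have hcomm : Commute x y := hc
  have e : (x * y) ^ k = x := by
    rw [hcomm.mul_pow]
    have h1 : x ^ k = x ^ 1 := (pow_eq_pow_iff_modEq).mpr hk1
    have h2 : y ^ k = y ^ 0 := (pow_eq_pow_iff_modEq).mpr hk2
    rw [h1, h2]; simp
  have h3 : (x * y) ^ k ∈ zpowers (x * y) := npow_mem_zpowers (x * y) k
  rwa [e] at h3

theorem mem_zpowers_mul_of_coprime' {x y : G} (hc : x * y = y * x)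
    (hcop : (orderOf x).Coprime (orderOf y)) : y ∈ zpowers (x * y) := by
  have := mem_zpowers_mul_of_coprime (x := y) (y := x) hc.symm hcop.symm
  rwa [← hc] at this

/-- Centralizer of a single element. -/
abbrev C (x : G) : Subgroup G := centralizer ({x} : Set G)

theorem mem_C {x g : G} : g ∈ C x ↔ g * x = x * g := mem_centralizer_singleton_iff

theorem self_mem_C (x : G) : x ∈ C x := mem_C.mpr rfl

theorem comm_mem_C {x g : G} (h : g ∈ C x) : x ∈ C g := mem_C.mpr (mem_C.mp h).symm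

theorem C_le_C_of_mem_zpowers {x y : G} (h : y ∈ zpowers x) : C x ≤ C y := by
  intro g hg
  obtain ⟨k, rfl⟩ := mem_zpowers_iff.mp h
  rw [mem_C] at hg ⊢
  have hcomm : Commute g x := hg
  exact hcomm.zpow_right k

theorem center_le_C (x : G) : center G ≤ C x := by
  intro z hz
  exact mem_C.mpr (mem_center_iff.mp hz x).symm

theorem C_eq_top_iff {x : G} : C x = ⊤ ↔ x ∈ center G := by
  constructor
  · intro h
    rw [mem_center_iff]
    intro g
    have : g ∈ C x := h ▸ mem_top g
    exact mem_C.mp this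
  · intro h
    rw [eq_top_iff]
    intro g _
    exact mem_C.mpr (mem_center_iff.mp h g)

theorem not_mem_center_of_C_ne_top {x : G} (h : C x ≠ ⊤) : x ∉ center G := fun hx => h (C_eq_top_iff.mpr hx)

/-- Conjugation moves centralizers. -/
theorem mem_C_conj {x g y : G} : y ∈ C (g * x * g⁻¹) ↔ g⁻¹ * y * g ∈ C x := by
  rw [mem_C, mem_C]
  constructor
  · intro h
    have : g⁻¹ * y * g * x = g⁻¹ * (y * (g * x * g⁻¹)) * g := by group
    rw [this, h]; group
  · intro h
    have : y * (g * x * g⁻¹) = g * (g⁻¹ * y * g * x) * g⁻¹ := by group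
    rw [this, h]; group

open Cfsg.Agent.Lib.Techniques in
theorem C_conj (x g : G) : C (g * x * g⁻¹) = conjS g (C x) := by
  ext y
  rw [mem_C_conj, mem_conjS]

open Cfsg.Agent.Lib.Techniques in
/-- Conjugate subgroups have the same index. -/
theorem index_conjS (g : G) (T : Subgroup G) : (conjS g T).index = T.index := by
  have : conjS g T = T.map (MulAut.conj g).toMonoidHom := rfl
  rw [this]
  exact Subgroup.index_map_of_bijective (MulAut.conj g).bijective T

theorem index_C_conj (x g : G) : (C (g * x * g⁻¹)).index = (C x).index := by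
  rw [C_conj]; exact index_conjS g _

theorem conj_not_mem_center {x : G} (hx : x ∉ center G) (g : G) : g * x * g⁻¹ ∉ center G := by
  intro h
  apply hx
  have : g⁻¹ * (g * x * g⁻¹) * g = x := by group
  rw [← this]
  have hc := mem_center_iff.mp h g
  have e : g⁻¹ * (g * x * g⁻¹) * g = g * x * g⁻¹ := by
    have : g⁻¹ * (g * x * g⁻¹) * g = g⁻¹ * ((g * x * g⁻¹) * g) := by group
    rw [this, ← hc]; group
  rw [e]; exact h

theorem mem_normalizer_of_C_conj_eq {x g : G} (h : C (g * x * g⁻¹) = C x) : g ∈ normalizer (C x : Subgroup G) := by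
  rw [mem_normalizer_iff]
  intro y
  have h1 : g * y * g⁻¹ ∈ C x ↔ g * y * g⁻¹ ∈ C (g * x * g⁻¹) := by rw [h]
  rw [h1, mem_C_conj]
  have e : g⁻¹ * (g * y * g⁻¹) * g = y := by group
  rw [e]

end Basic

section Finite

variable {G : Type*} [Group G] [Finite G]

/-- Primary decomposition at one prime. -/
theorem parts {s : ℕ} (hs : s.Prime) (x : G) :
    ∃ a b : G, x = a * b ∧ a * b = b * a ∧ PE s a ∧ (orderOf b).Coprime s ∧ a ∈ zpowers x ∧ b ∈ zpowers x := by
  have : Fact s.Prime := ⟨hs⟩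
  obtain ⟨a, b, h1, h2, ⟨k, hk⟩, h4, h5, h6⟩ := Cfsg.Agent.Lib.Transfer.exists_parts hs x
  exact ⟨a, b, h1, h2, ⟨k, hk⟩, h4, h5, h6⟩

/-- If `x ∉ W` then some primary part of `x` is not in `W`. -/
theorem exists_primary_not_mem (W : Subgroup G) : ∀ (n : ℕ) (x : G), orderOf x = n → x ∉ W →
    ∃ (s : ℕ) (y : G), s.Prime ∧ y ∈ zpowers x ∧ PE s y ∧ y ∉ W := by
  intro n
  induction n using Nat.strong_induction_on with
  | _ n ih =>
    intro x hn hx
    have hn0 : 0 < orderOf x := orderOf_pos x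
    have hn1 : orderOf x ≠ 1 := by
      intro h
      rw [orderOf_eq_one_iff] at h
      exact hx (h ▸ W.one_mem)
    obtain ⟨s, hs, hsd⟩ := Nat.exists_prime_and_dvd hn1
    obtain ⟨a, b, h1, h2, h3, h4, h5, h6⟩ := parts hs x
    by_cases ha : a ∈ W
    · have hb : b ∉ W := by
        intro hb
        apply hx
        rw [h1]
        exact W.mul_mem ha hb
      have hlt : orderOf b < n := by
        rw [← hn]
        have hbd : orderOf b ∣ orderOf x := orderOf_dvd_of_mem_zpowers h6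
        have hne : orderOf b ≠ orderOf x := by
          intro he
          have : s ∣ orderOf b := he ▸ hsd
          have hg := h4
          rw [Nat.coprime_iff_gcd_eq_one] at hg
          have : s ∣ 1 := by
            rw [← hg]
            exact Nat.dvd_gcd this (dvd_refl s)
          exact hs.one_lt.ne' (Nat.dvd_one.mp this)
        exact lt_of_le_of_ne (Nat.le_of_dvd hn0 hbd) hne
      obtain ⟨t, y, ht, hy, hyp, hyW⟩ := ih _ hlt b rfl hb
      refine ⟨t, y, ht, ?_, hyp, hyW⟩
      exact (zpowers_le.mpr h6) hy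
    · exact ⟨s, a, hs, h5, h3, ha⟩

theorem exists_primary_not_mem' (W : Subgroup G) {x : G} (hx : x ∉ W) :
    ∃ (s : ℕ) (y : G), s.Prime ∧ y ∈ zpowers x ∧ PE s y ∧ y ∉ W :=
  exists_primary_not_mem W _ x rfl hx

/-- Cauchy for a relative index. -/
theorem exists_primary_of_dvd_relIndex {X W : Subgroup G} (hWX : W ≤ X) {l : ℕ} (hl : l.Prime)
    (hd : l ∣ W.relIndex X) : ∃ x ∈ X, PE l x ∧ x ∉ W := by
  have : Fact l.Prime := ⟨hl⟩
  obtain ⟨P⟩ : Nonempty (Sylow l X) := inferInstance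
  by_contra hno
  push Not at hno
  have hle : (P : Subgroup X) ≤ W.subgroupOf X := by
    intro y hy
    rw [mem_subgroupOf]
    apply hno _ y.2
    have := PE.of_mem_isPGroup P.isPGroup' hy
    exact this.coe
  have h1 : W.relIndex X ∣ (P : Subgroup X).index := index_dvd_of_le hle
  exact P.not_dvd_index (hd.trans h1)

/-- A primary element outside a normal subgroup forces the prime into the index. -/
theorem dvd_relIndex_of_primary {X W : Subgroup G} [hn : (W.subgroupOf X).Normal] {l : ℕ} (hl : l.Prime)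
    {x : G} (hxX : x ∈ X) (hxW : x ∉ W) (hxp : PE l x) : l ∣ W.relIndex X := by
  have : Fact l.Prime := ⟨hl⟩
  let q : X →* X ⧸ W.subgroupOf X := QuotientGroup.mk' (W.subgroupOf X)
  have hne : q ⟨x, hxX⟩ ≠ 1 := by
    intro h
    have := (QuotientGroup.eq_one_iff _).mp h
    rw [mem_subgroupOf] at this
    exact hxW this
  have hp : PE l (q ⟨x, hxX⟩) := (PE.of_subgroup (X := X) (x := ⟨x, hxX⟩) hxp).map q
  obtain ⟨j, hj⟩ := hp.orderOf_eq hl
  have hj0 : j ≠ 0 := by
    rintro rfl
    rw [pow_zero, orderOf_eq_one_iff] at hj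
    exact hne hj
  have h1 : l ∣ orderOf (q ⟨x, hxX⟩) := by rw [hj]; exact dvd_pow_self l hj0
  have h2 : orderOf (q ⟨x, hxX⟩) ∣ Nat.card (X ⧸ W.subgroupOf X) := orderOf_dvd_natCard _
  have h3 : Nat.card (X ⧸ W.subgroupOf X) = W.relIndex X := rfl
  rw [← h3]
  exact h1.trans h2

/-- Same, for a central subgroup. -/
theorem dvd_relIndex_center {X : Subgroup G} {l : ℕ} (hl : l.Prime) {x : G} (hxX : x ∈ X) (hxW : x ∉ center G)
    (hxp : PE l x) : l ∣ (center G).relIndex X := by
  haveI : ((center G).subgroupOf X).Normal := by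
    infer_instance
  exact dvd_relIndex_of_primary hl hxX hxW hxp

/-- A primary element is conjugate into any subgroup of index prime to the prime. -/
theorem exists_conj_mem {X : Subgroup G} {l : ℕ} (hl : l.Prime) {f : G} (hf : PE l f) (hX : ¬ l ∣ X.index) :
    ∃ g : G, g * f * g⁻¹ ∈ X := by
  have : Fact l.Prime := ⟨hl⟩
  obtain ⟨P, hP⟩ := Cfsg.Agent.Lib.PSolv.exists_sylow_le_of_not_dvd_index hX
  have hpg := hf.isPGroup_zpowers hl
  obtain ⟨S, hS⟩ := hpg.exists_le_sylow
  obtain ⟨g, hg⟩ := MulAction.exists_smul_eq G S P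
  refine ⟨g, hP ?_⟩
  have hf' : f ∈ (S : Subgroup G) := hS (mem_zpowers f)
  rw [← hg, Sylow.smul_def, Sylow.pointwise_smul_def]
  exact ⟨f, hf', rfl⟩

/-- Jordan's lemma: a group is not a union of conjugates of a proper subgroup. -/
theorem eq_top_of_forall_conj_mem (X : Subgroup G) (h : ∀ x : G, ∃ g : G, g * x * g⁻¹ ∈ X) : X = ⊤ := by
  classical
  by_contra hne
  have : Fintype G := Fintype.ofFinite G
  -- count: the map `(G ⧸ X) × X → G`, `(c, x) ↦ out c * x * (out c)⁻¹` is onto, and misses injectivity at `1`.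
  let φ : (G ⧸ X) × ↥X → G := fun p => (p.1.out) * (p.2 : G) * (p.1.out)⁻¹
  have hsurj : Function.Surjective φ := by
    intro x
    obtain ⟨g, hg⟩ := h x
    let c : G ⧸ X := QuotientGroup.mk g⁻¹
    have hc : c.out⁻¹ * g⁻¹ ∈ X := by
      have : (QuotientGroup.mk c.out : G ⧸ X) = QuotientGroup.mk g⁻¹ := by
        rw [QuotientGroup.out_eq']
      exact QuotientGroup.eq.mp this
    refine ⟨(c, ⟨(c.out⁻¹ * g⁻¹) * (g * x * g⁻¹) * (c.out⁻¹ * g⁻¹)⁻¹, X.mul_mem (X.mul_mem hc hg) (X.inv_mem hc)⟩), ?_⟩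
    show c.out * ((c.out⁻¹ * g⁻¹) * (g * x * g⁻¹) * (c.out⁻¹ * g⁻¹)⁻¹) * c.out⁻¹ = x
    group
  have hidx : 1 < X.index := by
    have hi0 : X.index ≠ 0 := index_ne_zero_of_finite
    have hi1 : X.index ≠ 1 := fun h1 => hne (index_eq_one.mp h1)
    omega
  -- all pairs `(c, 1)` map to `1`
  have hcard : Nat.card G ≤ X.index * (Nat.card X - 1) + 1 := by
    let E : Set G := Set.univ
    have hX1 : 0 < Nat.card X := Nat.card_pos
    classical
    let A : Finset ((G ⧸ X) × ↥X) := (Finset.univ : Finset ((G ⧸ X) × ↥X)).filter (fun p => (p.2 : G) ≠ 1)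
    have : (Finset.univ : Finset G) ⊆ insert 1 (A.image φ) := by
      intro x _
      by_cases hx : x = 1
      · simp [hx]
      · obtain ⟨p, hp⟩ := hsurj x
        refine Finset.mem_insert_of_mem (Finset.mem_image.mpr ⟨p, ?_, hp⟩)
        rw [Finset.mem_filter]
        refine ⟨Finset.mem_univ _, ?_⟩
        intro hp1
        apply hx
        rw [← hp]
        show p.1.out * (p.2 : G) * (p.1.out)⁻¹ = 1
        rw [hp1]; group
    have h1 := Finset.card_le_card this
    have h2 : (insert 1 (A.image φ)).card ≤ (A.image φ).card + 1 := Finset.card_insert_le _ _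
    have h3 : (A.image φ).card ≤ A.card := Finset.card_image_le
    have h4 : A.card = X.index * (Nat.card X - 1) := by
      have : A = (Finset.univ : Finset (G ⧸ X)) ×ˢ ((Finset.univ : Finset ↥X).filter (fun p : ↥X => (p : G) ≠ 1)) := by
        ext p
        simp [A]
      rw [this, Finset.card_product]
      have e1 : (Finset.univ : Finset (G ⧸ X)).card = X.index := by
        rw [Finset.card_univ, ← Nat.card_eq_fintype_card]; rfl
      have e2 : ((Finset.univ : Finset ↥X).filter (fun p : ↥X => (p : G) ≠ 1)).card = Nat.card X - 1 := by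
        have : ((Finset.univ : Finset ↥X).filter (fun p : ↥X => (p : G) ≠ 1)) = (Finset.univ : Finset ↥X).erase 1 := by
          ext p
          simp only [Finset.mem_filter, Finset.mem_univ, true_and, Finset.mem_erase, and_true, ne_eq,
            OneMemClass.coe_eq_one]
        rw [this, Finset.card_erase_of_mem (Finset.mem_univ _), Finset.card_univ, Nat.card_eq_fintype_card]
      rw [e1, e2]
    have h5 : (Finset.univ : Finset G).card = Nat.card G := by
      rw [Finset.card_univ, Nat.card_eq_fintype_card]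
    omega
  have hmul : X.index * Nat.card X = Nat.card G := by
    rw [mul_comm]; exact card_mul_index X
  have hX1 : 0 < Nat.card X := Nat.card_pos
  obtain ⟨m, hm⟩ : ∃ m, Nat.card X = m + 1 := ⟨Nat.card X - 1, by omega⟩
  rw [hm] at hmul hcard
  simp only [Nat.add_sub_cancel] at hcard
  nlinarith

/-- Upper central elements in an `s`-subgroup not contained in the centre. -/
theorem exists_upper {s : ℕ} (hs : s.Prime) {P : Subgroup G} (hP : IsPGroup s P) (hne : ¬ P ≤ center G) :
    ∃ v ∈ P, v ∉ center G ∧ ∀ c ∈ P, v * c * v⁻¹ * c⁻¹ ∈ center G := by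
  classical
  have : Fact s.Prime := ⟨hs⟩
  let W : Subgroup P := (center G).subgroupOf P
  haveI : W.Normal := by
    show ((center G).subgroupOf P).Normal
    infer_instance
  have hWne : W ≠ ⊤ := by
    intro h
    apply hne
    intro x hx
    have : (⟨x, hx⟩ : P) ∈ W := h ▸ mem_top _
    exact this
  haveI : Nontrivial (P ⧸ W) := by
    apply QuotientGroup.nontrivial_iff.mpr hWne
  have hq : IsPGroup s (P ⧸ W) := hP.to_quotient W
  have hc := hq.center_nontrivial
  obtain ⟨z, hz, hz1⟩ := (Subgroup.nontrivial_iff_exists_ne_one _).mp hc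
  obtain ⟨v, rfl⟩ := QuotientGroup.mk_surjective z
  refine ⟨v, v.2, ?_, ?_⟩
  · intro hv
    apply hz1
    rw [QuotientGroup.eq_one_iff]
    exact hv
  · intro c hc
    have h1 := mem_center_iff.mp hz (QuotientGroup.mk ⟨c, hc⟩)
    have h2 : ((QuotientGroup.mk (⟨c, hc⟩ * v) : P ⧸ W)) = QuotientGroup.mk (v * ⟨c, hc⟩) := by
      simpa using h1
    have h3 := QuotientGroup.eq.mp h2
    -- `(cv)⁻¹ (vc) ∈ Z`, i.e. `v⁻¹ c⁻¹ v c ∈ Z`; then conjugate.
    have h4 : (v : G)⁻¹ * c⁻¹ * v * c ∈ center G := by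
      have h5 : ((⟨c, hc⟩ * v)⁻¹ * (v * ⟨c, hc⟩) : P) ∈ W := h3
      have h6 := mem_subgroupOf.mp h5
      have e : (((⟨c, hc⟩ * v)⁻¹ * (v * ⟨c, hc⟩) : P) : G) = (v : G)⁻¹ * c⁻¹ * v * c := by
        simp [mul_assoc]
      rwa [e] at h6
    have hN : (center G).Normal := inferInstance
    have h7 := hN.conj_mem _ h4 (v * c)
    have e : (v : G) * c * ((v : G)⁻¹ * c⁻¹ * v * c) * ((v : G) * c)⁻¹ = v * c * (v : G)⁻¹ * c⁻¹ := by group
    rwa [e] at h7

theorem eq_of_le_of_index_eq {A B : Subgroup G} (hAB : A ≤ B) (h : A.index = B.index) : A = B := by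
  have h1 := relIndex_mul_index hAB
  have h0 : B.index ≠ 0 := index_ne_zero_of_finite
  rw [h] at h1
  have h2 : A.relIndex B = 1 := by
    exact Nat.eq_of_mul_eq_mul_right (Nat.pos_of_ne_zero h0) (by rw [h1, one_mul])
  exact le_antisymm hAB (relIndex_eq_one.mp h2)

end Finite

end Cfsg.Agent.Lib.PGroup.Ito
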