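import Mathlib
import Cfsg.Agent.Lib.PGroup.Meta

/-!
# Metacyclic `p`-groups for odd `p`: the symplectic coordinates
-/

set_option autoImplicit false

namespace Cfsg.Agent.Lib.PGroup.Meta

open Cfsg
open scoped commutatorElement

universe u

noncomputable section

section Duality

variable {p n : ℕ} [hp : Fact p.Prime]

/-- The coordinate module. -/
abbrev VV (p n : ℕ) : Type := ZMod (p ^ n) × ZMod (p ^ n)

instance neZeroPow : NeZero (p ^ n) := ⟨pow_ne_zero _ hp.out.ne_zero⟩

/-- The symplectic form. -/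
def om (v w : VV p n) : ZMod (p ^ n) := v.1 * w.2 - w.1 * v.2

theorem om_add_left (v v' w : VV p n) : om (v + v') w = om v w + om v' w := by
  simp only [om, Prod.fst_add, Prod.snd_add]
  ring

theorem om_add_right (v w w' : VV p n) : om v (w + w') = om v w + om v w' := by
  simp only [om, Prod.fst_add, Prod.snd_add]
  ring

theorem om_zero_left (w : VV p n) : om 0 w = 0 := by
  simp [om]

theorem om_zero_right (v : VV p n) : om v 0 = 0 := by
  simp [om]

theorem om_comm (v w : VV p n) : om v w = - om w v := by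
  simp only [om]
  ring

theorem eq_zero_of_om_right (v : VV p n) (h : ∀ w, om w v = 0) : v = 0 := by
  have h1 := h (1, 0)
  have h2 := h (0, 1)
  simp only [om] at h1 h2
  ext
  · simpa using h2
  · simpa using h1

/-- The orthogonal complement. -/
def perp (A : AddSubgroup (VV p n)) : AddSubgroup (VV p n) where
  carrier := {v | ∀ w ∈ A, om v w = 0}
  zero_mem' := fun w _ => om_zero_left w
  add_mem' := by
    intro v v' hv hv' w hw
    rw [om_add_left, hv w hw, hv' w hw, add_zero]
  neg_mem' := by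
    intro v hv w hw
    have h0 : om (v + -v) w = 0 := by
      rw [add_neg_cancel, om_zero_left]
    rw [om_add_left, hv w hw, zero_add] at h0
    exact h0

theorem mem_perp {A : AddSubgroup (VV p n)} {v : VV p n} : v ∈ perp A ↔ ∀ w ∈ A, om v w = 0 :=
  Iff.rfl

open scoped BigOperators in
/-- Duality. -/
theorem card_mul_card_perp (A : AddSubgroup (VV p n)) :
    Nat.card A * Nat.card (perp A) = Nat.card (VV p n) := by
  classical
  letI : Fintype A := Fintype.ofFinite _
  letI : Fintype (perp A) := Fintype.ofFinite _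
  let ψ : AddChar (ZMod (p ^ n)) ℂ := ZMod.stdAddChar
  have hψ : Function.Injective ψ := ZMod.injective_stdAddChar
  have hψ0 : ∀ x, ψ x = 1 ↔ x = 0 := by
    intro x
    rw [← ψ.map_zero_eq_one, hψ.eq_iff]
  -- characters of `A`
  let χ₁ : VV p n → AddChar A ℂ := fun v =>
    { toFun := fun a => ψ (om v a)
      map_zero_eq_one' := by
        show ψ (om v 0) = 1
        rw [om_zero_right, ψ.map_zero_eq_one]
      map_add_eq_mul' := by
        intro a a'
        show ψ (om v (a + a')) = _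
        rw [om_add_right, ψ.map_add_eq_mul] }
  let χ₂ : VV p n → AddChar (VV p n) ℂ := fun a =>
    { toFun := fun v => ψ (om v a)
      map_zero_eq_one' := by
        show ψ (om 0 a) = 1
        rw [om_zero_left, ψ.map_zero_eq_one]
      map_add_eq_mul' := by
        intro v v'
        show ψ (om (v + v') a) = _
        rw [om_add_left, ψ.map_add_eq_mul] }
  have key1 : ∀ v, ∑ a : A, ψ (om v a) = if v ∈ perp A then (Fintype.card A : ℂ) else 0 := by
    intro v
    have := (χ₁ v).sum_eq_ite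
    have e : ∀ a : A, (χ₁ v) a = ψ (om v a) := fun _ => rfl
    simp only [e] at this
    rw [this]
    congr 1
    apply propext
    constructor
    · intro h w hw
      have h1 : (χ₁ v) ⟨w, hw⟩ = 1 := by rw [h]; rfl
      exact (hψ0 _).mp h1
    · intro h
      ext a
      have h1 : om v (a : VV p n) = 0 := h a a.2
      show ψ (om v a) = 1
      rw [h1, ψ.map_zero_eq_one]
  have key2 : ∀ a : VV p n, ∑ v : VV p n, ψ (om v a) =
      if a = 0 then (Fintype.card (VV p n) : ℂ) else 0 := by
    intro a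
    have := (χ₂ a).sum_eq_ite
    have e : ∀ v : VV p n, (χ₂ a) v = ψ (om v a) := fun _ => rfl
    simp only [e] at this
    rw [this]
    congr 1
    apply propext
    constructor
    · intro h
      apply eq_zero_of_om_right
      intro w
      have h1 : (χ₂ a) w = 1 := by rw [h]; rfl
      exact (hψ0 _).mp h1
    · intro h
      subst h
      ext v
      show ψ (om v 0) = 1
      rw [om_zero_right, ψ.map_zero_eq_one]
  have hsum : ∑ v : VV p n, ∑ a : A, ψ (om v a) = ∑ a : A, ∑ v : VV p n, ψ (om v a) :=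
    Finset.sum_comm
  simp only [key1, key2] at hsum
  have hL : ∑ v : VV p n, (if v ∈ perp A then (Fintype.card A : ℂ) else 0) =
      (Fintype.card (perp A) : ℂ) * (Fintype.card A : ℂ) := by
    rw [Finset.sum_ite, Finset.sum_const_zero, add_zero, Finset.sum_const, nsmul_eq_mul]
    congr 2
    rw [Fintype.card_subtype]
  have hR : ∑ a : A, (if (a : VV p n) = 0 then (Fintype.card (VV p n) : ℂ) else 0) =
      (Fintype.card (VV p n) : ℂ) := by
    rw [Finset.sum_eq_single (0 : A)]
    · simp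
    · intro b _ hb
      rw [if_neg]
      intro h0
      exact hb (Subtype.ext h0)
    · simp
  rw [hL, hR] at hsum
  have h3 : Fintype.card (perp A) * Fintype.card A = Fintype.card (VV p n) := by
    exact_mod_cast hsum
  rw [Nat.card_eq_fintype_card, Nat.card_eq_fintype_card, Nat.card_eq_fintype_card, mul_comm]
  exact h3

theorem card_VV : Nat.card (VV p n) = p ^ (2 * n) := by
  rw [Nat.card_prod, Nat.card_zmod, two_mul, pow_add]

end Duality

section SC

variable {p n : ℕ} [hp : Fact p.Prime] {G : Type*} [Group G]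

/-- Abstract coordinates on `G` modulo its centre. -/
structure SC (Θ : G → VV p n) (U : G → ℕ) : Prop where
  surj : Function.Surjective Θ
  coc : ∀ x y, Θ (x * y) = Θ x + (U x : ZMod (p ^ n)) • Θ y
  comm : ∀ x y, x * y = y * x ↔ om (Θ x) (Θ y) = 0
  U_mod : ∀ g, U g ≡ 1 [MOD p]
  U_pos : ∀ g, 1 ≤ U g

variable {Θ : G → VV p n} {U : G → ℕ}

namespace SC

theorem coprime_U (h : SC Θ U) (g : G) : Nat.Coprime (U g) (p ^ n) := by
  apply Nat.Coprime.pow_right
  rw [Nat.coprime_comm, Nat.Prime.coprime_iff_not_dvd hp.out]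
  intro hd
  have h1 : U g % p = 1 % p := h.U_mod g
  have h2 : U g % p = 0 := Nat.mod_eq_zero_of_dvd hd
  rw [h2, Nat.mod_eq_of_lt hp.out.one_lt] at h1
  omega

theorem isUnit_U (h : SC Θ U) (g : G) : IsUnit (U g : ZMod (p ^ n)) :=
  (ZMod.isUnit_iff_coprime _ _).mpr (h.coprime_U g)

theorem smul_cancel (h : SC Θ U) (g : G) {v w : VV p n}
    (e : (U g : ZMod (p ^ n)) • v = (U g : ZMod (p ^ n)) • w) : v = w := by
  exact (h.isUnit_U g).smul_left_cancel.mp e

theorem theta_one (h : SC Θ U) : Θ 1 = 0 := by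
  have h1 := h.coc 1 1
  rw [mul_one] at h1
  have h2 : (U 1 : ZMod (p ^ n)) • Θ 1 = (U 1 : ZMod (p ^ n)) • 0 := by
    rw [smul_zero]
    exact (left_eq_add.mp h1)
  exact h.smul_cancel 1 h2

theorem mem_center_iff (h : SC Θ U) {x : G} : x ∈ Subgroup.center G ↔ Θ x = 0 := by
  rw [Subgroup.mem_center_iff]
  constructor
  · intro hx
    apply eq_zero_of_om_right
    intro w
    obtain ⟨y, rfl⟩ := h.surj w
    exact (h.comm y x).mp (hx y)
  · intro hx y
    rw [h.comm, hx, om_zero_right]

theorem theta_mul_center (h : SC Θ U) (x : G) {z : G} (hz : z ∈ Subgroup.center G) :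
    Θ (x * z) = Θ x := by
  rw [h.coc, h.mem_center_iff.mp hz, smul_zero, add_zero]

theorem theta_eq_iff (h : SC Θ U) {x y : G} : Θ x = Θ y ↔ x⁻¹ * y ∈ Subgroup.center G := by
  rw [h.mem_center_iff]
  have h1 : Θ y = Θ x + (U x : ZMod (p ^ n)) • Θ (x⁻¹ * y) := by
    rw [← h.coc, mul_inv_cancel_left]
  constructor
  · intro e
    rw [← e] at h1
    have h2 : (U x : ZMod (p ^ n)) • Θ (x⁻¹ * y) = (U x : ZMod (p ^ n)) • 0 := by
      rw [smul_zero]
      exact (left_eq_add.mp h1)
    exact h.smul_cancel x h2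
  · intro e
    rw [h1, e, smul_zero, add_zero]

/-- The fibre count. -/
theorem card_fibre (h : SC Θ U) (Y : Set (VV p n)) :
    Nat.card {g : G // Θ g ∈ Y} = Nat.card (Subgroup.center G) * Nat.card Y := by
  classical
  choose s hs using h.surj
  let F : (Subgroup.center G) × Y → {g : G // Θ g ∈ Y} := fun q =>
    ⟨s q.2 * q.1, by
      rw [h.theta_mul_center _ q.1.2, hs]
      exact q.2.2⟩
  have hF : Function.Bijective F := by
    constructor
    · rintro ⟨z, v⟩ ⟨z', v'⟩ e
      have e1 : s v * z = s v' * z' := congrArg Subtype.val e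
      have e2 : Θ (s v * z) = Θ (s v' * z') := congrArg Θ e1
      rw [h.theta_mul_center _ z.2, h.theta_mul_center _ z'.2, hs, hs] at e2
      have e3 : v = v' := Subtype.ext e2
      subst e3
      have e4 : z = z' := Subtype.ext (mul_left_cancel e1)
      rw [e4]
    · rintro ⟨g, hg⟩
      have e1 : Θ (s (Θ g)) = Θ g := hs _
      have e2 := h.theta_eq_iff.mp e1
      refine ⟨(⟨_, e2⟩, ⟨Θ g, hg⟩), ?_⟩
      apply Subtype.ext
      show s (Θ g) * ((s (Θ g))⁻¹ * g) = g
      rw [mul_inv_cancel_left]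
  rw [← Nat.card_prod]
  exact (Nat.card_congr (Equiv.ofBijective F hF)).symm

theorem card_eq (h : SC Θ U) : Nat.card G = Nat.card (Subgroup.center G) * p ^ (2 * n) := by
  have h1 := h.card_fibre Set.univ
  rw [Nat.card_coe_set_eq, Set.ncard_univ, card_VV] at h1
  rw [← h1]
  exact (Nat.card_congr (Equiv.subtypeUnivEquiv (fun _ => Set.mem_univ _))).symm

theorem theta_pow (h : SC Θ U) (y : G) (k : ℕ) :
    Θ (y ^ k) = ((gs (U y) k : ℕ) : ZMod (p ^ n)) • Θ y := by
  induction k with
  | zero => simp [h.theta_one]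
  | succ k ih =>
    rw [pow_succ', h.coc, ih, gs_succ', smul_smul]
    push_cast
    rw [add_smul, one_smul]

omit hp in
theorem smul_mem_addSubgroup [hp : Fact p.Prime] (W : AddSubgroup (VV p n)) (c : ZMod (p ^ n))
    {v : VV p n} (hv : v ∈ W) : c • v ∈ W := by
  have e : c • v = (c.val) • v := by
    conv_lhs => rw [← ZMod.natCast_zmod_val c]
    rw [Nat.cast_smul_eq_nsmul]
  rw [e]
  exact W.nsmul_mem hv _

/-- The preimage of an additive subgroup. -/
def pre (h : SC Θ U) (W : AddSubgroup (VV p n)) : Subgroup G where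
  carrier := {g | Θ g ∈ W}
  one_mem' := by
    show Θ 1 ∈ W
    rw [h.theta_one]
    exact W.zero_mem
  mul_mem' := by
    intro x y hx hy
    show Θ (x * y) ∈ W
    rw [h.coc]
    exact W.add_mem hx (smul_mem_addSubgroup W _ hy)
  inv_mem' := by
    intro x hx
    show Θ x⁻¹ ∈ W
    obtain ⟨c, hc⟩ := h.isUnit_U x
    have h1 : Θ 1 = Θ x + (U x : ZMod (p ^ n)) • Θ x⁻¹ := by
      rw [← h.coc, mul_inv_cancel]
    rw [h.theta_one] at h1
    have h2 : (U x : ZMod (p ^ n)) • Θ x⁻¹ = -Θ x := by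
      rw [eq_neg_iff_add_eq_zero, add_comm]
      exact h1.symm
    have h3 : Θ x⁻¹ = ((c⁻¹ : (ZMod (p ^ n))ˣ) : ZMod (p ^ n)) • (-Θ x) := by
      rw [← h2, ← hc, smul_smul, Units.inv_mul, one_smul]
    rw [h3]
    exact smul_mem_addSubgroup W _ (W.neg_mem hx)

theorem mem_pre (h : SC Θ U) {W : AddSubgroup (VV p n)} {g : G} : g ∈ h.pre W ↔ Θ g ∈ W := Iff.rfl

theorem card_pre (h : SC Θ U) (W : AddSubgroup (VV p n)) :
    Nat.card (h.pre W) = Nat.card (Subgroup.center G) * Nat.card W :=
  h.card_fibre (W : Set (VV p n))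

variable (hodd : p ≠ 2)

include hodd

theorem exists_pow_eq_smul (h : SC Θ U) (y : G) (c : ZMod (p ^ n)) :
    ∃ k : ℕ, Θ (y ^ k) = c • Θ y := by
  obtain ⟨k, hk⟩ := gs_surjective hodd (h.U_mod y) (h.U_pos y) n c
  exact ⟨k, by rw [h.theta_pow, hk]⟩

/-- The image of a subgroup is an additive subgroup. -/
def img (h : SC Θ U) (R : Subgroup G) : AddSubgroup (VV p n) where
  carrier := Θ '' (R : Set G)
  zero_mem' := ⟨1, R.one_mem, h.theta_one⟩
  add_mem' := by
    rintro _ _ ⟨r, hr, rfl⟩ ⟨s, hs, rfl⟩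
    obtain ⟨c, hc⟩ := h.isUnit_U r
    obtain ⟨k, hk⟩ := exists_pow_eq_smul hodd h s ((c⁻¹ : (ZMod (p ^ n))ˣ) : ZMod (p ^ n))
    refine ⟨r * s ^ k, R.mul_mem hr (R.pow_mem hs k), ?_⟩
    rw [h.coc, hk, ← hc, smul_smul, Units.mul_inv, one_smul]
  neg_mem' := by
    rintro _ ⟨r, hr, rfl⟩
    obtain ⟨k, hk⟩ := exists_pow_eq_smul hodd h r (-1)
    refine ⟨r ^ k, R.pow_mem hr k, ?_⟩
    rw [hk, neg_smul, one_smul]

theorem mem_img (h : SC Θ U) {R : Subgroup G} {v : VV p n} :
    v ∈ img hodd h R ↔ ∃ r ∈ R, Θ r = v := Iff.rfl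

theorem pre_img (h : SC Θ U) (R : Subgroup G) :
    h.pre (img hodd h R) = R ⊔ Subgroup.center G := by
  ext g
  rw [mem_pre, mem_img, Subgroup.mem_sup_of_normal_right]
  constructor
  · rintro ⟨r, hr, e⟩
    refine ⟨r, hr, r⁻¹ * g, h.theta_eq_iff.mp e, mul_inv_cancel_left _ _⟩
  · rintro ⟨r, hr, z, hz, rfl⟩
    exact ⟨r, hr, (h.theta_mul_center r hz).symm⟩

theorem card_sup_center (h : SC Θ U) (R : Subgroup G) :
    Nat.card ↥(R ⊔ Subgroup.center G) = Nat.card (Subgroup.center G) * Nat.card (img hodd h R) := by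
  rw [← pre_img hodd h R]
  exact h.card_pre _

theorem centralizer_eq (h : SC Θ U) (R : Subgroup G) :
    Subgroup.centralizer (R : Set G) = h.pre (perp (img hodd h R)) := by
  ext g
  rw [Subgroup.mem_centralizer_iff, mem_pre, mem_perp]
  constructor
  · rintro hg _ ⟨r, hr, rfl⟩
    exact (h.comm g r).mp (hg r hr).symm
  · intro hg r hr
    exact ((h.comm g r).mpr (hg _ ⟨r, hr, rfl⟩)).symm

theorem card_centralizer_mul_card_img [Finite G] (h : SC Θ U) (R : Subgroup G) :
    Nat.card (Subgroup.centralizer (R : Set G)) * Nat.card (img hodd h R) = Nat.card G := by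
  rw [centralizer_eq hodd h R, h.card_pre, mul_assoc, mul_comm (Nat.card ↥(perp _)),
    card_mul_card_perp, card_VV, ← h.card_eq]

theorem index_centralizer_eq [Finite G] (h : SC Θ U) (R : Subgroup G) :
    (Subgroup.centralizer (R : Set G)).index = Nat.card (img hodd h R) := by
  have h1 := card_centralizer_mul_card_img hodd h R
  have h2 := Subgroup.card_mul_index (Subgroup.centralizer (R : Set G))
  have h3 : 0 < Nat.card (Subgroup.centralizer (R : Set G)) := Nat.card_pos
  exact Nat.eq_of_mul_eq_mul_left h3 (h2.trans h1.symm)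

/-- The Kulakoff-type relation. -/
theorem card_centralizer_mul_card_sup [Finite G] (h : SC Θ U) (R : Subgroup G) :
    Nat.card (Subgroup.centralizer (R : Set G)) * Nat.card ↥(R ⊔ Subgroup.center G) =
      Nat.card (Subgroup.center G) * Nat.card G := by
  rw [card_sup_center hodd h, mul_left_comm, card_centralizer_mul_card_img]

theorem img_zpowers [Finite G] (h : SC Θ U) (g : G) :
    img hodd h (Subgroup.zpowers g) = AddSubgroup.zmultiples (Θ g) := by
  apply le_antisymm
  · rintro _ ⟨r, hr, rfl⟩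
    obtain ⟨k, rfl⟩ := mem_powers_iff_mem_zpowers.mpr hr
    show Θ (g ^ k) ∈ _
    rw [h.theta_pow]
    exact smul_mem_addSubgroup _ _ (AddSubgroup.mem_zmultiples _)
  · rw [AddSubgroup.zmultiples_le]
    exact ⟨g, Subgroup.mem_zpowers g, rfl⟩

theorem centralizer_singleton_eq (g : G) :
    Subgroup.centralizer ({g} : Set G) = Subgroup.centralizer (Subgroup.zpowers g : Set G) := by
  ext x
  rw [Subgroup.mem_centralizer_singleton_iff, Subgroup.mem_centralizer_iff]
  constructor
  · intro hx y hy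
    obtain ⟨k, rfl⟩ := Subgroup.mem_zpowers_iff.mp hy
    have h1 : Commute x g := hx
    exact (h1.zpow_right k).symm.eq
  · intro hx
    exact (hx g (Subgroup.mem_zpowers g)).symm

theorem index_centralizer_singleton [Finite G] (h : SC Θ U) (g : G) :
    (Subgroup.centralizer ({g} : Set G)).index = addOrderOf (Θ g) := by
  rw [centralizer_singleton_eq hodd g, index_centralizer_eq hodd h, img_zpowers hodd h,
    Nat.card_zmultiples]

omit hodd

end SC

/-! ### Counting in the coordinate module -/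

section Count

omit [Group G]

/-- The `p^k`-torsion. -/
def tor (p n k : ℕ) : AddSubgroup (VV p n) where
  carrier := {v | p ^ k • v = 0}
  zero_mem' := by simp
  add_mem' := by
    intro x y hx hy
    show p ^ k • (x + y) = 0
    rw [nsmul_add, hx, hy, add_zero]
  neg_mem' := by
    intro x hx
    show p ^ k • (-x) = 0
    rw [smul_neg, hx, neg_zero]

theorem mem_tor {k : ℕ} {v : VV p n} : v ∈ tor p n k ↔ p ^ k • v = 0 := Iff.rfl

theorem zmod_smul_eq_zero_iff {k : ℕ} {x : ZMod (p ^ n)} :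
    p ^ k • x = 0 ↔ p ^ n ∣ p ^ k * x.val := by
  rw [← ZMod.natCast_eq_zero_iff, nsmul_eq_mul]
  push_cast
  rw [ZMod.natCast_zmod_val]

theorem card_zmod_tor {k : ℕ} (hk : k ≤ n) :
    Nat.card {x : ZMod (p ^ n) // p ^ k • x = 0} = p ^ k := by
  have hp0 := hp.out.pos
  have e : {x : ZMod (p ^ n) | p ^ k • x = 0} =
      (AddSubgroup.zmultiples ((p ^ (n - k) : ℕ) : ZMod (p ^ n)) : Set (ZMod (p ^ n))) := by
    ext x
    constructor
    · intro hx
      have hx' : p ^ n ∣ p ^ k * x.val := zmod_smul_eq_zero_iff.mp hx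
      have e1 : p ^ n = p ^ k * p ^ (n - k) := by
        rw [← pow_add]
        congr 1
        omega
      have hx'' : p ^ (n - k) ∣ x.val :=
        Nat.dvd_of_mul_dvd_mul_left (show 0 < p ^ k by positivity) (e1 ▸ hx')
      obtain ⟨t, ht⟩ := hx''
      show x ∈ AddSubgroup.zmultiples _
      rw [AddSubgroup.mem_zmultiples_iff]
      refine ⟨(t : ℤ), ?_⟩
      rw [natCast_zsmul, nsmul_eq_mul, mul_comm]
      rw [← ZMod.natCast_zmod_val x, ht]
      push_cast
      rfl
    · intro hx
      obtain ⟨t, rfl⟩ := AddSubgroup.mem_zmultiples_iff.mp hx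
      show p ^ k • _ = 0
      rw [smul_comm, nsmul_eq_mul]
      have e2 : ((p ^ k : ℕ) : ZMod (p ^ n)) * ((p ^ (n - k) : ℕ) : ZMod (p ^ n)) = 0 := by
        rw [← Nat.cast_mul, ← pow_add]
        have : k + (n - k) = n := by omega
        rw [this, ZMod.natCast_self]
      rw [e2, smul_zero]
  have h1 : Nat.card {x : ZMod (p ^ n) // p ^ k • x = 0} =
      Nat.card (AddSubgroup.zmultiples ((p ^ (n - k) : ℕ) : ZMod (p ^ n))) := by
    apply Nat.card_congr
    exact Equiv.setCongr e
  rw [h1, Nat.card_zmultiples, ZMod.addOrderOf_coe _ (pow_ne_zero _ hp.out.ne_zero),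
    Nat.gcd_eq_right (pow_dvd_pow p (Nat.sub_le n k)), Nat.pow_div (Nat.sub_le n k) hp0]
  congr 1
  omega

theorem card_tor {k : ℕ} (hk : k ≤ n) : Nat.card (tor p n k) = p ^ (2 * k) := by
  have h1 : Nat.card (tor p n k) =
      Nat.card ({x : ZMod (p ^ n) // p ^ k • x = 0} × {x : ZMod (p ^ n) // p ^ k • x = 0}) := by
    apply Nat.card_congr
    exact
      { toFun := fun v => (⟨v.1.1, congrArg Prod.fst (mem_tor.mp v.2)⟩,
          ⟨v.1.2, congrArg Prod.snd (mem_tor.mp v.2)⟩)
        invFun := fun q => ⟨(q.1.1, q.2.1), by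
          rw [mem_tor]
          exact Prod.ext q.1.2 q.2.2⟩
        left_inv := fun _ => rfl
        right_inv := fun _ => rfl }
  rw [h1, Nat.card_prod, card_zmod_tor hk, two_mul, pow_add]

theorem nsmul_self_VV (v : VV p n) : p ^ n • v = 0 := by
  ext
  · show p ^ n • v.1 = 0
    rw [nsmul_eq_mul]
    push_cast
    have : ((p : ZMod (p ^ n))) ^ n = 0 := by exact_mod_cast ZMod.natCast_self (p ^ n)
    rw [this, zero_mul]
  · show p ^ n • v.2 = 0
    rw [nsmul_eq_mul]
    push_cast
    have : ((p : ZMod (p ^ n))) ^ n = 0 := by exact_mod_cast ZMod.natCast_self (p ^ n)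
    rw [this, zero_mul]

theorem exists_addOrderOf_eq (v : VV p n) : ∃ e, e ≤ n ∧ addOrderOf v = p ^ e := by
  have h1 : addOrderOf v ∣ p ^ n := addOrderOf_dvd_of_nsmul_eq_zero (nsmul_self_VV v)
  obtain ⟨e, he, h2⟩ := (Nat.dvd_prime_pow hp.out).mp h1
  exact ⟨e, he, h2⟩

theorem addOrderOf_le_iff (v : VV p n) (e : ℕ) : addOrderOf v ≤ p ^ e ↔ p ^ e • v = 0 := by
  obtain ⟨f, _, hf⟩ := exists_addOrderOf_eq v
  rw [← addOrderOf_dvd_iff_nsmul_eq_zero, hf, Nat.pow_le_pow_iff_right hp.out.one_lt,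
    Nat.pow_dvd_pow_iff_le_right hp.out.one_lt]

theorem addOrderOf_eq_iff {i : ℕ} (hi : 1 ≤ i) (v : VV p n) :
    addOrderOf v = p ^ i ↔ p ^ i • v = 0 ∧ ¬ p ^ (i - 1) • v = 0 := by
  have hp1 := hp.out.one_lt
  rw [← addOrderOf_le_iff, ← addOrderOf_le_iff]
  obtain ⟨f, _, hf⟩ := exists_addOrderOf_eq v
  rw [hf, Nat.pow_le_pow_iff_right hp1, Nat.pow_le_pow_iff_right hp1,
    Nat.pow_right_inj hp1]
  omega

theorem card_addOrderOf {i : ℕ} (hi : 1 ≤ i) (hin : i ≤ n) :
    Nat.card {v : VV p n // addOrderOf v = p ^ i} = p ^ (2 * i) - p ^ (2 * i - 2) := by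
  have e : {v : VV p n | addOrderOf v = p ^ i} =
      (tor p n i : Set (VV p n)) \ (tor p n (i - 1) : Set (VV p n)) := by
    ext v
    exact addOrderOf_eq_iff hi v
  have hsub : (tor p n (i - 1) : Set (VV p n)) ⊆ (tor p n i : Set (VV p n)) := by
    intro v hv
    have hv' : p ^ (i - 1) • v = 0 := hv
    show p ^ i • v = 0
    have e1 : p ^ i = p * p ^ (i - 1) := by
      rw [← pow_succ']
      congr 1
      omega
    rw [e1, mul_smul, hv', smul_zero]
  have h1 : Nat.card {v : VV p n // addOrderOf v = p ^ i} =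
      Nat.card ((tor p n i : Set (VV p n)) \ (tor p n (i - 1) : Set (VV p n)) : Set (VV p n)) := by
    apply Nat.card_congr
    exact Equiv.setCongr e
  rw [h1, Nat.card_coe_set_eq, Set.ncard_diff hsub (Set.toFinite _), ← Nat.card_coe_set_eq,
    ← Nat.card_coe_set_eq]
  have h2 := card_tor (p := p) (n := n) (k := i) hin
  have h3 := card_tor (p := p) (n := n) (k := i - 1) (by omega)
  have h4 : 2 * (i - 1) = 2 * i - 2 := by omega
  rw [h4] at h3
  have e2 : Nat.card (tor p n i : Set (VV p n)) = Nat.card (tor p n i) := rfl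
  have e3 : Nat.card (tor p n (i - 1) : Set (VV p n)) = Nat.card (tor p n (i - 1)) := rfl
  rw [e2, e3, h2, h3]

end Count

namespace SC

theorem card_class (hodd : p ≠ 2) [Finite G] (h : SC Θ U) {i : ℕ} (hi : 1 ≤ i) (hin : i ≤ n) :
    Nat.card {g : G // (Subgroup.centralizer ({g} : Set G)).index = p ^ i} =
      Nat.card (Subgroup.center G) * (p ^ (2 * i) - p ^ (2 * i - 2)) := by
  rw [← card_addOrderOf (p := p) (n := n) hi hin]
  have h1 := h.card_fibre {v : VV p n | addOrderOf v = p ^ i}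
  have e : {g : G // (Subgroup.centralizer ({g} : Set G)).index = p ^ i} =
      {g : G // Θ g ∈ {v : VV p n | addOrderOf v = p ^ i}} := by
    congr 1
    ext g
    rw [index_centralizer_singleton hodd h]
    rfl
  rw [e, h1]
  rfl

end SC

end SC

end

end Cfsg.Agent.Lib.PGroup.Meta
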