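import Mathlib
import Cfsg.Agent.Lib.PGroup.Meta2
import Cfsg.Agent.Lib.Transfer.Frat

/-!
# Metacyclic `p`-groups for odd `p`: coordinates of a presentation, subgroups
-/

set_option autoImplicit false

namespace Cfsg.Agent.Lib.PGroup.Meta

open Cfsg
open scoped commutatorElement

noncomputable section

variable {p : ℕ} [hp : Fact p.Prime] {G : Type*} [Group G] {a b : G} {u m r n : ℕ}

namespace MC

theorem rep (h : MC p a b u m r n) {i j k l : ℕ} (he : a ^ i * b ^ j = a ^ k * b ^ l) :
    (i : ZMod (p ^ n)) = k ∧ ((gs u j : ℕ) : ZMod (p ^ n)) = (gs u l : ℕ) ∧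
      ((u ^ j : ℕ) : ZMod (p ^ n)) = (u ^ l : ℕ) := by
  wlog hle : j ≤ l generalizing i j k l
  · obtain ⟨h1, h2, h3⟩ := this he.symm (by omega)
    exact ⟨h1.symm, h2.symm, h3.symm⟩
  obtain ⟨t, rfl⟩ := Nat.exists_eq_add_of_le hle
  obtain ⟨h1, h2, h3⟩ := h.rep_aux he
  refine ⟨?_, ?_, ?_⟩
  · have := (ZMod.intCast_zmod_eq_zero_iff_dvd ((i : ℤ) - k) (p ^ n)).mpr h1
    push_cast at this
    exact sub_eq_zero.mp this
  · rw [gs_add]
    have h4 : ((gs u t : ℕ) : ZMod (p ^ n)) = 0 := (ZMod.natCast_eq_zero_iff _ _).mpr h2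
    push_cast at h4 ⊢
    rw [h4, mul_zero, add_zero]
  · have h4 : ((u ^ t : ℕ) : ZMod (p ^ n)) = (1 : ℕ) := (ZMod.natCast_eq_natCast_iff _ _ _).mpr h3
    rw [pow_add]
    push_cast at h4 ⊢
    rw [h4, mul_one]

/-- The first coordinate. -/
def th (h : MC p a b u m r n) (g : G) : VV p n :=
  (((h.gen g).choose : ℕ), ((gs u (h.gen g).choose_spec.choose : ℕ) : ZMod (p ^ n)))

/-- The multiplier. -/
def Uu (h : MC p a b u m r n) (g : G) : ℕ := u ^ (h.gen g).choose_spec.choose

theorem th_form (h : MC p a b u m r n) (i j : ℕ) :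
    h.th (a ^ i * b ^ j) = ((i : ZMod (p ^ n)), ((gs u j : ℕ) : ZMod (p ^ n))) := by
  have he := (h.gen (a ^ i * b ^ j)).choose_spec.choose_spec
  obtain ⟨h1, h2, _⟩ := h.rep he
  exact Prod.ext h1.symm h2.symm

theorem Uu_form (h : MC p a b u m r n) (i j : ℕ) :
    ((h.Uu (a ^ i * b ^ j) : ℕ) : ZMod (p ^ n)) = ((u ^ j : ℕ) : ZMod (p ^ n)) := by
  have he := (h.gen (a ^ i * b ^ j)).choose_spec.choose_spec
  obtain ⟨_, _, h3⟩ := h.rep he
  exact h3.symm

theorem sc (hodd : p ≠ 2) (h : MC p a b u m r n) : SC (h.th) (h.Uu) where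
  surj := by
    rintro ⟨c, d⟩
    obtain ⟨j, hj⟩ := gs_surjective hodd h.u_mod h.u_pos n d
    refine ⟨a ^ c.val * b ^ j, ?_⟩
    rw [h.th_form, hj, ZMod.natCast_zmod_val]
  coc := by
    intro x y
    obtain ⟨i, j, rfl⟩ := h.gen x
    obtain ⟨k, l, rfl⟩ := h.gen y
    rw [h.mul_form, h.th_form, h.th_form, h.th_form, h.Uu_form, gs_add]
    ext
    · simp only [Prod.fst_add, Prod.smul_fst, smul_eq_mul]
      push_cast
      ring
    · simp only [Prod.snd_add, Prod.smul_snd, smul_eq_mul]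
      push_cast
      ring
  comm := by
    intro x y
    obtain ⟨i, j, rfl⟩ := h.gen x
    obtain ⟨k, l, rfl⟩ := h.gen y
    rw [h.comm_iff, h.th_form, h.th_form, ← ZMod.intCast_zmod_eq_zero_iff_dvd]
    simp only [om]
    push_cast
    rfl
  U_mod := fun g => pow_mod_one h.u_mod _
  U_pos := fun g => Nat.one_le_pow _ _ h.u_pos

/-- The power formula. -/
theorem pow_form (h : MC p a b u m r n) (i j t : ℕ) :
    (a ^ i * b ^ j) ^ t = a ^ (i * gs (u ^ j) t) * b ^ (j * t) := by
  induction t with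
  | zero => simp
  | succ t ih =>
    rw [pow_succ', ih, h.mul_form, gs_succ']
    congr 2
    · ring
    · ring

theorem theta_sub (h : MC p a b u m r n) {s : ℕ} (hs : s ≤ n) {i : ℕ}
    (hi : p ^ (n - s) • (i : ZMod (p ^ n)) = 0) : p ^ s ∣ i := by
  have hp0 := hp.out.pos
  have h1 : ((p ^ (n - s) * i : ℕ) : ZMod (p ^ n)) = 0 := by
    rw [← hi, nsmul_eq_mul]
    push_cast
    rfl
  rw [ZMod.natCast_eq_zero_iff] at h1
  have e1 : p ^ n = p ^ (n - s) * p ^ s := by
    rw [← pow_add]
    congr 1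
    omega
  exact Nat.dvd_of_mul_dvd_mul_left (show 0 < p ^ (n - s) by positivity) (e1 ▸ h1)

/-- `℧_s(G)` in coordinates. -/
theorem mem_closure_iff (hodd : p ≠ 2) (h : MC p a b u m r n) {s : ℕ} (hs : s ≤ n) (g : G) :
    g ∈ Subgroup.closure {x : G | ∃ y : G, y ^ p ^ s = x} ↔ p ^ (n - s) • h.th g = 0 := by
  have hsc := h.sc hodd
  constructor
  · intro hg
    have hle : Subgroup.closure {x : G | ∃ y : G, y ^ p ^ s = x} ≤ hsc.pre (tor p n (n - s)) := by
      rw [Subgroup.closure_le]
      rintro _ ⟨y, rfl⟩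
      show p ^ (n - s) • h.th (y ^ p ^ s) = 0
      rw [hsc.theta_pow, ← smul_assoc]
      obtain ⟨t, ht⟩ := (dvd_gs_iff hodd (hsc.U_mod y) (hsc.U_pos y) s (p ^ s)).mpr dvd_rfl
      have e : ((p ^ (n - s) : ℕ) : ZMod (p ^ n)) * ((gs (h.Uu y) (p ^ s) : ℕ) : ZMod (p ^ n)) = 0 := by
        rw [ht, ← Nat.cast_mul, ZMod.natCast_eq_zero_iff]
        refine ⟨t, ?_⟩
        rw [← mul_assoc, ← pow_add]
        congr 2
        omega
      have e2 : (p ^ (n - s) • ((gs (h.Uu y) (p ^ s) : ℕ) : ZMod (p ^ n))) = 0 := by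
        rw [nsmul_eq_mul]
        exact e
      rw [e2, zero_smul]
    exact hle hg
  · intro hg
    obtain ⟨i, j, rfl⟩ := h.gen g
    rw [h.th_form] at hg
    have h1 : p ^ (n - s) • (i : ZMod (p ^ n)) = 0 := congrArg Prod.fst hg
    have h2 : p ^ (n - s) • ((gs u j : ℕ) : ZMod (p ^ n)) = 0 := congrArg Prod.snd hg
    obtain ⟨i', rfl⟩ := h.theta_sub hs h1
    have h3 := (dvd_gs_iff hodd h.u_mod h.u_pos s j).mp (h.theta_sub hs h2)
    obtain ⟨j', rfl⟩ := h3
    apply Subgroup.mul_mem
    · apply Subgroup.subset_closure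
      exact ⟨a ^ i', by rw [← pow_mul, mul_comm]⟩
    · apply Subgroup.subset_closure
      exact ⟨b ^ j', by rw [← pow_mul, mul_comm]⟩

/-- The class size bound. -/
theorem mem_closure_iff_index (hodd : p ≠ 2) [Finite G] (h : MC p a b u m r n) {s : ℕ} (hs : s ≤ n)
    (g : G) :
    g ∈ Subgroup.closure {x : G | ∃ y : G, y ^ p ^ s = x} ↔
      (Subgroup.centralizer ({g} : Set G)).index ≤ p ^ (n - s) := by
  rw [h.mem_closure_iff hodd hs, SC.index_centralizer_singleton hodd (h.sc hodd), addOrderOf_le_iff]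

/-- The first Frattini homomorphism. -/
theorem frattini_iff (hodd : p ≠ 2) [Finite G] (hG : IsPGroup p G) (h : MC p a b u m r n)
    (hn : n ≠ 0) (g : G) : g ∈ frattini G ↔ p ^ (n - 1) • h.th g = 0 := by
  have hsc := h.sc hodd
  constructor
  · intro hg
    -- the homomorphism to `(ℤ/p)²`
    have hdvd : p ∣ p ^ n := dvd_pow_self p hn
    let cst : ZMod (p ^ n) →+* ZMod p := ZMod.castHom hdvd (ZMod p)
    have hU : ∀ x : G, cst (h.Uu x : ZMod (p ^ n)) = 1 := by
      intro x
      rw [map_natCast]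
      have := (ZMod.natCast_eq_natCast_iff _ _ _).mpr (hsc.U_mod x)
      simpa using this
    let φ : G →* Multiplicative (ZMod p) × Multiplicative (ZMod p) :=
      { toFun := fun x => (Multiplicative.ofAdd (cst (h.th x).1), Multiplicative.ofAdd (cst (h.th x).2))
        map_one' := by
          rw [hsc.theta_one]
          simp
        map_mul' := by
          intro x y
          rw [hsc.coc]
          ext
          · simp only [Prod.fst_add, Prod.smul_fst, smul_eq_mul, map_add, map_mul, hU, one_mul]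
            rfl
          · simp only [Prod.snd_add, Prod.smul_snd, smul_eq_mul, map_add, map_mul, hU, one_mul]
            rfl }
    have hle : frattini G ≤ φ.ker := by
      apply Cfsg.Agent.Lib.Transfer.frattini_le_of_elementary hG
      · rw [commutator_def]
        exact Abelianization.commutator_subset_ker φ
      · intro x
        rw [MonoidHom.mem_ker, map_pow]
        ext
        · show (((φ x).1) ^ p) = 1
          apply Multiplicative.toAdd.injective
          rw [toAdd_pow, toAdd_one]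
          simp
        · show (((φ x).2) ^ p) = 1
          apply Multiplicative.toAdd.injective
          rw [toAdd_pow, toAdd_one]
          simp
    have h1 : φ g = 1 := hle hg
    have h2 : cst (h.th g).1 = 0 := congrArg (fun q => Multiplicative.toAdd q.1) h1
    have h3 : cst (h.th g).2 = 0 := congrArg (fun q => Multiplicative.toAdd q.2) h1
    have key : ∀ x : ZMod (p ^ n), cst x = 0 → p ^ (n - 1) • x = 0 := by
      intro x hx
      have h4 : ((x.val : ℕ) : ZMod p) = 0 := by
        rw [← hx]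
        show _ = ZMod.castHom hdvd (ZMod p) x
        conv_rhs => rw [← ZMod.natCast_zmod_val x]
        rw [map_natCast]
      rw [ZMod.natCast_eq_zero_iff] at h4
      obtain ⟨t, ht⟩ := h4
      rw [zmod_smul_eq_zero_iff, ht, ← mul_assoc, ← pow_succ]
      have : n - 1 + 1 = n := by omega
      rw [this]
      exact Dvd.intro _ rfl
    ext
    · exact key _ h2
    · exact key _ h3
  · intro hg
    have hn1 : 1 ≤ n := Nat.one_le_iff_ne_zero.mpr hn
    have h1 := (h.mem_closure_iff hodd hn1 g).mpr hg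
    have hle : Subgroup.closure {x : G | ∃ y : G, y ^ p ^ 1 = x} ≤ frattini G := by
      rw [Subgroup.closure_le]
      rintro _ ⟨y, rfl⟩
      rw [pow_one]
      exact Cfsg.Agent.Lib.Transfer.pow_mem_frattini hG y
    exact hle h1

end MC

end

end Cfsg.Agent.Lib.PGroup.Meta
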