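import Mathlib
import Cfsg.Agent.Lib.PGroup.Meta3

/-!
# Metacyclic `p`-groups for odd `p`: subgroups and factorisations
-/

set_option autoImplicit false

namespace Cfsg.Agent.Lib.PGroup.Meta

open Cfsg
open scoped commutatorElement

noncomputable section

variable {p : ℕ} [hp : Fact p.Prime] {G : Type*} [Group G] {a b : G} {u m r n : ℕ}

theorem exists_modEq_inv {x M : ℕ} (hc : Nat.Coprime x M) (hM : 0 < M) : ∃ y, x * y ≡ 1 [MOD M] := by
  rcases Nat.lt_or_ge 1 M with h1 | h1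
  · obtain ⟨y, _, hy⟩ := Nat.exists_mul_mod_eq_one_of_coprime hc h1
    refine ⟨y, ?_⟩
    show x * y % M = 1 % M
    rw [hy, Nat.mod_eq_of_lt h1]
  · have : M = 1 := by omega
    subst this
    exact ⟨0, Nat.modEq_one⟩

theorem exists_solve {M w e : ℕ} (hc : Nat.Coprime w M) (hM : 0 < M) : ∃ k, M ∣ k * w + e := by
  obtain ⟨y, hy⟩ := exists_modEq_inv hc hM
  refine ⟨(M - 1) * e * y, ?_⟩
  have h1 : (M - 1) * e * y * w + e ≡ (M - 1) * e * 1 + e [MOD M] := by
    apply Nat.ModEq.add_right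
    have e1 : (M - 1) * e * y * w = (M - 1) * e * (w * y) := by ring
    rw [e1]
    exact hy.mul_left _
  have h2 : (M - 1) * e * 1 + e = M * e := by
    obtain ⟨M', rfl⟩ : ∃ M', M = M' + 1 := ⟨M - 1, by omega⟩
    simp only [Nat.add_sub_cancel, mul_one]
    ring
  rw [h2] at h1
  exact (Nat.modEq_zero_iff_dvd).mp (h1.trans ((Nat.modEq_zero_iff_dvd).mpr (Dvd.intro _ rfl)))

/-- The `p`-adic value of `gs U (p^β)` is exactly `β`. -/
theorem gs_val (hodd : p ≠ 2) {U : ℕ} (hU : U ≡ 1 [MOD p]) (hU0 : 1 ≤ U) (β : ℕ) :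
    ∃ w, gs U (p ^ β) = p ^ β * w ∧ ¬ p ∣ w := by
  obtain ⟨w, hw⟩ := (dvd_gs_iff hodd hU hU0 β (p ^ β)).mpr dvd_rfl
  refine ⟨w, hw, ?_⟩
  intro hd
  have h1 : p ^ (β + 1) ∣ gs U (p ^ β) := by
    rw [hw, pow_succ]
    exact Nat.mul_dvd_mul_left _ hd
  have h2 := (dvd_gs_iff hodd hU hU0 (β + 1) (p ^ β)).mp h1
  have h3 := (Nat.pow_dvd_pow_iff_le_right hp.out.one_lt).mp h2
  omega

theorem coprime_of_not_dvd {w : ℕ} (hw : ¬ p ∣ w) (k : ℕ) : Nat.Coprime w (p ^ k) := by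
  apply Nat.Coprime.pow_right
  rw [Nat.coprime_comm, Nat.Prime.coprime_iff_not_dvd hp.out]
  exact hw

namespace MC

/-- Congruent exponents of `b` differ by an element of `⟨a⟩`. -/
theorem exists_pow_of_modEq [Finite G] (h : MC p a b u m r n) {s t : ℕ} (hst : s ≡ t [MOD p ^ r]) :
    ∃ k : ℕ, b ^ s = a ^ k * b ^ t := by
  letI := h.normal_zpowers
  have h1 : ((b : G) : G ⧸ Subgroup.zpowers a) ^ s = ((b : G) : G ⧸ Subgroup.zpowers a) ^ t := by
    rw [pow_eq_pow_iff_modEq, h.orderOf_mk]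
    exact hst
  have h2 : b ^ s * (b ^ t)⁻¹ ∈ Subgroup.zpowers a := by
    rw [← QuotientGroup.eq_one_iff, QuotientGroup.mk_mul, QuotientGroup.mk_inv,
      QuotientGroup.mk_pow, QuotientGroup.mk_pow, h1, mul_inv_cancel]
  obtain ⟨k, hk⟩ := mem_powers_iff_mem_zpowers.mpr h2
  refine ⟨k, ?_⟩
  have hk' : a ^ k = b ^ s * (b ^ t)⁻¹ := hk
  rw [hk']
  group

theorem exists_subgroup [Finite G] (hodd : p ≠ 2) (h : MC p a b u m r n) (L : Subgroup G) :
    ∃ (c d : L) (U α β : ℕ), α ≤ m ∧ β ≤ r ∧ MC p c d U (m - α) (r - β) (n - (α + β)) := by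
  classical
  have hp1 := hp.out.one_lt
  have hp0 := hp.out.pos
  -- `α`
  have hα0 : a ^ p ^ m ∈ L := by
    rw [← h.order, pow_orderOf_eq_one]
    exact L.one_mem
  have hα : ∃ α, a ^ (p ^ α) ∈ L := ⟨m, hα0⟩
  obtain ⟨α, hαL, hαmin⟩ : ∃ α, a ^ (p ^ α) ∈ L ∧ ∀ α', a ^ (p ^ α') ∈ L → α ≤ α' :=
    ⟨Nat.find hα, Nat.find_spec hα, fun _ hh => Nat.find_min' hα hh⟩
  have hαm : α ≤ m := hαmin m hα0
  have key1 : ∀ x : ℕ, a ^ x ∈ L → p ^ α ∣ x := by
    intro x hx
    rcases Nat.eq_zero_or_pos x with rfl | hx0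
    · simp
    obtain ⟨e, x', hx', rfl⟩ := Nat.exists_eq_pow_mul_and_not_dvd hx0.ne' p hp.out.ne_one
    obtain ⟨y, hy⟩ := exists_modEq_inv (coprime_of_not_dvd hx' m) (by positivity)
    have h1 : (a ^ (p ^ e * x')) ^ y = a ^ (p ^ e) := by
      rw [← pow_mul, pow_eq_pow_iff_modEq, h.order]
      have := hy.mul_left (p ^ e)
      rw [mul_one, ← mul_assoc] at this
      exact this
    have h2 : a ^ (p ^ e) ∈ L := h1 ▸ L.pow_mem hx y
    exact Dvd.dvd.mul_right (pow_dvd_pow p (hαmin e h2)) _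
  -- `β`
  have hβ0 : ∃ γ : ℕ, a ^ γ * b ^ (p ^ r) ∈ L := by
    have h1 : b ^ p ^ r ∈ Subgroup.zpowers a := (h.tower _).mpr dvd_rfl
    have h2 : (b ^ p ^ r)⁻¹ ∈ Subgroup.zpowers a := inv_mem h1
    obtain ⟨γ, hγ⟩ := mem_powers_iff_mem_zpowers.mpr h2
    refine ⟨γ, ?_⟩
    have hγ' : a ^ γ = (b ^ p ^ r)⁻¹ := hγ
    rw [hγ', inv_mul_cancel]
    exact L.one_mem
  have hβ : ∃ β, ∃ γ : ℕ, a ^ γ * b ^ (p ^ β) ∈ L := ⟨r, hβ0⟩
  obtain ⟨β, ⟨γ, hγ⟩, hβmin⟩ : ∃ β, (∃ γ : ℕ, a ^ γ * b ^ (p ^ β) ∈ L) ∧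
      ∀ β', (∃ γ : ℕ, a ^ γ * b ^ (p ^ β') ∈ L) → β ≤ β' :=
    ⟨Nat.find hβ, Nat.find_spec hβ, fun _ hh => Nat.find_min' hβ hh⟩
  have hβr : β ≤ r := hβmin r hβ0
  have key2 : ∀ i j : ℕ, a ^ i * b ^ j ∈ L → p ^ β ∣ j := by
    intro i j hij
    rcases Nat.eq_zero_or_pos j with rfl | hj0
    · simp
    obtain ⟨e, j', hj', rfl⟩ := Nat.exists_eq_pow_mul_and_not_dvd hj0.ne' p hp.out.ne_one
    obtain ⟨y, hy⟩ := exists_modEq_inv (coprime_of_not_dvd hj' r) (by positivity)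
    have h1 := h.pow_form i (p ^ e * j') y
    have h2 : p ^ e * j' * y ≡ p ^ e [MOD p ^ r] := by
      have := hy.mul_left (p ^ e)
      rw [mul_one, ← mul_assoc] at this
      exact this
    obtain ⟨k, hk⟩ := h.exists_pow_of_modEq h2
    have h3 : a ^ (i * gs (u ^ (p ^ e * j')) y + k) * b ^ (p ^ e) ∈ L := by
      rw [pow_add, mul_assoc, ← hk, ← h1]
      exact L.pow_mem hij y
    exact Dvd.dvd.mul_right (pow_dvd_pow p (hβmin e ⟨_, h3⟩)) _
  have hdt : ∀ t : ℕ, (a ^ γ * b ^ (p ^ β)) ^ t = a ^ (γ * gs (u ^ (p ^ β)) t) * b ^ (p ^ β * t) :=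
    h.pow_form γ (p ^ β)
  -- elements of `L ∩ ⟨a⟩`
  have key3 : ∀ x ∈ L, x ∈ Subgroup.zpowers a → ∃ s : ℕ, x = (a ^ (p ^ α)) ^ s := by
    intro x hx hxa
    obtain ⟨z, hz⟩ := mem_powers_iff_mem_zpowers.mpr hxa
    have hz' : a ^ z = x := hz
    obtain ⟨s, rfl⟩ := key1 z (hz' ▸ hx)
    exact ⟨s, by rw [← pow_mul, hz']⟩
  refine ⟨⟨a ^ (p ^ α), hαL⟩, ⟨a ^ γ * b ^ (p ^ β), hγ⟩, u ^ (p ^ β), α, β, hαm, hβr, ?_⟩
  refine
    { conj := ?_
      u_gt := Nat.one_lt_pow (by positivity) h.u_gt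
      u_mod := pow_mod_one h.u_mod _
      order := ?_
      gen := ?_
      crit := ?_
      tower := ?_ }
  · apply Subtype.ext
    show a ^ γ * b ^ (p ^ β) * a ^ (p ^ α) * (a ^ γ * b ^ (p ^ β))⁻¹ = (a ^ (p ^ α)) ^ (u ^ (p ^ β))
    have e1 : a ^ γ * b ^ (p ^ β) * a ^ (p ^ α) * (a ^ γ * b ^ (p ^ β))⁻¹ =
        a ^ γ * (b ^ (p ^ β) * a ^ (p ^ α)) * (b ^ (p ^ β))⁻¹ * (a ^ γ)⁻¹ := by group
    rw [e1, h.pow_mul_pow, ← pow_mul]
    have c1 : Commute (a ^ γ) (a ^ (p ^ α * u ^ p ^ β)) := (Commute.refl a).pow_pow _ _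
    have e2 : a ^ γ * (a ^ (p ^ α * u ^ p ^ β) * b ^ p ^ β) * (b ^ p ^ β)⁻¹ * (a ^ γ)⁻¹ =
        a ^ γ * a ^ (p ^ α * u ^ p ^ β) * (a ^ γ)⁻¹ := by group
    rw [e2, c1.eq]
    group
  · rw [Subgroup.orderOf_mk, orderOf_pow' _ (by positivity), h.order,
      Nat.gcd_eq_right (pow_dvd_pow p hαm), Nat.pow_div hαm hp0]
  · rintro ⟨x, hx⟩
    obtain ⟨i, j, rfl⟩ := h.gen x
    obtain ⟨t, rfl⟩ := key2 i j hx
    have h1 : a ^ i * b ^ (p ^ β * t) * ((a ^ γ * b ^ (p ^ β)) ^ t)⁻¹ ∈ L :=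
      L.mul_mem hx (L.inv_mem (L.pow_mem hγ t))
    have h2 : a ^ i * b ^ (p ^ β * t) * ((a ^ γ * b ^ (p ^ β)) ^ t)⁻¹ ∈ Subgroup.zpowers a := by
      rw [hdt]
      have e1 : a ^ i * b ^ (p ^ β * t) * (a ^ (γ * gs (u ^ p ^ β) t) * b ^ (p ^ β * t))⁻¹ =
          a ^ i * (a ^ (γ * gs (u ^ p ^ β) t))⁻¹ := by group
      rw [e1]
      exact mul_mem (pow_mem (Subgroup.mem_zpowers a) _)
        (inv_mem (pow_mem (Subgroup.mem_zpowers a) _))
    obtain ⟨s, hs⟩ := key3 _ h1 h2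
    refine ⟨s, t, Subtype.ext ?_⟩
    show a ^ i * b ^ (p ^ β * t) = (a ^ (p ^ α)) ^ s * (a ^ γ * b ^ (p ^ β)) ^ t
    rw [← hs]
    group
  · intro X
    obtain ⟨w, hw, hwd⟩ := gs_val hodd h.u_mod h.u_pos β
    have hg := gs_int u (p ^ β)
    rw [hw] at hg
    push_cast at hg
    have hc := h.crit (((p ^ (α + β) : ℕ) : ℤ) * (w : ℤ) * X)
    have e1 : ((u : ℤ) - 1) * (((p ^ (α + β) : ℕ) : ℤ) * (w : ℤ) * X) =
        ((p ^ α : ℕ) : ℤ) * ((((u ^ p ^ β : ℕ) : ℤ) - 1) * X) := by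
      push_cast
      rw [← hg, pow_add]
      ring
    have e2 : ((p ^ m : ℕ) : ℤ) = ((p ^ α : ℕ) : ℤ) * ((p ^ (m - α) : ℕ) : ℤ) := by
      rw [← Nat.cast_mul, ← pow_add]
      congr 2
      omega
    have hpa : ((p ^ α : ℕ) : ℤ) ≠ 0 := by
      have := hp.out.ne_zero
      positivity
    rw [e1, e2, mul_dvd_mul_iff_left hpa] at hc
    rw [hc]
    rcases le_total n (α + β) with hle | hle
    · have h0 : n - (α + β) = 0 := by omega
      rw [h0]
      simp only [pow_zero, Nat.cast_one, one_dvd, iff_true]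
      have h1 : ((p ^ n : ℕ) : ℤ) ∣ ((p ^ (α + β) : ℕ) : ℤ) := by
        exact_mod_cast pow_dvd_pow p hle
      exact Dvd.dvd.mul_right (Dvd.dvd.mul_right h1 _) _
    · obtain ⟨t, rfl⟩ := Nat.exists_eq_add_of_le hle
      have h0 : α + β + t - (α + β) = t := by omega
      rw [h0]
      have hps : ((p ^ (α + β) : ℕ) : ℤ) ≠ 0 := by
        have := hp.out.ne_zero
        positivity
      have e3 : ((p ^ (α + β + t) : ℕ) : ℤ) = ((p ^ (α + β) : ℕ) : ℤ) * ((p ^ t : ℕ) : ℤ) := by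
        push_cast
        rw [pow_add]
      rw [e3, mul_assoc, mul_dvd_mul_iff_left hps]
      have hcop : IsCoprime ((p ^ t : ℕ) : ℤ) (w : ℤ) := by
        have : Nat.Coprime (p ^ t) w := (coprime_of_not_dvd hwd t).symm
        exact_mod_cast Nat.isCoprime_iff_coprime.mpr this
      exact ⟨fun h => hcop.dvd_of_dvd_mul_left h, fun h => Dvd.dvd.mul_left h _⟩
  · intro t
    have e0 : p ^ r = p ^ β * p ^ (r - β) := by
      rw [← pow_add]
      congr 1
      omega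
    have hiff : p ^ (r - β) ∣ t ↔ p ^ r ∣ p ^ β * t := by
      rw [e0]
      exact (Nat.mul_dvd_mul_iff_left (by positivity)).symm
    rw [hiff, ← h.tower]
    have hpow : ((⟨a ^ γ * b ^ (p ^ β), hγ⟩ : L) ^ t : L).1 = a ^ (γ * gs (u ^ (p ^ β)) t) * b ^ (p ^ β * t) := by
      rw [Subgroup.coe_pow]
      exact hdt t
    constructor
    · intro hmem
      obtain ⟨k, hk⟩ := Subgroup.mem_zpowers_iff.mp hmem
      have h1 := congrArg Subtype.val hk
      rw [hpow] at h1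
      have h2 : (((⟨a ^ (p ^ α), hαL⟩ : L) ^ k : L) : G) ∈ Subgroup.zpowers a := by
        rw [Subgroup.coe_zpow]
        exact zpow_mem (pow_mem (Subgroup.mem_zpowers a) _) _
      rw [h1] at h2
      have h3 : b ^ (p ^ β * t) = (a ^ (γ * gs (u ^ p ^ β) t))⁻¹ *
          (a ^ (γ * gs (u ^ p ^ β) t) * b ^ (p ^ β * t)) := by group
      rw [h3]
      exact mul_mem (inv_mem (pow_mem (Subgroup.mem_zpowers a) _)) h2
    · intro hmem
      have h1 : a ^ (γ * gs (u ^ (p ^ β)) t) * b ^ (p ^ β * t) ∈ L := by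
        rw [← hpow]
        exact Subtype.prop _
      have h2 : a ^ (γ * gs (u ^ (p ^ β)) t) * b ^ (p ^ β * t) ∈ Subgroup.zpowers a :=
        mul_mem (pow_mem (Subgroup.mem_zpowers a) _) hmem
      obtain ⟨s, hs⟩ := key3 _ h1 h2
      refine Subgroup.mem_zpowers_iff.mpr ⟨(s : ℤ), Subtype.ext ?_⟩
      rw [hpow, hs, zpow_natCast, Subgroup.coe_pow]

end MC

theorem isMulCommutative_iff_commutator (L : Type*) [Group L] [Finite L] :
    IsMulCommutative L ↔ Nat.card (commutator L) = 1 := by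
  constructor
  · intro hL
    have h1 : commutator L = ⊥ := by
      unfold commutator
      rw [Subgroup.commutator_eq_bot_iff_le_centralizer]
      intro x _
      rw [Subgroup.mem_centralizer_iff]
      intro y _
      exact hL.is_comm.comm y x
    rw [h1]
    simp
  · intro hL
    have h1 : commutator L = ⊥ := Subgroup.eq_bot_of_card_eq _ hL
    refine ⟨⟨fun x y => ?_⟩⟩
    have h2 : ⁅x, y⁆ ∈ commutator L :=
      Subgroup.commutator_mem_commutator (Subgroup.mem_top x) (Subgroup.mem_top y)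
    rw [h1, Subgroup.mem_bot] at h2
    exact commutatorElement_eq_one_iff_mul_comm.mp h2

namespace MC

/-- The numbers attached to a subgroup. -/
theorem subgroup_numbers [Finite G] (hodd : p ≠ 2) (h : MC p a b u m r n) (L : Subgroup G) :
    ∃ α β : ℕ, α ≤ m ∧ β ≤ r ∧ Nat.card L = p ^ (m - α + (r - β)) ∧
      Nat.card (commutator L) = p ^ (n - (α + β)) := by
  obtain ⟨c, d, U, α, β, h1, h2, hL⟩ := h.exists_subgroup hodd L
  exact ⟨α, β, h1, h2, hL.card_eq, hL.card_commutator⟩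

theorem index_commutator [Finite G] (h : MC p a b u m r n) :
    (commutator G).index = p ^ (m + r - n) := by
  have h1 := Subgroup.card_mul_index (commutator G)
  rw [h.card_commutator, h.card_eq] at h1
  have h2 : n ≤ m + r := by
    have := h.n_le_m
    omega
  have h3 : p ^ (m + r) = p ^ n * p ^ (m + r - n) := by
    rw [← pow_add]
    congr 1
    omega
  rw [h3] at h1
  exact Nat.eq_of_mul_eq_mul_left (pow_pos hp.out.pos n) h1

/-- A subgroup is abelian iff its order is at most `|G : G'|`. -/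
theorem isMulCommutative_iff_card_le [Finite G] (hodd : p ≠ 2) (h : MC p a b u m r n)
    (L : Subgroup G) : IsMulCommutative L ↔ Nat.card L ≤ (commutator G).index := by
  obtain ⟨α, β, hα, hβ, h1, h2⟩ := h.subgroup_numbers hodd L
  rw [isMulCommutative_iff_commutator, h2, h1, h.index_commutator,
    Nat.pow_le_pow_iff_right hp.out.one_lt]
  have hn := h.n_le_m
  have hp1 := hp.out.one_lt
  constructor
  · intro h3
    have h4 : n - (α + β) = 0 := by
      by_contra h5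
      have : 1 < p ^ (n - (α + β)) := Nat.one_lt_pow h5 hp1
      omega
    omega
  · intro h3
    have h4 : n - (α + β) = 0 := by omega
    rw [h4, pow_zero]

/-- A non-abelian subgroup has the same abelianisation order. -/
theorem index_commutator_subgroup [Finite G] (hodd : p ≠ 2) (h : MC p a b u m r n)
    (L : Subgroup G) (hL : ¬ IsMulCommutative L) :
    Nat.card L = Nat.card (commutator L) * (commutator G).index := by
  obtain ⟨α, β, hα, hβ, h1, h2⟩ := h.subgroup_numbers hodd L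
  rw [isMulCommutative_iff_commutator, h2] at hL
  have h3 : n - (α + β) ≠ 0 := by
    intro h4
    rw [h4, pow_zero] at hL
    exact hL rfl
  rw [h1, h2, h.index_commutator, ← pow_add]
  congr 1
  have hn := h.n_le_m
  omega

/-- The factorisation theorem. -/
theorem exists_factorisation [Finite G] (hodd : p ≠ 2) (h : MC p a b u m r n) :
    ∃ A B : Subgroup G, IsCyclic A ∧ IsCyclic B ∧ A ⊓ B = ⊥ ∧
      Nat.card A * Nat.card B = Nat.card G := by
  have hp0 := hp.out.pos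
  have hp1 := hp.out.one_lt
  have hb : b ^ p ^ r ∈ Subgroup.zpowers a := (h.tower _).mpr dvd_rfl
  by_cases hcase : ∃ ε : ℕ, b ^ p ^ r = a ^ ε ∧ p ^ r ∣ ε
  · obtain ⟨ε, he, e, rfl⟩ := hcase
    obtain ⟨w, hw, hwd⟩ := gs_val hodd h.u_mod h.u_pos r
    obtain ⟨k, hk⟩ := exists_solve (M := p ^ m) (e := e) (coprime_of_not_dvd hwd m) (by positivity)
    have hpow : ∀ t : ℕ, (a ^ k * b) ^ t = a ^ (k * gs u t) * b ^ t := by
      intro t
      have := h.pow_form k 1 t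
      simpa using this
    have h1 : (a ^ k * b) ^ p ^ r = 1 := by
      rw [hpow, he, ← pow_add, ← orderOf_dvd_iff_pow_eq_one, h.order, hw]
      have e1 : k * (p ^ r * w) + p ^ r * e = p ^ r * (k * w + e) := by ring
      rw [e1]
      exact Dvd.dvd.mul_left hk _
    have h2 : ∀ t : ℕ, (a ^ k * b) ^ t ∈ Subgroup.zpowers a → p ^ r ∣ t := by
      intro t ht
      rw [← h.tower]
      rw [hpow] at ht
      have e1 : b ^ t = (a ^ (k * gs u t))⁻¹ * (a ^ (k * gs u t) * b ^ t) := by group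
      rw [e1]
      exact mul_mem (inv_mem (pow_mem (Subgroup.mem_zpowers a) _)) ht
    have h3 : orderOf (a ^ k * b) = p ^ r := by
      apply Nat.dvd_antisymm
      · exact orderOf_dvd_of_pow_eq_one h1
      · apply h2
        rw [pow_orderOf_eq_one]
        exact one_mem _
    refine ⟨Subgroup.zpowers a, Subgroup.zpowers (a ^ k * b), inferInstance, inferInstance, ?_, ?_⟩
    · rw [eq_bot_iff]
      intro x hx
      obtain ⟨hx1, hx2⟩ := Subgroup.mem_inf.mp hx
      obtain ⟨t, ht⟩ := mem_powers_iff_mem_zpowers.mpr hx2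
      have ht' : (a ^ k * b) ^ t = x := ht
      rw [← ht'] at hx1
      obtain ⟨s, rfl⟩ := h2 t hx1
      rw [Subgroup.mem_bot, ← ht', pow_mul, h1, one_pow]
    · rw [Nat.card_zpowers, Nat.card_zpowers, h3, h.order, h.card_eq, pow_add]
  · push Not at hcase
    obtain ⟨ε, hε⟩ := mem_powers_iff_mem_zpowers.mpr hb
    have hε' : b ^ p ^ r = a ^ ε := hε.symm
    have h1 : ¬ p ^ r ∣ ε := hcase ε hε'
    have hε0 : ε ≠ 0 := by
      rintro rfl
      exact h1 (dvd_zero _)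
    have h2 : ¬ p ^ m ∣ ε := by
      intro hd
      have h3 : a ^ ε = 1 := by
        rw [← h.order] at hd
        exact orderOf_dvd_iff_pow_eq_one.mp hd
      exact hcase 0 (by rw [hε', h3, pow_zero]) (dvd_zero _)
    obtain ⟨f, e, he, rfl⟩ := Nat.exists_eq_pow_mul_and_not_dvd hε0 p hp.out.ne_one
    have hfr : f < r := by
      by_contra hc
      exact h1 (Dvd.dvd.mul_right (pow_dvd_pow p (by omega)) _)
    have hfm : f < m := by
      by_contra hc
      exact h2 (Dvd.dvd.mul_right (pow_dvd_pow p (by omega)) _)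
    -- the order of `b`
    have hob : orderOf b = p ^ r * p ^ (m - f) := by
      have h3 : p ^ r ∣ orderOf b := by
        rw [← h.tower, pow_orderOf_eq_one]
        exact one_mem _
      have h4 := orderOf_pow_of_dvd (x := b) (n := p ^ r) (by positivity) h3
      have h5 : orderOf (a ^ (p ^ f * e)) = p ^ (m - f) := by
        have h6 : orderOf (a ^ p ^ f) = p ^ (m - f) := by
          rw [orderOf_pow' _ (by positivity), h.order,
            Nat.gcd_eq_right (pow_dvd_pow p hfm.le), Nat.pow_div hfm.le hp0]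
        rw [pow_mul, Nat.Coprime.orderOf_pow, h6]
        rw [h6]
        exact (coprime_of_not_dvd he _).symm
      rw [hε', h5] at h4
      rw [h4, Nat.mul_div_cancel' h3]
    -- the element `w`
    set U' := u ^ (p ^ (r - f)) with hU'
    have hU'mod : U' ≡ 1 [MOD p] := pow_mod_one h.u_mod _
    have hU'pos : 1 ≤ U' := Nat.one_le_pow _ _ h.u_pos
    obtain ⟨w₁, hw₁, hw₁d⟩ := gs_val hodd hU'mod hU'pos f
    obtain ⟨K, hK⟩ := exists_solve (M := p ^ m) (e := e) (coprime_of_not_dvd hw₁d m) (by positivity)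
    have hKd : ¬ p ∣ K := by
      intro hd
      have h3 : p ∣ K * w₁ + e := (dvd_pow_self p (by omega)).trans hK
      exact he ((Nat.dvd_add_right (Dvd.dvd.mul_right hd _)).mp h3)
    set w := a ^ K * b ^ (p ^ (r - f)) with hw
    have hwpow : ∀ s : ℕ, w ^ s = a ^ (K * gs U' s) * b ^ (p ^ (r - f) * s) :=
      fun s => h.pow_form K _ s
    have hw1 : w ^ p ^ f = 1 := by
      have e1 : p ^ (r - f) * p ^ f = p ^ r := by
        rw [← pow_add]
        congr 1
        omega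
      rw [hwpow, e1, hε', ← pow_add, ← orderOf_dvd_iff_pow_eq_one, h.order, hw₁]
      have e2 : K * (p ^ f * w₁) + p ^ f * e = p ^ f * (K * w₁ + e) := by ring
      rw [e2]
      exact Dvd.dvd.mul_left hK _
    have hkey : ∀ s : ℕ, w ^ s ∈ Subgroup.zpowers b → p ^ f ∣ s := by
      intro s hs
      have h3 : a ^ (K * gs U' s) ∈ Subgroup.zpowers b := by
        rw [hwpow] at hs
        have e1 : a ^ (K * gs U' s) =
            (a ^ (K * gs U' s) * b ^ (p ^ (r - f) * s)) * (b ^ (p ^ (r - f) * s))⁻¹ := by group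
        rw [e1]
        exact mul_mem hs (inv_mem (pow_mem (Subgroup.mem_zpowers b) _))
      obtain ⟨z, hz⟩ := mem_powers_iff_mem_zpowers.mpr h3
      have hz' : b ^ z = a ^ (K * gs U' s) := hz
      have h4 : b ^ z ∈ Subgroup.zpowers a := by
        rw [hz']
        exact pow_mem (Subgroup.mem_zpowers a) _
      obtain ⟨z', rfl⟩ := (h.tower z).mp h4
      rw [pow_mul, hε', ← pow_mul, eq_comm, pow_eq_pow_iff_modEq, h.order] at hz'
      have h5 : K * gs U' s ≡ p ^ f * e * z' [MOD p ^ f] := hz'.of_dvd (pow_dvd_pow p hfm.le)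
      have h6 : p ^ f ∣ K * gs U' s := by
        have h7 : p ^ f * e * z' ≡ 0 [MOD p ^ f] := by
          apply (Nat.modEq_zero_iff_dvd).mpr
          rw [mul_assoc]
          exact Dvd.intro _ rfl
        exact (Nat.modEq_zero_iff_dvd).mp (h5.trans h7)
      have h8 : p ^ f ∣ gs U' s := (coprime_of_not_dvd hKd f).symm.dvd_of_dvd_mul_left h6
      exact (dvd_gs_iff hodd hU'mod hU'pos f s).mp h8
    have hw3 : orderOf w = p ^ f := by
      apply Nat.dvd_antisymm
      · exact orderOf_dvd_of_pow_eq_one hw1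
      · apply hkey
        rw [pow_orderOf_eq_one]
        exact one_mem _
    refine ⟨Subgroup.zpowers b, Subgroup.zpowers w, inferInstance, inferInstance, ?_, ?_⟩
    · rw [eq_bot_iff]
      intro x hx
      obtain ⟨hx1, hx2⟩ := Subgroup.mem_inf.mp hx
      obtain ⟨t, ht⟩ := mem_powers_iff_mem_zpowers.mpr hx2
      have ht' : w ^ t = x := ht
      rw [← ht'] at hx1
      obtain ⟨s, rfl⟩ := hkey t hx1
      rw [Subgroup.mem_bot, ← ht', pow_mul, hw1, one_pow]
    · rw [Nat.card_zpowers, Nat.card_zpowers, hob, hw3, h.card_eq, mul_assoc, ← pow_add, ← pow_add]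
      congr 1
      omega

end MC

end

end Cfsg.Agent.Lib.PGroup.Meta
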