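import Mathlib
import Cfsg.Prelude.Def_LocalStructure
import Cfsg.Prelude.Def_Transfer
import Cfsg.Agent.Lib.PGroup.IrredOrd
import Cfsg.Agent.Lib.PGroup.Basic
import Cfsg.Agent.Lib.PSolv.Basic
import Cfsg.Agent.Lib.Coprime.Action
import Cfsg.Agent.Lib.Transfer.Conj

/-!
# Minimal non-closed groups

`card_of_semidirect`: the order of a minimal normal elementary abelian subgroup of index `p`;
`structure_of_min`: the common end of the structure theorems for minimal non-`p`-closed groups and
minimal non-`p`-exponent-closed groups.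
-/

set_option autoImplicit false

namespace Cfsg.Agent.Lib.PGroup

open Subgroup Cfsg

variable {G : Type*} [Group G] [Finite G] {p : ℕ} [hp : Fact p.Prime]

theorem card_eq_of_irreducible' {A : Type*} [Group A] [Finite A] {q : ℕ} [Fact q.Prime]
    (hcomm : ∀ a b : A, a * b = b * a) (hexp : ∀ a : A, a ^ q = 1) (hpq : q ≠ p) (σ : MulAut A)
    (hσ : σ ^ p = 1) (hne : σ ≠ 1)
    (hirr : ∀ B : Subgroup A, (∀ b ∈ B, σ b ∈ B) → B = ⊥ ∨ B = ⊤) :
    Nat.card A = q ^ orderOf (q : ZMod p) := by
  letI : CommGroup A := { (inferInstance : Group A) with mul_comm := hcomm }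
  exact card_eq_of_irreducible hexp hpq σ hσ hne hirr

theorem pclosed_of_coprime {H : Type*} [Group H] [Finite H] (h : (Nat.card H).Coprime p) :
    IsPClosed p H := by
  intro P
  have hP : (P : Subgroup H) = ⊥ := by
    obtain ⟨n, hn⟩ := IsPGroup.iff_card.1 P.isPGroup'
    have hd : Nat.card (P : Subgroup H) ∣ Nat.card H := Subgroup.card_subgroup_dvd_card _
    rw [hn] at hd
    have : p ^ n = 1 := Nat.Coprime.eq_one_of_dvd (Nat.Coprime.pow_left _ h.symm) hd
    rw [this] at hn
    exact Subgroup.eq_bot_of_card_eq _ hn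
  rw [hP]
  infer_instance

theorem pclosed_of_isPGroup {H : Type*} [Group H] [Finite H] (h : IsPGroup p H) :
    IsPClosed p H := by
  intro P
  have hP : (P : Subgroup H) = ⊤ := by
    obtain ⟨n, hn⟩ := IsPGroup.iff_card.1 h
    have hd : (P : Subgroup H).index ∣ p ^ n := hn ▸ Subgroup.index_dvd_card _
    obtain ⟨k, -, hk⟩ := (Nat.dvd_prime_pow hp.out).1 hd
    have hk0 : k = 0 := by
      by_contra h0
      apply P.not_dvd_index
      rw [hk]
      exact dvd_pow_self p h0
    rw [hk0, pow_zero] at hk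
    exact Subgroup.index_eq_one.1 hk
  rw [hP]
  infer_instance

theorem comm_of_sup {A : Subgroup G} (hcomm : ∀ a ∈ A, ∀ b ∈ A, a * b = b * a) {y : G}
    (hsup : A ⊔ zpowers y = ⊤) (hc : ∀ a ∈ A, y * a = a * y) : ∀ g h : G, g * h = h * g := by
  have h1 : ∀ a ∈ A, ∀ g, g * a = a * g := by
    intro a ha g
    have : A ⊔ zpowers y ≤ centralizer {a} := sup_le
      (fun b hb => mem_centralizer_singleton_iff.2 (hcomm b hb a ha))
      (zpowers_le.2 (mem_centralizer_singleton_iff.2 (hc a ha)))
    rw [hsup] at this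
    exact mem_centralizer_singleton_iff.1 (this (mem_top g))
  have h2 : ∀ g, g * y = y * g := by
    intro g
    have : A ⊔ zpowers y ≤ centralizer {y} := sup_le
      (fun b hb => mem_centralizer_singleton_iff.2 (hc b hb).symm)
      (zpowers_le.2 (mem_centralizer_singleton_iff.2 rfl))
    rw [hsup] at this
    exact mem_centralizer_singleton_iff.1 (this (mem_top g))
  have h3 : (⊤ : Subgroup G) ≤ center G := by
    rw [← hsup]
    exact sup_le (fun a ha => mem_center_iff.2 (fun g => h1 a ha g))
      (zpowers_le.2 (mem_center_iff.2 h2))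
  intro g h
  exact mem_center_iff.1 (h3 (mem_top h)) g

/-- The order of a minimal normal elementary abelian subgroup complemented by a group of order `p`
acting nontrivially. -/
theorem card_of_semidirect {A : Subgroup G} [hAn : A.Normal] {q : ℕ} [hq : Fact q.Prime] (hpq : q ≠ p)
    (hA : IsElementaryAbelian q A) {x : G} (hx : orderOf x = p) (hsup : A ⊔ zpowers x = ⊤)
    (hmin : ∀ B : Subgroup G, B.Normal → B ≤ A → B = ⊥ ∨ B = A)
    (hnc : ¬ ∀ a ∈ A, x * a = a * x) : Nat.card A = q ^ orderOf (q : ZMod p) := by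
  have hcomm : ∀ a ∈ A, ∀ b ∈ A, a * b = b * a := by
    intro a ha b hb
    have := hA.1.is_comm.comm ⟨a, ha⟩ ⟨b, hb⟩
    exact congrArg Subtype.val this
  let σ : MulAut A := MulAut.conjNormal x
  have hσval : ∀ a : A, ((σ a : A) : G) = x * a * x⁻¹ := fun a => rfl
  refine card_eq_of_irreducible' (fun a b => Subtype.ext (hcomm a a.2 b b.2))
    (fun a => Subtype.ext (hA.2 a a.2)) hpq σ ?_ ?_ ?_
  · rw [show σ ^ p = MulAut.conjNormal (x ^ p) from (map_pow _ _ _).symm, ← hx, pow_orderOf_eq_one,
      map_one]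
  · intro h
    apply hnc
    intro a ha
    have h1 : ((σ ⟨a, ha⟩ : A) : G) = a := by rw [h]; rfl
    rw [hσval] at h1
    calc x * a = (x * a * x⁻¹) * x := by group
      _ = a * x := by rw [h1]
  · intro B hB
    have hBn : (B.map A.subtype).Normal := by
      rw [← Subgroup.normalizer_eq_top_iff, eq_top_iff, ← hsup]
      refine sup_le ?_ (zpowers_le.2 ?_)
      · intro a ha
        refine Cfsg.Agent.Lib.Transfer.mem_normalizer_of_conj_mem ?_
        rintro _ ⟨b, hb, rfl⟩
        have : a * (b : G) * a⁻¹ = b := by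
          rw [hcomm a ha b b.2]
          group
        simp only [Subgroup.subtype_apply]
        rw [this]
        exact ⟨b, hb, rfl⟩
      · refine Cfsg.Agent.Lib.Transfer.mem_normalizer_of_conj_mem ?_
        rintro _ ⟨b, hb, rfl⟩
        exact ⟨σ b, hB b hb, rfl⟩
    rcases hmin _ hBn (Subgroup.map_subtype_le B) with h | h
    · left
      exact (Subgroup.map_eq_bot_iff_of_injective _ A.subtype_injective).1 h
    · right
      rw [eq_top_iff]
      intro a _
      have : (a : G) ∈ B.map A.subtype := by rw [h]; exact a.2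
      obtain ⟨b, hb, hab⟩ := this
      have : b = a := Subtype.ext hab
      rwa [← this]

/-- **The common end of the structure theorems** for minimal non-closed groups. -/
theorem structure_of_min {R : Subgroup G} [hRn : R.Normal] (hcop : (Nat.card R).Coprime p)
    (hR : R ≠ ⊥) {x : G} (hx : orderOf x = p) (hcard : Nat.card G = p * Nat.card R)
    (hmin : ∀ B : Subgroup G, B.Normal → B ≤ R → B = ⊥ ∨ B = R) (hnc : ¬ ∀ r ∈ R, x * r = r * x)
    (htr : ∀ T : Subgroup G, T ≠ ⊤ → x ∈ T → ∀ t ∈ T, t * x * t⁻¹ ∈ zpowers x) :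
    ∃ q : ℕ, q.Prime ∧ q ≠ p ∧ Nat.card G = p * q ^ orderOf (q : ZMod p) ∧
      ∃ A : Subgroup G, A.Normal ∧ Nat.card ↥A = q ^ orderOf (q : ZMod p) ∧
        IsElementaryAbelian q A ∧ ∀ B : Subgroup G, B.Normal → B ≤ A → B = ⊥ ∨ B = A := by
  classical
  have hpp : p.Prime := hp.out
  have hdisj : ∀ z, z ∈ R → z ∈ zpowers x → z = 1 := by
    intro z hz1 hz2
    have h1 : orderOf z ∣ Nat.card R := by
      have := orderOf_dvd_natCard (⟨z, hz1⟩ : R)
      rwa [Subgroup.orderOf_mk] at this
    have h2 : orderOf z ∣ p := by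
      rw [← hx]
      exact orderOf_dvd_of_mem_zpowers hz2
    exact orderOf_eq_one_iff.1 (Nat.Coprime.eq_one_of_dvd (hcop.coprime_dvd_left h1) h2)
  have hinf : zpowers x ⊓ R = ⊥ := by
    rw [eq_bot_iff]
    rintro z ⟨hz1, hz2⟩
    exact hdisj z hz2 hz1
  have hsup : R ⊔ zpowers x = ⊤ := by
    have h1 := Cfsg.Agent.Lib.PSolv.card_sup_mul_card_inf (zpowers x) R
    rw [hinf, Subgroup.card_bot, mul_one, Nat.card_zpowers, hx, ← hcard, sup_comm] at h1
    exact Subgroup.eq_top_of_card_eq _ h1
  have hzp : IsPGroup p (zpowers x) := IsPGroup.of_card (n := 1) (by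
    rw [Nat.card_zpowers, hx, pow_one])
  haveI : Group.IsNilpotent (zpowers x) := hzp.isNilpotent
  letI act : MulDistribMulAction (zpowers x) R :=
    MulDistribMulAction.compHom R ((MulAut.conjNormal : G →* MulAut R).comp (zpowers x).subtype)
  have hact : ∀ (t : zpowers x) (m : R), ((t • m : R) : G) = t * m * (t : G)⁻¹ := fun t m => rfl
  have hcop' : (Nat.card (zpowers x)).Coprime (Nat.card R) := by
    rw [Nat.card_zpowers, hx]
    exact hcop.symm
  obtain ⟨C, hC⟩ : ∃ C : Subgroup R, C = (centralizer ({x} : Set G)).subgroupOf R := ⟨_, rfl⟩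
  have key : ∀ q : ℕ, q.Prime → q ∣ Nat.card R → IsPGroup q R ∨ ¬ q ∣ C.index := by
    intro q hq hqd
    haveI : Fact q.Prime := ⟨hq⟩
    obtain ⟨P, hP⟩ := Cfsg.Agent.Lib.Coprime.exists_fixed_sylow (A := zpowers x) (G := R) hcop'
      (Or.inl inferInstance) q
    obtain ⟨Q', hQ'⟩ : ∃ Q' : Subgroup G, Q' = (P : Subgroup R).map R.subtype := ⟨_, rfl⟩
    have hQR : Q' ≤ R := by
      rw [hQ']
      exact Subgroup.map_subtype_le _
    have hxQ : ∀ y ∈ Q', x * y * x⁻¹ ∈ Q' := by
      rw [hQ']
      rintro _ ⟨m, hm, rfl⟩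
      have hxm : x ∈ zpowers x := mem_zpowers x
      have h1 : ((⟨x, hxm⟩ : zpowers x) • m) ∈ (((⟨x, hxm⟩ : zpowers x) • P : Sylow q R) : Subgroup R) := by
        rw [Sylow.pointwise_smul_def]
        exact Subgroup.smul_mem_pointwise_smul m (⟨x, hxm⟩ : zpowers x) _ hm
      rw [hP] at h1
      exact ⟨_, h1, hact _ _⟩
    have hxT : x ∈ normalizer (Q' : Set G) := Cfsg.Agent.Lib.Transfer.mem_normalizer_of_conj_mem hxQ
    by_cases hT : normalizer (Q' : Set G) = ⊤
    · left
      have hQn : Q'.Normal := Subgroup.normalizer_eq_top_iff.1 hT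
      rcases hmin Q' hQn hQR with h | h
      · exfalso
        have hne := P.ne_bot_of_dvd_card hqd
        apply hne
        rw [hQ'] at h
        exact (Subgroup.map_eq_bot_iff_of_injective _ R.subtype_injective).1 h
      · have hQp : IsPGroup q Q' := by
          rw [hQ']
          exact P.isPGroup'.map R.subtype
        exact hQp.to_le h.ge
    · right
      have hle : (P : Subgroup R) ≤ C := by
        intro t ht
        rw [hC, Subgroup.mem_subgroupOf, mem_centralizer_singleton_iff]
        have htQ : (t : G) ∈ Q' := by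
          rw [hQ']
          exact ⟨t, ht, rfl⟩
        have h1 := htr _ hT hxT (t : G) (Subgroup.le_normalizer htQ)
        have h2 : (t : G) * x * (t : G)⁻¹ * x⁻¹ ∈ zpowers x :=
          mul_mem h1 (inv_mem (mem_zpowers x))
        have h3 : (t : G) * x * (t : G)⁻¹ * x⁻¹ ∈ R := by
          have : (t : G) * x * (t : G)⁻¹ * x⁻¹ = (t : G) * (x * (t : G)⁻¹ * x⁻¹) := by group
          rw [this]
          exact mul_mem t.2 (Subgroup.Normal.conj_mem hRn _ (inv_mem t.2) x)
        have h4 := hdisj _ h3 h2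
        have h5 : (t : G) * x = x * t := by
          calc (t : G) * x = ((t : G) * x * (t : G)⁻¹ * x⁻¹) * (x * t) := by group
            _ = x * t := by rw [h4, one_mul]
        exact h5.symm ▸ rfl
      intro hd
      exact P.not_dvd_index (hd.trans (Subgroup.index_dvd_of_le hle))
  obtain ⟨q, hq, hqd, hRq⟩ : ∃ q : ℕ, q.Prime ∧ q ∣ Nat.card R ∧ IsPGroup q R := by
    by_contra hcon
    push_neg at hcon
    have hidx : C.index = 1 := by
      by_contra h1
      obtain ⟨q, hq, hqd⟩ := Nat.exists_prime_and_dvd h1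
      have hqR : q ∣ Nat.card R := hqd.trans (Subgroup.index_dvd_card _)
      rcases key q hq hqR with h | h
      · exact hcon q hq hqR h
      · exact h hqd
    apply hnc
    intro r hr
    have h1 : (⟨r, hr⟩ : R) ∈ C := by
      rw [Subgroup.index_eq_one.1 hidx]
      trivial
    rw [hC, Subgroup.mem_subgroupOf, mem_centralizer_singleton_iff] at h1
    exact h1.symm
  haveI hqf : Fact q.Prime := ⟨hq⟩
  have hqp : q ≠ p := by
    rintro rfl
    exact (Nat.Prime.coprime_iff_not_dvd hq).1 hcop.symm hqd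
  have hRnt : Nontrivial R := (Subgroup.nontrivial_iff_ne_bot R).2 hR
  -- `R` is abelian
  have hcomm : ∀ a ∈ R, ∀ b ∈ R, a * b = b * a := by
    haveI hZch : (center R).Characteristic := inferInstance
    have hZn : ((center R).map R.subtype).Normal := map_subtype_normal_of_characteristic R (center R)
    rcases hmin _ hZn (Subgroup.map_subtype_le _) with h | h
    · exfalso
      have hnt : Nontrivial (center R) := hRq.center_nontrivial
      have := (Subgroup.map_eq_bot_iff_of_injective _ R.subtype_injective).1 h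
      rw [Subgroup.nontrivial_iff_ne_bot] at hnt
      exact hnt this
    · intro a ha b hb
      have : a ∈ (center R).map R.subtype := by rw [h]; exact ha
      obtain ⟨z, hz, rfl⟩ := this
      have h1 := mem_center_iff.1 hz ⟨b, hb⟩
      exact (congrArg Subtype.val h1).symm
  -- `R` has exponent `q`
  have hexp : ∀ a ∈ R, a ^ q = 1 := by
    let W : Subgroup G :=
      { carrier := {a | a ∈ R ∧ a ^ q = 1}
        mul_mem' := fun {a b} ha hb => ⟨mul_mem ha.1 hb.1, by
          rw [(show Commute a b from hcomm a ha.1 b hb.1).mul_pow, ha.2, hb.2, one_mul]⟩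
        one_mem' := ⟨one_mem _, one_pow _⟩
        inv_mem' := fun {a} ha => ⟨inv_mem ha.1, by rw [inv_pow, ha.2, inv_one]⟩ }
    have hWn : W.Normal := by
      refine ⟨fun a ha g => ⟨Subgroup.Normal.conj_mem hRn a ha.1 g, ?_⟩⟩
      rw [conj_pow, ha.2, mul_one, mul_inv_cancel]
    rcases hmin W hWn (fun a ha => ha.1) with h | h
    · exfalso
      obtain ⟨y, hy⟩ := exists_prime_orderOf_dvd_card' (G := R) q hqd
      have h1 : (y : G) ∈ W := ⟨y.2, by
        have := pow_orderOf_eq_one y
        rw [hy] at this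
        exact congrArg Subtype.val this⟩
      rw [h, Subgroup.mem_bot] at h1
      have hy1 : y = 1 := Subtype.ext h1
      rw [hy1, orderOf_one] at hy
      exact hq.one_lt.ne hy
    · intro a ha
      have : a ∈ W := by rw [h]; exact ha
      exact this.2
  have hEA : IsElementaryAbelian q R :=
    ⟨IsMulCommutative.of_comm (fun a b => Subtype.ext (hcomm a a.2 b b.2)), hexp⟩
  have hRcard : Nat.card R = q ^ orderOf (q : ZMod p) :=
    card_of_semidirect hqp hEA hx hsup hmin hnc
  exact ⟨q, hq, hqp, by rw [hcard, hRcard], R, hRn, hRcard, hEA, hmin⟩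

end Cfsg.Agent.Lib.PGroup
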