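import Mathlib
import Cfsg.Prelude.Def_Transfer
import Cfsg.Agent.Lib.PGroup.MaxNormal
import Cfsg.Agent.Lib.PGroup.Meta4

/-!
# Nilpotent minimal covers
-/

set_option autoImplicit false

namespace Cfsg.Agent.Lib.PGroup.NilCover

open Cfsg Subgroup
open scoped Pointwise

universe u

variable {G : Type u} [Group G] [Finite G] {p : ℕ} [hp : Fact p.Prime]

/-- The `p`-decomposition of an element. -/
theorem exists_decomp (x : G) : ∃ s v : G, s ∈ zpowers x ∧ v ∈ zpowers x ∧ x = s * v ∧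
    IsPGroup p (zpowers s) ∧ (orderOf v).Coprime p := by
  have hn : orderOf x ≠ 0 := (orderOf_pos x).ne'
  obtain ⟨k, m, hm, he⟩ := Nat.exists_eq_pow_mul_and_not_dvd hn p hp.out.ne_one
  have hc : Nat.Coprime (p ^ k) m :=
    Nat.Coprime.pow_left _ ((Nat.Prime.coprime_iff_not_dvd hp.out).mpr hm)
  have hb := Nat.gcd_eq_gcd_ab (p ^ k) m
  rw [hc, Nat.cast_one] at hb
  set A := Nat.gcdA (p ^ k) m
  set B := Nat.gcdB (p ^ k) m
  let s := x ^ ((m : ℤ) * B)
  let v := x ^ (((p ^ k : ℕ) : ℤ) * A)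
  have hxord : x ^ (p ^ k * m) = 1 := by
    rw [← he, pow_orderOf_eq_one]
  refine ⟨s, v, zpow_mem (mem_zpowers x) _, zpow_mem (mem_zpowers x) _, ?_, ?_, ?_⟩
  · show x = x ^ ((m : ℤ) * B) * x ^ (((p ^ k : ℕ) : ℤ) * A)
    rw [← zpow_add]
    have : (m : ℤ) * B + ((p ^ k : ℕ) : ℤ) * A = 1 := by rw [hb]; ring
    rw [this, zpow_one]
  · have h1 : s ^ p ^ k = 1 := by
      show (x ^ ((m : ℤ) * B)) ^ p ^ k = 1
      rw [← zpow_natCast, ← zpow_mul]
      have e : (m : ℤ) * B * ((p ^ k : ℕ) : ℤ) = ((p ^ k * m : ℕ) : ℤ) * B := by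
        push_cast
        ring
      rw [e, zpow_mul, zpow_natCast, hxord, one_zpow]
    have h2 : orderOf s ∣ p ^ k := orderOf_dvd_of_pow_eq_one h1
    obtain ⟨e, _, he⟩ := (Nat.dvd_prime_pow hp.out).mp h2
    apply IsPGroup.of_card (n := e)
    rw [Nat.card_zpowers, he]
  · have h1 : v ^ m = 1 := by
      show (x ^ (((p ^ k : ℕ) : ℤ) * A)) ^ m = 1
      rw [← zpow_natCast, ← zpow_mul]
      have e : ((p ^ k : ℕ) : ℤ) * A * (m : ℤ) = ((p ^ k * m : ℕ) : ℤ) * A := by
        push_cast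
        ring
      rw [e, zpow_mul, zpow_natCast, hxord, one_zpow]
    have h2 : orderOf v ∣ m := orderOf_dvd_of_pow_eq_one h1
    exact Nat.Coprime.coprime_dvd_left h2 ((Nat.Prime.coprime_iff_not_dvd hp.out).mpr hm).symm

/-- Commuting elements of coprime orders are powers of their product. -/
theorem mem_zpowers_mul_of_coprime {x v : G} (hc : Commute x v)
    (hcop : Nat.Coprime (orderOf x) (orderOf v)) : x ∈ zpowers (x * v) := by
  obtain ⟨y, hy⟩ := Cfsg.Agent.Lib.PGroup.Meta.exists_modEq_inv hcop.symm (orderOf_pos x)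
  have h1 : (x * v) ^ (orderOf v * y) = x := by
    rw [pow_mul, hc.mul_pow, pow_orderOf_eq_one, mul_one, ← pow_mul]
    have : x ^ (orderOf v * y) = x ^ 1 := by
      rw [pow_eq_pow_iff_modEq]
      exact hy
    rw [this, pow_one]
  have h2 : (x * v) ^ (orderOf v * y) ∈ zpowers (x * v) := pow_mem (mem_zpowers (x * v)) _
  rwa [h1] at h2

omit [Finite G] in
theorem mem_smul_iff (P : Sylow p G) (x g : G) :
    g ∈ ((x • P : Sylow p G) : Subgroup G) ↔ x⁻¹ * g * x ∈ (P : Subgroup G) := by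
  rw [Sylow.coe_subgroup_smul, Subgroup.mem_pointwise_smul_iff_inv_smul_mem]
  rw [MulAut.smul_def, MulAut.conj_inv_apply]

/-- A `p`-subgroup normalizing a Sylow subgroup lies in it. -/
theorem le_of_le_normalizer (P : Sylow p G) {Q : Subgroup G} (hQ : IsPGroup p Q)
    (h : Q ≤ normalizer ((P : Subgroup G) : Set G)) : Q ≤ P := by
  have h1 : P ∈ MulAction.fixedPoints Q (Sylow p G) := by
    rintro ⟨q, hq⟩
    show q • P = P
    rw [Sylow.smul_eq_iff_mem_normalizer]
    exact h hq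
  exact hQ.sylow_mem_fixedPoints_iff.mp h1

omit [Finite G] in
theorem centralizer_le_normalizer' (Q : Subgroup G) :
    centralizer (Q : Set G) ≤ normalizer (Q : Set G) := by
  intro s hs
  rw [mem_normalizer_iff]
  intro h
  constructor
  · intro hh
    have h1 : h * s = s * h := mem_centralizer_iff.mp hs h hh
    have h2 : s * h * s⁻¹ = h := by rw [← h1]; group
    rwa [h2]
  · intro hh
    have h1 : s * h * s⁻¹ * s = s * (s * h * s⁻¹) := mem_centralizer_iff.mp hs _ hh
    have h2 : s * h * s⁻¹ * s = s * h := by group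
    rw [h2] at h1
    have h3 : h = s * h * s⁻¹ := mul_left_cancel h1
    rwa [h3]

/-- The minimal cover hypotheses. -/
structure NC (𝓐 : Finset (Subgroup G)) : Prop where
  proper : ∀ A ∈ 𝓐, A ≠ ⊤
  cover : ∀ g : G, ∃ A ∈ 𝓐, g ∈ A
  minimal : ∀ 𝓑 : Finset (Subgroup G), (∀ A ∈ 𝓑, A ≠ ⊤) ∧ (∀ g : G, ∃ A ∈ 𝓑, g ∈ A) → 𝓐.card ≤ 𝓑.card
  nil : ∀ A ∈ 𝓐, Group.IsNilpotent ↥A

variable {𝓐 : Finset (Subgroup G)}

namespace NC

/-- Two members in one proper subgroup coincide. -/
theorem eq_of_le (h : NC 𝓐) {T B C : Subgroup G} (hT : T ≠ ⊤) (hB : B ∈ 𝓐) (hC : C ∈ 𝓐)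
    (hBT : B ≤ T) (hCT : C ≤ T) : B = C := by
  classical
  by_contra hne
  let 𝓑 : Finset (Subgroup G) := insert T ((𝓐.erase B).erase C)
  have hcard : 𝓑.card < 𝓐.card := by
    have h1 : 𝓑.card ≤ ((𝓐.erase B).erase C).card + 1 := Finset.card_insert_le _ _
    have h2 : C ∈ 𝓐.erase B := Finset.mem_erase.mpr ⟨Ne.symm hne, hC⟩
    have h3 : ((𝓐.erase B).erase C).card = (𝓐.erase B).card - 1 := Finset.card_erase_of_mem h2
    have h4 : (𝓐.erase B).card = 𝓐.card - 1 := Finset.card_erase_of_mem hB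
    have h5 : 0 < (𝓐.erase B).card := Finset.card_pos.mpr ⟨C, h2⟩
    omega
  have := h.minimal 𝓑 ⟨?_, ?_⟩
  · omega
  · intro A hA
    rcases Finset.mem_insert.mp hA with rfl | hA
    · exact hT
    · exact h.proper A (Finset.mem_of_mem_erase (Finset.mem_of_mem_erase hA))
  · intro g
    obtain ⟨A, hA, hg⟩ := h.cover g
    by_cases h1 : A = B
    · exact ⟨T, Finset.mem_insert_self _ _, hBT (h1 ▸ hg)⟩
    by_cases h2 : A = C
    · exact ⟨T, Finset.mem_insert_self _ _, hCT (h2 ▸ hg)⟩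
    exact ⟨A, Finset.mem_insert_of_mem (Finset.mem_erase.mpr ⟨h2, Finset.mem_erase.mpr ⟨h1, hA⟩⟩), hg⟩

/-- All `p`-subgroups are abelian when one Sylow is. -/
theorem abelian_of_sylow (P : Sylow p G) (hab : IsMulCommutative ↥(P : Subgroup G))
    {T : Subgroup G} (hT : IsPGroup p T) {x y : G} (hx : x ∈ T) (hy : y ∈ T) : x * y = y * x := by
  obtain ⟨Q, hQ⟩ := hT.exists_le_sylow
  obtain ⟨g, rfl⟩ := MulAction.exists_smul_eq G P Q
  have h1 := (mem_smul_iff P g x).mp (hQ hx)
  have h2 := (mem_smul_iff P g y).mp (hQ hy)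
  have h3 := congrArg Subtype.val (hab.is_comm.comm ⟨_, h1⟩ ⟨_, h2⟩)
  have h4 : g⁻¹ * x * g * (g⁻¹ * y * g) = g⁻¹ * y * g * (g⁻¹ * x * g) := h3
  have h5 : g⁻¹ * (x * y) * g = g⁻¹ * (y * x) * g := by
    calc g⁻¹ * (x * y) * g = g⁻¹ * x * g * (g⁻¹ * y * g) := by group
      _ = g⁻¹ * y * g * (g⁻¹ * x * g) := h4
      _ = g⁻¹ * (y * x) * g := by group
  exact mul_left_cancel (mul_right_cancel h5)

/-- A member containing a `p`-element centralizes it. -/
theorem member_le_centralizer (h : NC 𝓐) (P : Sylow p G) (hab : IsMulCommutative ↥(P : Subgroup G))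
    {B : Subgroup G} (hB : B ∈ 𝓐) {w : G} (hw : w ∈ B) (hwp : IsPGroup p (zpowers w)) :
    B ≤ centralizer ({w} : Set G) := by
  intro b hb
  rw [mem_centralizer_singleton_iff]
  haveI := h.nil B hB
  obtain ⟨s, v, hs, hv, rfl, hsp, hvc⟩ := exists_decomp (p := p) b
  have hsB : s ∈ B := (zpowers_le.mpr hb) hs
  have hvB : v ∈ B := (zpowers_le.mpr hb) hv
  have e1 : IsPGroup p (zpowers (⟨w, hw⟩ : B)) := by
    obtain ⟨k, hk⟩ := IsPGroup.iff_card.mp hwp
    apply IsPGroup.of_card (n := k)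
    rw [Nat.card_zpowers, Subgroup.orderOf_mk, ← Nat.card_zpowers, hk]
  have e2 : IsPGroup p (zpowers (⟨s, hsB⟩ : B)) := by
    obtain ⟨k, hk⟩ := IsPGroup.iff_card.mp hsp
    apply IsPGroup.of_card (n := k)
    rw [Nat.card_zpowers, Subgroup.orderOf_mk, ← Nat.card_zpowers, hk]
  have h1 : Commute (⟨w, hw⟩ : B) (⟨v, hvB⟩ : B) :=
    Cfsg.Agent.Lib.PGroup.commute_of_nilpotent_of_coprime e1
      (by rw [Subgroup.orderOf_mk]; exact hvc)
  have h1' : w * v = v * w := congrArg Subtype.val h1.eq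
  -- the `p`-part
  have h2 : zpowers (⟨w, hw⟩ : B) ≤ Cfsg.pCore p B :=
    Cfsg.Agent.Lib.Core.subnormal_pgroup_le_pCore p _ (Cfsg.Agent.S0064.result.mp inferInstance _) e1
  have h3 : zpowers (⟨s, hsB⟩ : B) ≤ Cfsg.pCore p B :=
    Cfsg.Agent.Lib.Core.subnormal_pgroup_le_pCore p _ (Cfsg.Agent.S0064.result.mp inferInstance _) e2
  have hT : IsPGroup p ((Cfsg.pCore p B).map B.subtype) :=
    (Cfsg.Agent.Lib.Core.pCore_isPGroup p B).map _
  have h4 : w * s = s * w :=
    abelian_of_sylow P hab hT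
      (Subgroup.mem_map.mpr ⟨_, h2 (mem_zpowers _), rfl⟩)
      (Subgroup.mem_map.mpr ⟨_, h3 (mem_zpowers _), rfl⟩)
  show s * v * w = w * (s * v)
  calc s * v * w = s * (v * w) := mul_assoc _ _ _
    _ = s * (w * v) := by rw [h1']
    _ = (s * w) * v := by rw [mul_assoc]
    _ = (w * s) * v := by rw [h4]
    _ = w * (s * v) := mul_assoc _ _ _

/-- A nontrivial `p`-element lies in at most one member. -/
theorem unique_member (h : NC 𝓐) (hZ : center G = ⊥) (P : Sylow p G)
    (hab : IsMulCommutative ↥(P : Subgroup G)) {B C : Subgroup G} (hB : B ∈ 𝓐) (hC : C ∈ 𝓐) {w : G}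
    (hw1 : w ≠ 1) (hwB : w ∈ B) (hwC : w ∈ C) (hwp : IsPGroup p (zpowers w)) : B = C := by
  have hT : centralizer ({w} : Set G) ≠ ⊤ := by
    intro htop
    apply hw1
    have : w ∈ center G := by
      rw [Subgroup.mem_center_iff]
      intro g
      have : g ∈ centralizer ({w} : Set G) := by
        rw [htop]
        trivial
      exact (mem_centralizer_singleton_iff.mp this)
    rw [hZ] at this
    exact this
  exact h.eq_of_le hT hB hC (h.member_le_centralizer P hab hB hwB hwp)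
    (h.member_le_centralizer P hab hC hwC hwp)

omit hp in
theorem isPGroup_zpowers_of_mem [Fact p.Prime] (Q : Sylow p G) {w : G} (hw : w ∈ (Q : Subgroup G)) :
    IsPGroup p (zpowers w) :=
  Q.isPGroup'.to_le (zpowers_le.mpr hw)

/-- A good Sylow subgroup lies in a member. -/
theorem exists_member_ge (h : NC 𝓐) (hZ : center G = ⊥) (P : Sylow p G)
    (hab : IsMulCommutative ↥(P : Subgroup G)) (Q : Sylow p G)
    (hgood : (∃ x ∈ (Q : Subgroup G), (Q : Subgroup G) ≤ zpowers x) ∨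
      (∃ x ∈ (Q : Subgroup G), x ^ p ≠ 1)) :
    ∃ A ∈ 𝓐, (Q : Subgroup G) ≤ A := by
  have hp1 := hp.out.one_lt
  rcases hgood with ⟨x, _, hx⟩ | ⟨x₀, hx₀, hx₀1⟩
  · obtain ⟨A, hA, hxA⟩ := h.cover x
    exact ⟨A, hA, hx.trans (zpowers_le.mpr hxA)⟩
  have hcomm : ∀ x ∈ (Q : Subgroup G), ∀ y ∈ (Q : Subgroup G), Commute x y := fun x hx y hy =>
    abelian_of_sylow P hab Q.isPGroup' hx hy
  -- an element of maximal order
  obtain ⟨x, hxQ, hmax⟩ : ∃ x ∈ (Q : Subgroup G), ∀ y ∈ (Q : Subgroup G), orderOf y ≤ orderOf x := by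
    obtain ⟨x, hx, hm⟩ := Set.exists_max_image ((Q : Subgroup G) : Set G) orderOf (Set.toFinite _)
      ⟨1, one_mem _⟩
    exact ⟨x, hx, hm⟩
  have hord : ∀ y ∈ (Q : Subgroup G), ∃ k, orderOf y = p ^ k := by
    intro y hy
    obtain ⟨k, hk⟩ := IsPGroup.iff_card.mp (isPGroup_zpowers_of_mem Q hy)
    exact ⟨k, by rw [← Nat.card_zpowers, hk]⟩
  obtain ⟨e, he⟩ := hord x hxQ
  have hexp : ∀ y ∈ (Q : Subgroup G), y ^ p ^ e = 1 := by
    intro y hy
    obtain ⟨f, hf⟩ := hord y hy
    have h1 := hmax y hy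
    rw [hf, he, Nat.pow_le_pow_iff_right hp1] at h1
    rw [← orderOf_dvd_iff_pow_eq_one, hf]
    exact pow_dvd_pow p h1
  have he2 : 2 ≤ e := by
    by_contra hlt
    apply hx₀1
    have h1 := hexp x₀ hx₀
    rw [← orderOf_dvd_iff_pow_eq_one] at h1 ⊢
    exact h1.trans (pow_dvd_pow p (show e ≤ 1 by omega) |>.trans (by simp))
  obtain ⟨e', rfl⟩ : ∃ e', e = e' + 2 := ⟨e - 2, by omega⟩
  set z := x ^ p ^ (e' + 1) with hz
  have hz1 : z ≠ 1 := by
    apply pow_ne_one_of_lt_orderOf (by positivity)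
    rw [he]
    exact Nat.pow_lt_pow_right hp1 (by omega)
  have hzQ : z ∈ (Q : Subgroup G) := pow_mem hxQ _
  obtain ⟨A, hA, hxA⟩ := h.cover x
  have hzA : z ∈ A := pow_mem hxA _
  have hclaim1 : ∀ y ∈ (Q : Subgroup G), y ^ p ^ (e' + 1) = 1 → y ∈ A := by
    intro y hy hy1
    have ht : x * y ∈ (Q : Subgroup G) := mul_mem hxQ hy
    obtain ⟨B, hB, htB⟩ := h.cover (x * y)
    have h1 : (x * y) ^ p ^ (e' + 1) = z := by
      rw [(hcomm x hxQ y hy).mul_pow, hy1, mul_one]
    have hzB : z ∈ B := h1 ▸ pow_mem htB _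
    have h2 : B = A :=
      h.unique_member hZ P hab hB hA hz1 hzB hzA (isPGroup_zpowers_of_mem Q hzQ)
    rw [h2] at htB
    have h3 : y = x⁻¹ * (x * y) := by group
    rw [h3]
    exact mul_mem (inv_mem hxA) htB
  refine ⟨A, hA, ?_⟩
  intro y hy
  by_cases hy1 : y ^ p ^ (e' + 1) = 1
  · exact hclaim1 y hy hy1
  obtain ⟨B, hB, hyB⟩ := h.cover y
  have hy₁Q : y ^ p ∈ (Q : Subgroup G) := pow_mem hy _
  have hy₁ : (y ^ p) ^ p ^ (e' + 1) = 1 := by
    rw [← pow_mul, ← pow_succ']
    exact hexp y hy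
  have hy₁A := hclaim1 _ hy₁Q hy₁
  have hy₁1 : y ^ p ≠ 1 := by
    intro h0
    apply hy1
    rw [pow_succ', pow_mul, h0, one_pow]
  have h2 : B = A :=
    h.unique_member hZ P hab hB hA hy₁1 (pow_mem hyB _) hy₁A (isPGroup_zpowers_of_mem Q hy₁Q)
  exact h2 ▸ hyB

/-- A member over a Sylow subgroup is its centralizer. -/
theorem centralizer_eq (h : NC 𝓐) (hZ : center G = ⊥) (P : Sylow p G)
    (hab : IsMulCommutative ↥(P : Subgroup G)) (Q : Sylow p G) (hQ : (Q : Subgroup G) ≠ ⊥)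
    {A : Subgroup G} (hA : A ∈ 𝓐) (hQA : (Q : Subgroup G) ≤ A) :
    centralizer ((Q : Subgroup G) : Set G) = A := by
  obtain ⟨⟨x, hxQ⟩, hx1'⟩ := Subgroup.ne_bot_iff_exists_ne_one.mp hQ
  have hx1 : x ≠ 1 := fun h0 => hx1' (Subtype.ext h0)
  apply le_antisymm
  · intro g hg
    obtain ⟨s, v, hs, hv, rfl, hsp, hvc⟩ := exists_decomp (p := p) g
    have hsC : s ∈ centralizer ((Q : Subgroup G) : Set G) := (zpowers_le.mpr hg) hs
    have hvC : v ∈ centralizer ((Q : Subgroup G) : Set G) := (zpowers_le.mpr hg) hv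
    -- the `p`-part lies in `Q`
    have hsQ : s ∈ (Q : Subgroup G) := by
      have h1 : zpowers s ≤ normalizer ((Q : Subgroup G) : Set G) := by
        rw [zpowers_le]
        exact centralizer_le_normalizer' _ hsC
      exact le_of_le_normalizer Q hsp h1 (mem_zpowers s)
    -- the `p'`-part
    have hcx : Commute x v := (mem_centralizer_iff.mp hvC x hxQ)
    have hxp := isPGroup_zpowers_of_mem Q hxQ
    have hcop : Nat.Coprime (orderOf x) (orderOf v) := by
      obtain ⟨k, hk⟩ := IsPGroup.iff_card.mp hxp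
      rw [← Nat.card_zpowers, hk]
      exact (Nat.Coprime.pow_left k hvc.symm)
    obtain ⟨B, hB, htB⟩ := h.cover (x * v)
    have h1 : x ∈ B := (zpowers_le.mpr htB) (mem_zpowers_mul_of_coprime hcx hcop)
    have h2 : B = A := h.unique_member hZ P hab hB hA hx1 h1 (hQA hxQ) hxp
    rw [h2] at htB h1
    have h3 : v = x⁻¹ * (x * v) := by group
    exact mul_mem (hQA hsQ) (h3 ▸ mul_mem (inv_mem h1) htB)
  · intro g hg
    rw [mem_centralizer_iff]
    intro x hx
    by_cases hx1 : x = 1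
    · rw [hx1, one_mul, mul_one]
    have h1 := h.member_le_centralizer P hab hA (hQA hx) (isPGroup_zpowers_of_mem Q hx) hg
    exact (mem_centralizer_singleton_iff.mp h1).symm

/-- Conjugation preserves goodness. -/
theorem good_smul (P : Sylow p G)
    (hgood : (∃ x ∈ (P : Subgroup G), (P : Subgroup G) ≤ zpowers x) ∨
      (∃ x ∈ (P : Subgroup G), x ^ p ≠ 1)) (g : G) :
    (∃ x ∈ ((g • P : Sylow p G) : Subgroup G), ((g • P : Sylow p G) : Subgroup G) ≤ zpowers x) ∨
      (∃ x ∈ ((g • P : Sylow p G) : Subgroup G), x ^ p ≠ 1) := by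
  have hmem : ∀ x ∈ (P : Subgroup G), g * x * g⁻¹ ∈ ((g • P : Sylow p G) : Subgroup G) := by
    intro x hx
    rw [mem_smul_iff]
    have e : g⁻¹ * (g * x * g⁻¹) * g = x := by group
    rwa [e]
  rcases hgood with ⟨x, hx, hle⟩ | ⟨x, hx, hx1⟩
  · left
    refine ⟨g * x * g⁻¹, hmem x hx, ?_⟩
    intro y hy
    have h1 := hle ((mem_smul_iff P g y).mp hy)
    obtain ⟨k, hk⟩ := Subgroup.mem_zpowers_iff.mp h1
    refine Subgroup.mem_zpowers_iff.mpr ⟨k, ?_⟩
    rw [conj_zpow, hk]
    group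
  · right
    refine ⟨g * x * g⁻¹, hmem x hx, ?_⟩
    rw [conj_pow]
    intro h0
    apply hx1
    have : x ^ p = g⁻¹ * (g * x ^ p * g⁻¹) * g := by group
    rw [this, h0]
    group

/-- The main theorem on good Sylow subgroups. -/
theorem main (h : NC 𝓐) (hZ : center G = ⊥) (P : Sylow p G)
    (hab : IsMulCommutative ↥(P : Subgroup G)) (hnn : ¬ (P : Subgroup G).Normal)
    (hgood : (∃ x ∈ (P : Subgroup G), (P : Subgroup G) ≤ zpowers x) ∨
      (∃ x ∈ (P : Subgroup G), x ^ p ≠ 1)) :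
    (∃ A ∈ 𝓐, (P : Subgroup G) ≤ A ∧ centralizer ((P : Subgroup G) : Set G) = A) ∧
      (∀ M : Subgroup G, M ≠ ⊤ → centralizer ((P : Subgroup G) : Set G) ≤ M →
        M ≤ normalizer ((P : Subgroup G) : Set G)) ∧
      (∀ g : G, g ∉ normalizer ((P : Subgroup G) : Set G) →
        ¬ p ∣ Nat.card ↥(normalizer ((P : Subgroup G) : Set G) ⊓
          (normalizer ((P : Subgroup G) : Set G)).map (MulAut.conj g).toMonoidHom)) := by
  classical
  have hPne : (P : Subgroup G) ≠ ⊥ := by
    intro h0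
    apply hnn
    rw [h0]
    infer_instance
  have hne : ∀ g : G, ((g • P : Sylow p G) : Subgroup G) ≠ ⊥ := by
    intro g h0
    apply hPne
    rw [eq_bot_iff]
    intro x hx
    have h1 : g * x * g⁻¹ ∈ ((g • P : Sylow p G) : Subgroup G) := by
      rw [mem_smul_iff]
      have e : g⁻¹ * (g * x * g⁻¹) * g = x := by group
      rwa [e]
    rw [h0, Subgroup.mem_bot] at h1
    have : x = g⁻¹ * (g * x * g⁻¹) * g := by group
    rw [this, h1]
    simp
  -- every conjugate has its member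
  have hall : ∀ g : G, centralizer (((g • P : Sylow p G) : Subgroup G) : Set G) ∈ 𝓐 ∧
      ((g • P : Sylow p G) : Subgroup G) ≤ centralizer (((g • P : Sylow p G) : Subgroup G) : Set G) := by
    intro g
    obtain ⟨A, hA, hle⟩ := h.exists_member_ge hZ P hab (g • P) (good_smul P hgood g)
    have e := h.centralizer_eq hZ P hab (g • P) (hne g) hA hle
    rw [e]
    exact ⟨hA, hle⟩
  have huniq : ∀ (g : G) (B : Subgroup G), B ∈ 𝓐 → ∀ w ∈ ((g • P : Sylow p G) : Subgroup G), w ≠ 1 →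
      w ∈ B → B = centralizer (((g • P : Sylow p G) : Subgroup G) : Set G) := by
    intro g B hB w hw hw1 hwB
    obtain ⟨hA, hle⟩ := hall g
    exact h.unique_member hZ P hab hB hA hw1 hwB (hle hw) (isPGroup_zpowers_of_mem (g • P) hw)
  have h1P : (1 : G) • P = P := one_smul _ _
  have hA0 := hall 1
  rw [h1P] at hA0
  obtain ⟨hA, hPA⟩ := hA0
  -- conjugates of the centralizer
  have hconj : ∀ (x g : G), g ∈ centralizer (((x • P : Sylow p G) : Subgroup G) : Set G) →
      x⁻¹ * g * x ∈ centralizer ((P : Subgroup G) : Set G) := by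
    intro x g hg
    rw [mem_centralizer_iff]
    intro y hy
    have h1 : x * y * x⁻¹ ∈ ((x • P : Sylow p G) : Subgroup G) := by
      rw [mem_smul_iff]
      have e : x⁻¹ * (x * y * x⁻¹) * x = y := by group
      rwa [e]
    have h2 := mem_centralizer_iff.mp hg _ h1
    have h3 : y * (x⁻¹ * g * x) = x⁻¹ * (x * y * x⁻¹ * g) * x := by group
    rw [h3, h2]
    group
  refine ⟨⟨_, hA, hPA, rfl⟩, ?_, ?_⟩
  · -- the overgroup statement
    intro M hM hCM
    by_contra hnot
    obtain ⟨m, hmM, hmN⟩ := SetLike.not_le_iff_exists.mp hnot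
    have hmP : m • P ≠ P := fun e => hmN ((Sylow.smul_eq_iff_mem_normalizer).mp e)
    have hA₂ := (hall m).1
    set A₂ := centralizer (((m • P : Sylow p G) : Subgroup G) : Set G) with hA₂def
    set A := centralizer ((P : Subgroup G) : Set G) with hAdef
    have hne12 : A ≠ A₂ := by
      intro e
      apply hmP
      have h1 : ((m • P : Sylow p G) : Subgroup G) ≤ centralizer ((P : Subgroup G) : Set G) := by
        rw [← hAdef, e]
        exact (hall m).2
      have h2 : ((m • P : Sylow p G) : Subgroup G) ≤ P :=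
        le_of_le_normalizer P (m • P).isPGroup' (h1.trans (centralizer_le_normalizer' _))
      exact Sylow.ext (((m • P : Sylow p G).is_maximal' P.2 h2)).symm
    let conjM : G → Subgroup G := fun x => M.map (MulAut.conj x).toMonoidHom
    have hconjM : ∀ x g : G, x⁻¹ * g * x ∈ M → g ∈ conjM x := by
      intro x g hg
      refine Subgroup.mem_map.mpr ⟨_, hg, ?_⟩
      show x * (x⁻¹ * g * x) * x⁻¹ = g
      group
    have hconjTop : ∀ x : G, conjM x ≠ ⊤ := by
      intro x htop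
      apply hM
      rw [eq_top_iff]
      intro y _
      have h1 : x * y * x⁻¹ ∈ conjM x := by
        rw [htop]
        trivial
      obtain ⟨z, hz, hzy⟩ := Subgroup.mem_map.mp h1
      have h2 : x * z * x⁻¹ = x * y * x⁻¹ := hzy
      have h3 : z = y := by
        have := mul_right_cancel h2
        exact mul_left_cancel this
      exact h3 ▸ hz
    let f : Subgroup G → Subgroup G := fun B =>
      if (P : Subgroup G) ≤ B then M
      else if hx : ∃ x : G, ((x • P : Sylow p G) : Subgroup G) ≤ B then conjM hx.choose else B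
    let 𝓑 : Finset (Subgroup G) := (𝓐.erase A₂).image f
    have hcard : 𝓑.card < 𝓐.card := by
      have h1 : 𝓑.card ≤ (𝓐.erase A₂).card := Finset.card_image_le
      have h2 : (𝓐.erase A₂).card = 𝓐.card - 1 := Finset.card_erase_of_mem hA₂
      have h3 : 0 < 𝓐.card := Finset.card_pos.mpr ⟨_, hA⟩
      omega
    have := h.minimal 𝓑 ⟨?_, ?_⟩
    · omega
    · intro B hB
      obtain ⟨C, hC, rfl⟩ := Finset.mem_image.mp hB
      show f C ≠ ⊤
      simp only [f]
      split_ifs with h1 h2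
      · exact hM
      · exact hconjTop _
      · exact h.proper C (Finset.mem_of_mem_erase hC)
    · intro g
      obtain ⟨B, hB, hgB⟩ := h.cover g
      have hfA : f A = M := by
        simp only [f]
        rw [if_pos hPA]
      by_cases hBA₂ : B = A₂
      · -- move to `M`
        refine ⟨M, Finset.mem_image.mpr ⟨A, Finset.mem_erase.mpr ⟨hne12, hA⟩, hfA⟩, ?_⟩
        rw [hBA₂] at hgB
        have h1 := hCM (hconj m g hgB)
        have h2 : g = m * (m⁻¹ * g * m) * m⁻¹ := by group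
        rw [h2]
        exact mul_mem (mul_mem hmM h1) (inv_mem hmM)
      refine ⟨f B, Finset.mem_image_of_mem f (Finset.mem_erase.mpr ⟨hBA₂, hB⟩), ?_⟩
      simp only [f]
      split_ifs with h1 h2
      · -- `B` is `A`
        obtain ⟨⟨w, hwP⟩, hw1⟩ := Subgroup.ne_bot_iff_exists_ne_one.mp hPne
        have hw1' : w ≠ 1 := fun h0 => hw1 (Subtype.ext h0)
        have h3 : B = A := by
          have := huniq 1 B hB w (by rw [h1P]; exact hwP) hw1' (h1 hwP)
          rw [h1P] at this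
          exact this
        rw [h3] at hgB
        exact hCM hgB
      · -- `B` is a conjugate
        set x := h2.choose with hx
        have hxle : ((x • P : Sylow p G) : Subgroup G) ≤ B := h2.choose_spec
        obtain ⟨⟨w, hwP⟩, hw1⟩ := Subgroup.ne_bot_iff_exists_ne_one.mp (hne x)
        have hw1' : w ≠ 1 := fun h0 => hw1 (Subtype.ext h0)
        have h3 := huniq x B hB w hwP hw1' (hxle hwP)
        rw [h3] at hgB
        exact hconjM x g (hCM (hconj x g hgB))
      · exact hgB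
  · -- the strongly embedded statement
    intro g hg hdvd
    obtain ⟨⟨w, hw⟩, hword⟩ := exists_prime_orderOf_dvd_card' p hdvd
    have hword' : orderOf w = p := by
      rw [← hword, Subgroup.orderOf_mk]
    obtain ⟨hw1, hw2⟩ := Subgroup.mem_inf.mp hw
    have hwp : IsPGroup p (zpowers w) := by
      apply IsPGroup.of_card (n := 1)
      rw [Nat.card_zpowers, hword', pow_one]
    have hw1' : w ≠ 1 := by
      rintro rfl
      rw [orderOf_one] at hword'
      exact hp.out.one_lt.ne hword'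
    have hwP : w ∈ (P : Subgroup G) :=
      le_of_le_normalizer P hwp (zpowers_le.mpr hw1) (mem_zpowers w)
    have hwQ : w ∈ ((g • P : Sylow p G) : Subgroup G) := by
      rw [mem_smul_iff]
      obtain ⟨y, hy, hyw⟩ := Subgroup.mem_map.mp hw2
      have hyw' : g * y * g⁻¹ = w := hyw
      have e : g⁻¹ * w * g = y := by
        rw [← hyw']
        group
      rw [e]
      have hyp : IsPGroup p (zpowers y) := by
        apply IsPGroup.of_card (n := 1)
        rw [Nat.card_zpowers, pow_one]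
        have : orderOf y = orderOf w := by
          rw [← hyw']
          exact (MulEquiv.orderOf_eq (MulAut.conj g) y).symm
        rw [this, hword']
      exact le_of_le_normalizer P hyp (zpowers_le.mpr hy) (mem_zpowers y)
    have h1 := huniq g _ hA w hwQ hw1' (hPA hwP)
    have h2 : ((g • P : Sylow p G) : Subgroup G) ≤ centralizer ((P : Subgroup G) : Set G) := by
      rw [h1]
      exact (hall g).2
    have h3 : ((g • P : Sylow p G) : Subgroup G) ≤ P :=
      le_of_le_normalizer P (g • P).isPGroup' (h2.trans (centralizer_le_normalizer' _))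
    exact hg ((Sylow.smul_eq_iff_mem_normalizer).mp
      (Sylow.ext (((g • P : Sylow p G).is_maximal' P.2 h3)).symm))

end NC

end Cfsg.Agent.Lib.PGroup.NilCover
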