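import Mathlib
import Cfsg.Agent.Lib.PGroup.NilCover

/-!
# Alternating and symmetric groups have no nilpotent minimal cover
-/

set_option autoImplicit false

namespace Cfsg.Agent.Lib.PGroup.NilCover

open Cfsg Subgroup Equiv Equiv.Perm

universe u

/-- The abstract obstruction. -/
theorem no_cover {G : Type u} [Group G] [Finite G] (hZ : center G = ⊥) {p : ℕ} [hp : Fact p.Prime]
    (c : G) (hc : orderOf c = p) (hp2 : ¬ p ^ 2 ∣ Nat.card G) (M : Subgroup G) (hM : M ≠ ⊤)
    (hCM : ∀ g, g * c = c * g → g ∈ M) (m : G) (hmM : m ∈ M) (hm : m * c * m⁻¹ ∉ zpowers c)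
    (𝓐 : Finset (Subgroup G)) (h : NC 𝓐) : False := by
  have hcp : IsPGroup p (zpowers c) := by
    apply IsPGroup.of_card (n := 1)
    rw [Nat.card_zpowers, hc, pow_one]
  obtain ⟨P, hP⟩ := hcp.exists_le_sylow
  have hcard : Nat.card (P : Subgroup G) = p := by
    obtain ⟨k, hk⟩ := IsPGroup.iff_card.mp P.isPGroup'
    have h1 : k < 2 := by
      by_contra h2
      apply hp2
      have h3 : p ^ k ∣ Nat.card G := by
        rw [← hk]
        exact Subgroup.card_subgroup_dvd_card _
      exact (pow_dvd_pow p (by omega)).trans h3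
    have h4 : p ∣ Nat.card (P : Subgroup G) := by
      have h5 := Subgroup.card_dvd_of_le hP
      rwa [Nat.card_zpowers, hc] at h5
    interval_cases k
    · rw [hk, pow_zero] at h4
      exact absurd (Nat.dvd_one.mp h4) hp.out.ne_one
    · simpa using hk
  have hPe : (P : Subgroup G) = zpowers c := by
    symm
    apply Subgroup.eq_of_le_of_card_ge hP
    rw [hcard, Nat.card_zpowers, hc]
  have hab : IsMulCommutative ↥(P : Subgroup G) := by
    rw [hPe]
    exact ⟨⟨fun x y => by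
      obtain ⟨i, hi⟩ := Subgroup.mem_zpowers_iff.mp x.2
      obtain ⟨j, hj⟩ := Subgroup.mem_zpowers_iff.mp y.2
      apply Subtype.ext
      show (x : G) * y = y * x
      rw [← hi, ← hj]
      exact ((Commute.refl c).zpow_zpow i j).eq⟩⟩
  have hnn : ¬ (P : Subgroup G).Normal := by
    intro hn
    apply hm
    rw [← hPe]
    exact hn.conj_mem c (hPe ▸ mem_zpowers c) m
  obtain ⟨_, h2, _⟩ := h.main hZ P hab hnn (Or.inl ⟨c, hPe ▸ mem_zpowers c, by rw [hPe]⟩)
  have h3 : centralizer ((P : Subgroup G) : Set G) ≤ M := by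
    intro g hg
    apply hCM
    exact (mem_centralizer_iff.mp hg c (hPe ▸ mem_zpowers c)).symm
  have h4 := h2 M hM h3 hmM
  apply hm
  have h5 := (mem_normalizer_iff.mp h4 c).mp (hPe ▸ mem_zpowers c)
  rwa [hPe] at h5

theorem perm_center_eq_bot {n : ℕ} (hn : 3 ≤ n) : center (Perm (Fin n)) = ⊥ := by
  rw [eq_bot_iff]
  intro g hg
  rw [Subgroup.mem_bot]
  by_contra hg1
  obtain ⟨x, hx⟩ : ∃ x, g x ≠ x := by
    by_contra hall
    push Not at hall
    exact hg1 (Equiv.ext hall)
  obtain ⟨z, hz⟩ : ∃ z, z ∉ ({x, g x} : Finset (Fin n)) := by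
    by_contra hall
    push Not at hall
    have h1 : (Finset.univ : Finset (Fin n)) ⊆ {x, g x} := fun z _ => hall z
    have h2 := Finset.card_le_card h1
    have h3 : ({x, g x} : Finset (Fin n)).card ≤ 2 := Finset.card_le_two
    rw [Finset.card_univ, Fintype.card_fin] at h2
    omega
  simp only [Finset.mem_insert, Finset.mem_singleton, not_or] at hz
  have h1 := Subgroup.mem_center_iff.mp hg (swap x z)
  have h2 := congrArg (fun f : Perm (Fin n) => f x) h1
  simp only [Perm.mul_apply, swap_apply_left] at h2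
  rw [swap_apply_of_ne_of_ne hx (Ne.symm hz.2)] at h2
  exact hz.1 (g.injective h2.symm)

/-- `p² ∤ n!` for `p ≤ n < 2p`. -/
theorem not_sq_dvd_factorial {p n : ℕ} (hp : p.Prime) (hn : n < 2 * p) (hpn : p ≤ n) :
    ¬ p ^ 2 ∣ n.factorial := by
  have hlt : n < p ^ 2 := by
    have := hp.two_le
    nlinarith
  have hlog : Nat.log p n < 2 := Nat.log_lt_of_lt_pow (by have := hp.pos; omega) hlt
  rw [hp.pow_dvd_factorial_iff hlog]
  simp only [Nat.Ico_succ_singleton, Finset.sum_singleton, pow_one]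
  have : n / p < 2 := Nat.div_lt_of_lt_mul (by rw [mul_comm]; exact hn)
  omega

variable {n : ℕ} {G : Type} [Group G] [Finite G]

/-- The obstruction in terms of permutations. -/
theorem no_cover_perm (ι : G →* Perm (Fin n)) (hinj : Function.Injective ι) (hZ : center G = ⊥)
    {p : ℕ} [hp : Fact p.Prime] (hp2 : ¬ p ^ 2 ∣ n.factorial) (c : Perm (Fin n)) (hc : orderOf c = p)
    (hcr : c ∈ ι.range) (M₀ : Subgroup (Perm (Fin n))) (z : Perm (Fin n)) (hzr : z ∈ ι.range)
    (hzM : z ∉ M₀) (hCM : ∀ g ∈ ι.range, g * c = c * g → g ∈ M₀) (m : Perm (Fin n))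
    (hmr : m ∈ ι.range) (hmM : m ∈ M₀) (hm : m * c * m⁻¹ ∉ zpowers c) (𝓐 : Finset (Subgroup G))
    (h : NC 𝓐) : False := by
  obtain ⟨c', rfl⟩ := hcr
  obtain ⟨z', rfl⟩ := hzr
  obtain ⟨m', rfl⟩ := hmr
  refine no_cover hZ c' (p := p) ?_ ?_ (M₀.comap ι) ?_ ?_ m' hmM ?_ 𝓐 h
  · rw [← orderOf_injective ι hinj, hc]
  · intro hd
    apply hp2
    refine hd.trans ?_
    have h1 : Nat.card G ∣ Nat.card (Perm (Fin n)) := by
      have h2 := Subgroup.card_subgroup_dvd_card ι.range
      rwa [← Nat.card_congr (MonoidHom.ofInjective hinj).toEquiv] at h2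
    rwa [Nat.card_perm, Nat.card_fin] at h1
  · intro htop
    apply hzM
    have : z' ∈ M₀.comap ι := by
      rw [htop]
      trivial
    exact this
  · intro g hg
    apply hCM (ι g) ⟨g, rfl⟩
    rw [← map_mul, hg, map_mul]
  · intro hk
    apply hm
    obtain ⟨k, hk⟩ := Subgroup.mem_zpowers_iff.mp hk
    refine Subgroup.mem_zpowers_iff.mpr ⟨k, ?_⟩
    rw [← map_zpow, hk]
    simp

/-- Large degree. -/
theorem no_cover_large (ι : G →* Perm (Fin n)) (hinj : Function.Injective ι)
    (heven : ∀ x : Perm (Fin n), sign x = 1 → x ∈ ι.range) (hZ : center G = ⊥)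
    {p : ℕ} [hp : Fact p.Prime] (hp5 : 5 ≤ p) (hpn : p < n) (hn2 : n < 2 * p)
    (𝓐 : Finset (Subgroup G)) (h : NC 𝓐) : False := by
  classical
  -- the cycle
  let L : List (Fin n) := (List.finRange p).map (Fin.castLE hpn.le)
  have hLnd : L.Nodup := (List.nodup_finRange p).map (Fin.castLE_injective hpn.le)
  have hLlen : L.length = p := by simp [L]
  let c : Perm (Fin n) := L.formPerm
  have hcyc : c.IsCycle := List.isCycle_formPerm hLnd (by omega)
  have hsupp : c.support = L.toFinset :=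
    List.support_formPerm_of_nodup L hLnd (by
      intro x hx
      have := congrArg List.length hx
      simp at this
      omega)
  have hcard : c.support.card = p := by
    rw [hsupp, List.toFinset_card_of_nodup hLnd, hLlen]
  have hc : orderOf c = p := by
    rw [hcyc.orderOf, hcard]
  have hodd : Odd p := hp.out.odd_of_ne_two (by omega)
  have hcs : sign c = 1 := by
    rw [hcyc.sign, hcard]
    rw [hodd.neg_one_pow, neg_neg]
  -- points
  obtain ⟨x₀, hx₀⟩ : c.support.Nonempty := by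
    rw [← Finset.card_pos, hcard]
    exact hp.out.pos
  have hx₀' : c x₀ ≠ x₀ := Equiv.Perm.mem_support.mp hx₀
  obtain ⟨y, hy⟩ : ∃ y, y ∉ c.support := by
    by_contra hall
    push Not at hall
    have h1 : (Finset.univ : Finset (Fin n)) ⊆ c.support := fun z _ => hall z
    have h2 := Finset.card_le_card h1
    rw [Finset.card_univ, Fintype.card_fin, hcard] at h2
    omega
  have hpow : ∀ k : ℕ, (c ^ k) x₀ = x₀ → p ∣ k := by
    intro k hk
    rw [← hc]
    exact orderOf_dvd_of_pow_eq_one ((hcyc.pow_eq_one_iff' hx₀').mpr hk)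
  set x₁ := c x₀ with hx₁
  set x₂ := c x₁ with hx₂
  set x₃ := c x₂ with hx₃
  have hx₁pow : x₁ = (c ^ 1) x₀ := by simp [hx₁]
  have hx₂pow : x₂ = (c ^ 2) x₀ := by simp [hx₂, hx₁, pow_succ]
  have hx₃pow : x₃ = (c ^ 3) x₀ := by simp [hx₃, hx₂, hx₁, pow_succ]
  have hne : ∀ i j : ℕ, i < j → j ≤ 3 → (c ^ i) x₀ ≠ (c ^ j) x₀ := by
    intro i j hij hj he
    have h1 : (c ^ (j - i)) x₀ = x₀ := by
      apply (c ^ i).injective
      rw [← Perm.mul_apply, ← pow_add, Nat.add_sub_cancel' hij.le, he]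
    have h2 := Nat.le_of_dvd (by omega) (hpow _ h1)
    omega
  have h01 : x₀ ≠ x₁ := by rw [hx₁pow]; simpa using hne 0 1 (by omega) (by omega)
  have h02 : x₀ ≠ x₂ := by rw [hx₂pow]; simpa using hne 0 2 (by omega) (by omega)
  have h03 : x₀ ≠ x₃ := by rw [hx₃pow]; simpa using hne 0 3 (by omega) (by omega)
  have h12 : x₁ ≠ x₂ := by rw [hx₁pow, hx₂pow]; exact hne 1 2 (by omega) (by omega)
  have h13 : x₁ ≠ x₃ := by rw [hx₁pow, hx₃pow]; exact hne 1 3 (by omega) (by omega)
  have hx₁s : x₁ ∈ c.support := by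
    rw [Equiv.Perm.mem_support]
    exact h12.symm
  have hx₂s : x₂ ∈ c.support := by
    rw [Equiv.Perm.mem_support]
    intro h0
    have h1 : x₃ = x₂ := h0
    have : (c ^ 3) x₀ = (c ^ 2) x₀ := by rw [← hx₂pow, ← hx₃pow, h1]
    exact hne 2 3 (by omega) (by omega) this.symm
  -- the set stabiliser
  let M₀ : Subgroup (Perm (Fin n)) :=
    { carrier := {g | ∀ x, x ∈ c.support ↔ g x ∈ c.support}
      one_mem' := fun x => Iff.rfl
      mul_mem' := by
        intro a b ha hb x
        rw [hb x, ha (b x)]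
        rfl
      inv_mem' := by
        intro a ha x
        rw [ha (a⁻¹ x)]
        simp }
  have hmemM : ∀ g : Perm (Fin n), g ∈ M₀ ↔ ∀ x, x ∈ c.support ↔ g x ∈ c.support := fun _ => Iff.rfl
  -- the witness outside
  let z : Perm (Fin n) := swap x₀ y * swap x₁ y
  have hx₀y : x₀ ≠ y := fun e => hy (e ▸ hx₀)
  have hx₁y : x₁ ≠ y := fun e => hy (e ▸ hx₁s)
  have hx₂y : x₂ ≠ y := fun e => hy (e ▸ hx₂s)
  have hzs : sign z = 1 := by
    simp only [z, map_mul, sign_swap hx₀y, sign_swap hx₁y]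
    decide
  have hzM : z ∉ M₀ := by
    intro hz
    have h1 := ((hmemM z).mp hz x₀).mp hx₀
    have h2 : z x₀ = y := by
      simp only [z, Perm.mul_apply]
      rw [swap_apply_of_ne_of_ne h01 hx₀y, swap_apply_left]
    rw [h2] at h1
    exact hy h1
  -- the commuting elements
  have hCM : ∀ g ∈ ι.range, g * c = c * g → g ∈ M₀ := by
    intro g _ hg
    rw [hmemM]
    intro x
    rw [Equiv.Perm.mem_support, Equiv.Perm.mem_support]
    have h1 : c (g x) = g (c x) := (congrArg (fun f : Perm (Fin n) => f x) hg).symm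
    rw [h1]
    exact (g.injective.ne_iff).symm
  -- the three-cycle
  let m : Perm (Fin n) := swap x₀ x₂ * swap x₀ x₁
  have hms : sign m = 1 := by
    simp only [m, map_mul, sign_swap h01, sign_swap h02]
    decide
  have hm0 : m x₀ = x₁ := by
    simp only [m, Perm.mul_apply]
    rw [swap_apply_left, swap_apply_of_ne_of_ne h01.symm h12]
  have hm1 : m x₁ = x₂ := by
    simp only [m, Perm.mul_apply]
    rw [swap_apply_right, swap_apply_left]
  have hm2 : m x₂ = x₀ := by
    simp only [m, Perm.mul_apply]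
    rw [swap_apply_of_ne_of_ne h02.symm h12.symm, swap_apply_right]
  have hmo : ∀ x, x ≠ x₀ → x ≠ x₁ → x ≠ x₂ → m x = x := by
    intro x h0 h1 h2
    simp only [m, Perm.mul_apply]
    rw [swap_apply_of_ne_of_ne h0 h1, swap_apply_of_ne_of_ne h0 h2]
  have hmM : m ∈ M₀ := by
    rw [hmemM]
    intro x
    by_cases e0 : x = x₀
    · rw [e0, hm0]
      exact ⟨fun _ => hx₁s, fun _ => hx₀⟩
    by_cases e1 : x = x₁
    · rw [e1, hm1]
      exact ⟨fun _ => hx₂s, fun _ => hx₁s⟩
    by_cases e2 : x = x₂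
    · rw [e2, hm2]
      exact ⟨fun _ => hx₀, fun _ => hx₂s⟩
    rw [hmo x e0 e1 e2]
  have hmz : m * c * m⁻¹ ∉ zpowers c := by
    intro hk
    obtain ⟨k, hk⟩ := mem_powers_iff_mem_zpowers.mpr hk
    have hk' : c ^ k = m * c * m⁻¹ := hk
    have e1 : (m * c * m⁻¹) x₁ = x₂ := by
      simp only [Perm.mul_apply]
      have : m⁻¹ x₁ = x₀ := by rw [← hm0]; simp
      rw [this, ← hx₁, hm1]
    have e2 : (m * c * m⁻¹) x₂ = x₀ := by
      simp only [Perm.mul_apply]
      have : m⁻¹ x₂ = x₁ := by rw [← hm1]; simp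
      rw [this, ← hx₂, hm2]
    have h1 : (c ^ (k + (p - 1))) x₁ = x₁ := by
      rw [add_comm, pow_add, Perm.mul_apply, hk', e1]
      rw [hx₂, ← Perm.mul_apply, ← pow_succ]
      have : p - 1 + 1 = p := by omega
      rw [this, ← hc, pow_orderOf_eq_one]
      rfl
    have h2 : c ^ (k + (p - 1)) = 1 := (hcyc.pow_eq_one_iff' (show c x₁ ≠ x₁ from h12.symm)).mpr h1
    have h3 : c ^ k = c := by
      have h4 : c ^ (p - 1) * c = 1 := by
        rw [← pow_succ]
        have : p - 1 + 1 = p := by omega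
        rw [this, ← hc, pow_orderOf_eq_one]
      rw [pow_add] at h2
      calc c ^ k = c ^ k * (c ^ (p - 1) * c) := by rw [h4, mul_one]
        _ = (c ^ k * c ^ (p - 1)) * c := by rw [mul_assoc]
        _ = c := by rw [h2, one_mul]
    rw [h3] at hk'
    have h5 : c x₂ = x₀ := by
      rw [hk']
      exact e2
    exact h03 (h5.symm.trans rfl)
  exact no_cover_perm ι hinj hZ (not_sq_dvd_factorial hp.out hn2 hpn.le) c hc (heven _ hcs) M₀ z
    (heven _ hzs) hzM hCM m (heven _ hms) hmM hmz 𝓐 h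

end Cfsg.Agent.Lib.PGroup.NilCover
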