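import Mathlib
import Cfsg.Prelude.Def_Local
import Cfsg.Agent.Lib.Core.Basic
import Cfsg.Agent.Lib.PGroup.Basic
import Cfsg.Agent.Lib.PSolv.Basic

/-!
# The upper `p`-series and the `p`-length

Intrinsic characterization by chains of normal subgroups (`le_upperPSeries_of_chain`), monotonicity
under sections, subadditivity (`PLengthLE.of_normal`).
-/

set_option autoImplicit false

namespace Cfsg.Agent.Lib.PGroup

open Cfsg Subgroup

variable {G : Type*} [Group G]

section Steps

theorem card_map_mk (N D : Subgroup G) [N.Normal] :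
    Nat.card (D.map (QuotientGroup.mk' N)) = N.relIndex D := by
  have e1 : ((QuotientGroup.mk' N).comp D.subtype).ker = N.subgroupOf D := by
    ext x
    rw [MonoidHom.mem_ker, Subgroup.mem_subgroupOf]
    simp only [MonoidHom.comp_apply, Subgroup.subtype_apply, QuotientGroup.mk'_apply,
      QuotientGroup.eq_one_iff]
  have e2 : ((QuotientGroup.mk' N).comp D.subtype).range = D.map (QuotientGroup.mk' N) := by
    rw [MonoidHom.range_comp, Subgroup.range_subtype]
  rw [← e2, ← Subgroup.index_ker, e1]
  rfl

variable [Finite G] {p : ℕ}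

theorem le_comap_pPrimeCore {N D : Subgroup G} [N.Normal] (hD : D.Normal)
    (h : (N.relIndex D).Coprime p) :
    D ≤ (pPrimeCore p (G ⧸ N)).comap (QuotientGroup.mk' N) := by
  have h1 : D.map (QuotientGroup.mk' N) ≤ pPrimeCore p (G ⧸ N) := by
    refine Cfsg.Agent.Lib.Core.le_pPrimeCore (hD.map _ (QuotientGroup.mk'_surjective N)) ?_
    rw [card_map_mk]
    exact h
  exact Subgroup.map_le_iff_le_comap.1 h1

theorem le_comap_pCore [Fact p.Prime] {N D : Subgroup G} [N.Normal] (hD : D.Normal)
    (h : ∃ m : ℕ, N.relIndex D = p ^ m) :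
    D ≤ (pCore p (G ⧸ N)).comap (QuotientGroup.mk' N) := by
  have h1 : D.map (QuotientGroup.mk' N) ≤ pCore p (G ⧸ N) := by
    refine Cfsg.Agent.Lib.Core.le_pCore (hD.map _ (QuotientGroup.mk'_surjective N)) ?_
    rw [IsPGroup.iff_card, card_map_mk]
    exact h
  exact Subgroup.map_le_iff_le_comap.1 h1

theorem relIndex_comap_pPrimeCore (N : Subgroup G) [N.Normal] :
    (N.relIndex ((pPrimeCore p (G ⧸ N)).comap (QuotientGroup.mk' N))).Coprime p := by
  rw [← card_map_mk, Subgroup.map_comap_eq_self_of_surjective (QuotientGroup.mk'_surjective N)]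
  exact Cfsg.Agent.Lib.Core.pPrimeCore_coprime p _

theorem relIndex_comap_pCore [Fact p.Prime] (N : Subgroup G) [N.Normal] :
    ∃ m : ℕ, N.relIndex ((pCore p (G ⧸ N)).comap (QuotientGroup.mk' N)) = p ^ m := by
  rw [← card_map_mk, Subgroup.map_comap_eq_self_of_surjective (QuotientGroup.mk'_surjective N)]
  exact IsPGroup.iff_card.1 (Cfsg.Agent.Lib.Core.pCore_isPGroup p _)

theorem le_comap_self_pPrimeCore (N : Subgroup G) [N.Normal] :
    N ≤ (pPrimeCore p (G ⧸ N)).comap (QuotientGroup.mk' N) := by
  intro x hx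
  rw [Subgroup.mem_comap, QuotientGroup.mk'_apply, (QuotientGroup.eq_one_iff x).2 hx]
  exact one_mem _

theorem le_comap_self_pCore (N : Subgroup G) [N.Normal] :
    N ≤ (pCore p (G ⧸ N)).comap (QuotientGroup.mk' N) := by
  intro x hx
  rw [Subgroup.mem_comap, QuotientGroup.mk'_apply, (QuotientGroup.eq_one_iff x).2 hx]
  exact one_mem _

end Steps

/-- The `n`-th term of the upper `p`-series. -/
abbrev uPS (p : ℕ) (G : Type*) [Group G] (n : ℕ) : Subgroup G := (upperPSeries p G n).1

theorem uPS_zero (p : ℕ) : uPS p G 0 = ⊥ := rfl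

theorem uPS_succ_even (p : ℕ) {n : ℕ} (hn : Even n) :
    uPS p G (n + 1) = (pPrimeCore p (G ⧸ uPS p G n)).comap (QuotientGroup.mk' (uPS p G n)) := by
  unfold uPS
  rw [upperPSeries]
  simp [hn]

theorem uPS_succ_odd (p : ℕ) {n : ℕ} (hn : ¬ Even n) :
    uPS p G (n + 1) = (pCore p (G ⧸ uPS p G n)).comap (QuotientGroup.mk' (uPS p G n)) := by
  unfold uPS
  rw [upperPSeries]
  simp [hn]

theorem uPS_normal (p : ℕ) (n : ℕ) : (uPS p G n).Normal := (upperPSeries p G n).2

section Chain

variable [Finite G] {p : ℕ}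

theorem uPS_le_succ (n : ℕ) : uPS p G n ≤ uPS p G (n + 1) := by
  by_cases hn : Even n
  · rw [uPS_succ_even p hn]
    haveI := uPS_normal (G := G) p n
    exact le_comap_self_pPrimeCore _
  · rw [uPS_succ_odd p hn]
    haveI := uPS_normal (G := G) p n
    exact le_comap_self_pCore _

theorem uPS_mono {m n : ℕ} (h : m ≤ n) : uPS p G m ≤ uPS p G n :=
  monotone_nat_of_le_succ (fun n => uPS_le_succ (p := p) (G := G) n) h

theorem uPS_relIndex_even {n : ℕ} (hn : Even n) :
    ((uPS p G n).relIndex (uPS p G (n + 1))).Coprime p := by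
  rw [uPS_succ_even p hn]
  haveI := uPS_normal (G := G) p n
  exact relIndex_comap_pPrimeCore _

theorem uPS_relIndex_odd [Fact p.Prime] {n : ℕ} (hn : ¬ Even n) :
    ∃ m : ℕ, (uPS p G n).relIndex (uPS p G (n + 1)) = p ^ m := by
  rw [uPS_succ_odd p hn]
  haveI := uPS_normal (G := G) p n
  exact relIndex_comap_pCore _

/-- A chain of normal subgroups with factors alternately `p'`- and `p`-groups is below the upper
`p`-series. -/
theorem le_uPS_of_chain [Fact p.Prime] (H : ℕ → Subgroup G) (hN : ∀ i, (H i).Normal)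
    (h0 : H 0 = ⊥) (hle : ∀ i, H i ≤ H (i + 1))
    (hev : ∀ i, Even i → ((H i).relIndex (H (i + 1))).Coprime p)
    (hod : ∀ i, ¬ Even i → ∃ m : ℕ, (H i).relIndex (H (i + 1)) = p ^ m) :
    ∀ n, H n ≤ uPS p G n := by
  intro n
  induction n with
  | zero => rw [h0]; exact bot_le
  | succ n ih =>
    haveI hB := uPS_normal (G := G) p n
    haveI := hN n
    haveI hDn := hN (n + 1)
    have hd : (uPS p G n).relIndex (H (n + 1)) ∣ (H n).relIndex (H (n + 1)) :=
      Subgroup.relIndex_dvd_of_le_left _ ih
    have hsupN : (H (n + 1) ⊔ uPS p G n).Normal := Subgroup.sup_normal _ _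
    have hrel : (uPS p G n).relIndex (H (n + 1) ⊔ uPS p G n) = (uPS p G n).relIndex (H (n + 1)) :=
      Subgroup.relIndex_sup_right _ _
    by_cases hn : Even n
    · rw [uPS_succ_even p hn]
      refine le_trans le_sup_left (le_comap_pPrimeCore hsupN ?_)
      rw [hrel]
      exact Nat.Coprime.coprime_dvd_left hd (hev n hn)
    · rw [uPS_succ_odd p hn]
      refine le_trans le_sup_left (le_comap_pCore hsupN ?_)
      rw [hrel]
      obtain ⟨m, hm⟩ := hod n hn
      rw [hm] at hd
      obtain ⟨k, -, hk⟩ := (Nat.dvd_prime_pow (Fact.out : p.Prime)).1 hd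
      exact ⟨k, hk⟩

end Chain

section Sections

variable [Finite G] {p : ℕ} [Fact p.Prime] {G' : Type*} [Group G'] [Finite G']

/-- Relative indices go down under a surjective homomorphism. -/
theorem relIndex_map_dvd (f : G →* G') (hf : Function.Surjective f) {N D : Subgroup G}
    (hND : N ≤ D) [(N.subgroupOf D).Normal] : (N.map f).relIndex (D.map f) ∣ N.relIndex D := by
  let g : ↥D →* ↥(D.map f) := f.subgroupMap D
  have hg : Function.Surjective g := f.subgroupMap_surjective D
  have e : (N.map f).subgroupOf (D.map f) = (N.subgroupOf D).map g := by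
    ext ⟨y, hy⟩
    rw [Subgroup.mem_subgroupOf]
    constructor
    · rintro ⟨x, hx, rfl⟩
      exact ⟨⟨x, hND hx⟩, hx, rfl⟩
    · rintro ⟨⟨x, hxD⟩, hx, hxy⟩
      have : f x = y := congrArg Subtype.val hxy
      exact ⟨x, hx, this⟩
  show ((N.map f).subgroupOf (D.map f)).index ∣ (N.subgroupOf D).index
  rw [e]
  exact Subgroup.index_map_dvd _ hg

/-- The upper `p`-series maps into the upper `p`-series under a surjection. -/
theorem map_uPS_le (f : G →* G') (hf : Function.Surjective f) (n : ℕ) :
    (uPS p G n).map f ≤ uPS p G' n := by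
  refine le_uPS_of_chain (fun n => (uPS p G n).map f) ?_ ?_ ?_ ?_ ?_ n
  · exact fun i => (uPS_normal (G := G) p i).map f hf
  · show (uPS p G 0).map f = ⊥
    rw [uPS_zero, Subgroup.map_bot]
  · exact fun i => Subgroup.map_mono (uPS_le_succ i)
  · intro i hi
    haveI : ((uPS p G i).subgroupOf (uPS p G (i + 1))).Normal := by
      haveI := uPS_normal (G := G) p i
      infer_instance
    exact Nat.Coprime.coprime_dvd_left (relIndex_map_dvd f hf (uPS_le_succ i))
      (uPS_relIndex_even hi)
  · intro i hi
    haveI : ((uPS p G i).subgroupOf (uPS p G (i + 1))).Normal := by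
      haveI := uPS_normal (G := G) p i
      infer_instance
    have hd := relIndex_map_dvd f hf (uPS_le_succ (p := p) (G := G) i)
    obtain ⟨m, hm⟩ := uPS_relIndex_odd (p := p) (G := G) hi
    rw [hm] at hd
    obtain ⟨k, -, hk⟩ := (Nat.dvd_prime_pow (Fact.out : p.Prime)).1 hd
    exact ⟨k, hk⟩

/-- Relative indices go down when intersecting with a subgroup. -/
theorem relIndex_comap_subtype_dvd (K : Subgroup G) {N D : Subgroup G} [hN : N.Normal] :
    (N.comap K.subtype).relIndex (D.comap K.subtype) ∣ N.relIndex D := by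
  rw [Subgroup.relIndex_comap, Subgroup.map_comap_eq, Subgroup.range_subtype, inf_comm]
  have h6 := Subgroup.relIndex_dvd_index_of_normal (N.subgroupOf D) ((D ⊓ K).subgroupOf D)
  rwa [Subgroup.relIndex_subgroupOf inf_le_left] at h6

/-- Restriction to a subgroup. -/
theorem comap_uPS_le (K : Subgroup G) (n : ℕ) :
    (uPS p G n).comap K.subtype ≤ uPS p ↥K n := by
  refine le_uPS_of_chain (fun n => (uPS p G n).comap K.subtype) ?_ ?_ ?_ ?_ ?_ n
  · exact fun i => (uPS_normal (G := G) p i).comap _
  · show (uPS p G 0).comap K.subtype = ⊥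
    rw [uPS_zero]
    ext x
    simp [Subgroup.mem_comap]
  · exact fun i => Subgroup.comap_mono (uPS_le_succ i)
  · intro i hi
    haveI := uPS_normal (G := G) p i
    exact Nat.Coprime.coprime_dvd_left (relIndex_comap_subtype_dvd K) (uPS_relIndex_even hi)
  · intro i hi
    haveI := uPS_normal (G := G) p i
    have hd := relIndex_comap_subtype_dvd K (N := uPS p G i) (D := uPS p G (i + 1))
    obtain ⟨m, hm⟩ := uPS_relIndex_odd (p := p) (G := G) hi
    rw [hm] at hd
    obtain ⟨k, -, hk⟩ := (Nat.dvd_prime_pow (Fact.out : p.Prime)).1 hd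
    exact ⟨k, hk⟩

/-- The terms of the upper `p`-series are characteristic. -/
theorem uPS_characteristic (n : ℕ) : (uPS p G n).Characteristic := by
  refine Subgroup.characteristic_iff_le_map.2 ?_
  intro φ
  have h := map_uPS_le (p := p) φ.symm.toMonoidHom φ.symm.surjective n
  intro x hx
  refine ⟨φ.symm x, ?_, by simp⟩
  exact h ⟨x, hx, rfl⟩

end Sections

section Length

variable [Finite G] {p : ℕ} [Fact p.Prime] {G' : Type*} [Group G'] [Finite G']

theorem plength_iff {k : ℕ} : PLengthLE p k G ↔ uPS p G (2 * k + 1) = ⊤ := Iff.rfl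

theorem PLengthLE.map {k : ℕ} (h : PLengthLE p k G) (f : G →* G') (hf : Function.Surjective f) :
    PLengthLE p k G' := by
  have h1 := map_uPS_le (p := p) f hf (2 * k + 1)
  rw [plength_iff.1 h, Subgroup.map_top_of_surjective _ hf] at h1
  exact top_le_iff.1 h1

theorem PLengthLE.subgroup {k : ℕ} (h : PLengthLE p k G) (K : Subgroup G) :
    PLengthLE p k K := by
  have h1 := comap_uPS_le (p := p) K (2 * k + 1)
  rw [plength_iff.1 h, Subgroup.comap_top] at h1
  exact top_le_iff.1 h1

theorem PLengthLE.mono {k l : ℕ} (h : PLengthLE p k G) (hkl : k ≤ l) : PLengthLE p l G := by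
  have h1 := uPS_mono (p := p) (G := G) (show 2 * k + 1 ≤ 2 * l + 1 by omega)
  rw [plength_iff.1 h] at h1
  exact top_le_iff.1 h1

/-- `p`-length zero means a `p'`-group. -/
theorem plength_zero_iff : PLengthLE p 0 G ↔ (Nat.card G).Coprime p := by
  constructor
  · intro h
    have h1 : uPS p G (0 + 1) = ⊤ := h
    have h2 := uPS_relIndex_even (p := p) (G := G) (n := 0) (by simp)
    rw [h1, uPS_zero, Subgroup.relIndex_top_right, Subgroup.index_bot] at h2
    exact h2
  · intro h
    have h1 := le_uPS_of_chain (p := p) (G := G) (fun i => if i = 0 then ⊥ else ⊤) (by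
      intro i
      by_cases hi : i = 0
      · simp only [hi, if_true]; infer_instance
      · simp only [hi, if_false]; infer_instance) (by simp) (by
      intro i
      by_cases hi : i = 0
      · simp [hi]
      · simp [hi]) (by
      intro i _
      by_cases hi : i = 0
      · simp only [hi, if_true, zero_add, one_ne_zero, if_false]
        rw [Subgroup.relIndex_top_right, Subgroup.index_bot]
        exact h
      · simp only [hi, if_false, Nat.succ_ne_zero]
        simp) (by
      intro i hi0
      have hi : i ≠ 0 := by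
        rintro rfl
        simp at hi0
      refine ⟨0, ?_⟩
      simp only [hi, if_false, Nat.succ_ne_zero]
      simp) 1
    simp only [one_ne_zero, if_false] at h1
    exact top_le_iff.1 h1

/-- The first term of the upper `p`-series is the `p'`-core. -/
theorem uPS_one : uPS p G 1 = pPrimeCore p G := by
  apply le_antisymm
  · haveI := uPS_normal (G := G) p 1
    refine Cfsg.Agent.Lib.Core.le_pPrimeCore inferInstance ?_
    have h2 := uPS_relIndex_even (p := p) (G := G) (n := 0) (by simp)
    rw [uPS_zero] at h2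
    simpa [Subgroup.relIndex_bot_left] using h2
  · have h1 := le_uPS_of_chain (p := p) (G := G) (fun i => if i = 0 then ⊥ else pPrimeCore p G) (by
      intro i
      by_cases hi : i = 0
      · simp only [hi, if_true]; infer_instance
      · simp only [hi, if_false]; infer_instance) (by simp) (by
      intro i
      by_cases hi : i = 0
      · simp [hi]
      · simp [hi]) (by
      intro i _
      by_cases hi : i = 0
      · simp only [hi, if_true, zero_add, one_ne_zero, if_false]
        rw [Subgroup.relIndex_bot_left]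
        exact Cfsg.Agent.Lib.Core.pPrimeCore_coprime p _
      · simp only [hi, if_false, Nat.succ_ne_zero]
        simp) (by
      intro i hi0
      have hi : i ≠ 0 := by
        rintro rfl
        simp at hi0
      refine ⟨0, ?_⟩
      simp only [hi, if_false, Nat.succ_ne_zero]
      simp) 1
    simpa using h1

/-- `p`-length at most one from the quotient by `O_{p',p}(G)`. -/
theorem plength_one_of_core
    (h : (Nat.card ((G ⧸ pPrimeCore p G) ⧸ pCore p (G ⧸ pPrimeCore p G))).Coprime p) :
    PLengthLE p 1 G := by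
  obtain ⟨Q', hQ'⟩ : ∃ Q' : Subgroup G, Q' = (pCore p (G ⧸ pPrimeCore p G)).comap
      (QuotientGroup.mk' (pPrimeCore p G)) := ⟨_, rfl⟩
  have hQ'n : Q'.Normal := by rw [hQ']; infer_instance
  have h1 : Q' ≤ uPS p G (1 + 1) := by
    rw [uPS_succ_odd p (n := 1) (by decide)]
    haveI := uPS_normal (G := G) p 1
    refine le_comap_pCore hQ'n ?_
    rw [uPS_one, ← card_map_mk, hQ', Subgroup.map_comap_eq_self_of_surjective
      (QuotientGroup.mk'_surjective _)]
    exact IsPGroup.iff_card.1 (Cfsg.Agent.Lib.Core.pCore_isPGroup p _)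
  show uPS p G (2 * 1 + 1) = ⊤
  rw [uPS_succ_even p (n := 2 * 1) (by decide)]
  haveI := uPS_normal (G := G) p (2 * 1)
  refine top_le_iff.1 (le_comap_pPrimeCore inferInstance ?_)
  rw [Subgroup.relIndex_top_right]
  have hd : (uPS p G (2 * 1)).index ∣ Q'.index := Subgroup.index_dvd_of_le h1
  refine Nat.Coprime.coprime_dvd_left hd ?_
  rw [hQ', Subgroup.index_comap_of_surjective _ (QuotientGroup.mk'_surjective _),
    Subgroup.index_eq_card]
  exact h

end Length

end Cfsg.Agent.Lib.PGroup
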