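import Mathlib
import Cfsg.Agent.Lib.Techniques.SylowIn
import Cfsg.Agent.Lib.PGroup.Sylow
import Cfsg.Agent.Lib.PGroup.ClassTwo
import Cfsg.Agent.Lib.PSmall.Basic
import Cfsg.Agent.Lib.Transfer.MaxClass
import Cfsg.Agent.Lib.PGroup.Breadth
import Cfsg.Agent.Lib.ClassSizes.HallPet
import Cfsg.Agent.Lib.Transfer.Frat
import Cfsg.Agent.Lib.PGroup.Basic

/-!
Soft subgroups of `p`-groups: abelian self-centralizing subgroups of index `p` in their normalizer.
-/

namespace Cfsg.Agent.Lib.PGroup.Soft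

open Subgroup Cfsg.Agent.Lib.Techniques Cfsg.Agent.Lib.PGroup
open scoped commutatorElement

universe u

variable {P : Type u} [Group P] {p : ℕ} [hp : Fact p.Prime]

/-- Soft subgroups. -/
structure IsSoft (p : ℕ) (E : Subgroup P) : Prop where
  ab : ∀ a ∈ E, ∀ b ∈ E, a * b = b * a
  self : centralizer (E : Set P) ≤ E
  idx : E.relIndex (normalizer (E : Set P)) = p

theorem eq_or_eq_of_relIndex {H L M : Subgroup P} (hm : H.relIndex M = p) (h1 : H ≤ L) (h2 : L ≤ M) :
    L = H ∨ L = M := by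
  have h3 := Subgroup.relIndex_mul_relIndex H L M h1 h2
  rw [hm] at h3
  have h4 : H.relIndex L ∣ p := ⟨_, h3.symm⟩
  rcases (Nat.dvd_prime hp.out).mp h4 with h5 | h5
  · left
    exact le_antisymm (Subgroup.relIndex_eq_one.mp h5) h1
  · right
    rw [h5] at h3
    have h6 : L.relIndex M = 1 :=
      Nat.eq_of_mul_eq_mul_left hp.out.pos (h3.trans (mul_one p).symm)
    exact le_antisymm h2 (Subgroup.relIndex_eq_one.mp h6)

variable [Finite P]

theorem normalizer_le (hP : IsPGroup p P) {E : Subgroup P} (hS : IsSoft p E) {K : Subgroup P}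
    (hlt : E < K) : normalizer (E : Set P) ≤ K := by
  obtain ⟨y, hyK, hyE, hyN⟩ := exists_mem_normalizer_of_lt (hP.to_subgroup K) hlt
  rcases eq_or_eq_of_relIndex hS.idx (le_inf hlt.le Subgroup.le_normalizer) inf_le_right with h | h
  · exfalso
    apply hyE
    rw [← h]
    exact Subgroup.mem_inf.mpr ⟨hyK, hyN⟩
  · rw [← h]; exact inf_le_left

theorem sup_conj_eq {E : Subgroup P} (hS : IsSoft p E) {w : P}
    (hw : w ∈ normalizer ((normalizer (E : Set P) : Subgroup P) : Set P)) (hwT : w ∉ normalizer (E : Set P)) :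
    E ⊔ conjS w E = normalizer (E : Set P) ∧ conjS w E ≤ normalizer (E : Set P) := by
  have h1 : conjS w (normalizer (E : Set P)) = normalizer (E : Set P) := mem_normalizer_iff_conjS.mp hw
  have h2 : conjS w E ≤ normalizer (E : Set P) := by
    rw [← h1]; exact conjS_mono w Subgroup.le_normalizer
  refine ⟨?_, h2⟩
  have h2' : E ⊔ conjS w E ≤ normalizer (E : Set P) := sup_le Subgroup.le_normalizer h2
  have hle : E ≤ E ⊔ conjS w E := le_sup_left
  rcases eq_or_eq_of_relIndex (H := E) (L := E ⊔ conjS w E) (M := normalizer (E : Set P)) hS.idx hle h2' with h3 | h3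
  · exfalso
    have h4 : conjS w E ≤ E := le_sup_right.trans h3.le
    have h5 : conjS w E = E := Subgroup.eq_of_le_of_card_ge h4 (by rw [card_conjS])
    exact hwT (mem_normalizer_iff_conjS.mpr h5)
  · exact h3

theorem central_of_mem_inf {E : Subgroup P} (hS : IsSoft p E) {w x : P}
    (hw : w ∈ normalizer ((normalizer (E : Set P) : Subgroup P) : Set P)) (hwT : w ∉ normalizer (E : Set P))
    (hx : x ∈ E) (hx' : x ∈ conjS w E) : ∀ t ∈ normalizer (E : Set P), t * x = x * t := by
  obtain ⟨h1, -⟩ := sup_conj_eq hS hw hwT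
  have h2 : E ⊔ conjS w E ≤ centralizer ({x} : Set P) := by
    apply sup_le
    · intro e he
      rw [Subgroup.mem_centralizer_singleton_iff]
      exact hS.ab e he x hx
    · intro e he
      rw [Subgroup.mem_centralizer_singleton_iff]
      have he' := mem_conjS.mp he
      have hx'' := mem_conjS.mp hx'
      have h3 := hS.ab _ he' _ hx''
      have h4 : w * (w⁻¹ * e * w * (w⁻¹ * x * w)) * w⁻¹ = w * (w⁻¹ * x * w * (w⁻¹ * e * w)) * w⁻¹ := by
        rw [h3]
      calc e * x = w * (w⁻¹ * e * w * (w⁻¹ * x * w)) * w⁻¹ := by group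
        _ = w * (w⁻¹ * x * w * (w⁻¹ * e * w)) * w⁻¹ := h4
        _ = x * e := by group
  intro t ht
  rw [← h1] at ht
  exact Subgroup.mem_centralizer_singleton_iff.mp (h2 ht)

/-- Centrality in a subgroup is invariant under conjugation by its normalizer. -/
theorem conj_central {T : Subgroup P} {y u : P} (hy : y ∈ normalizer (T : Set P))
    (hu : ∀ t ∈ T, t * u = u * t) : ∀ t ∈ T, t * (y * u * y⁻¹) = (y * u * y⁻¹) * t := by
  intro t ht
  have h1 : y⁻¹ * t * y ∈ T := by
    have := (Subgroup.mem_normalizer_iff.mp (inv_mem hy) t).mp ht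
    rwa [inv_inv] at this
  have h2 := hu _ h1
  have h3 : y * (y⁻¹ * t * y * u) * y⁻¹ = y * (u * (y⁻¹ * t * y)) * y⁻¹ := by rw [h2]
  calc t * (y * u * y⁻¹) = y * (y⁻¹ * t * y * u) * y⁻¹ := by group
    _ = y * (u * (y⁻¹ * t * y)) * y⁻¹ := h3
    _ = (y * u * y⁻¹) * t := by group

/-- The structure of the normalizer of a soft subgroup which is not the whole group. -/
theorem data (hP : IsPGroup p P) {E : Subgroup P} (hS : IsSoft p E)
    (hT : normalizer (E : Set P) ≠ ⊤) :
    Nat.card (⁅normalizer (E : Set P), normalizer (E : Set P)⁆ : Subgroup P) = p ∧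
      ⁅normalizer (E : Set P), normalizer (E : Set P)⁆ ≤ E ∧
      (normalizer (E : Set P)).relIndex (normalizer ((normalizer (E : Set P) : Subgroup P) : Set P)) = p := by
  classical
  have hpp : p.Prime := hp.out
  obtain ⟨T, hTd⟩ : ∃ T : Subgroup P, T = normalizer (E : Set P) := ⟨_, rfl⟩
  rw [← hTd] at hT ⊢
  have hidx : E.relIndex T = p := by rw [hTd]; exact hS.idx
  have hET : E ≤ T := by rw [hTd]; exact Subgroup.le_normalizer
  obtain ⟨g, -, hgT, hgN⟩ := exists_mem_normalizer_of_lt (hP.to_subgroup (⊤ : Subgroup P)) (lt_top_iff_ne_top.mpr hT)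
  have hgN' : g ∈ normalizer ((normalizer (E : Set P) : Subgroup P) : Set P) := by rw [← hTd]; exact hgN
  have hgT' : g ∉ normalizer (E : Set P) := by rw [← hTd]; exact hgT
  obtain ⟨hsup, hE'le⟩ := sup_conj_eq hS hgN' hgT'
  rw [← hTd] at hsup hE'le
  obtain ⟨E', hE'⟩ : ∃ E', E' = conjS g E := ⟨_, rfl⟩
  rw [← hE'] at hsup hE'le
  have hconjT : conjS g T = T := mem_normalizer_iff_conjS.mp hgN
  have hNE' : normalizer (E' : Set P) = T := by
    rw [hE', conj_normalizer, ← hTd, hconjT]
  -- the group `T` as a type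
  have hAi : (E.subgroupOf T).index = p := hidx
  have hA'i : (E'.subgroupOf T).index = p := by
    have h1 : E'.relIndex T = E.relIndex T := by
      conv_lhs => rw [hE', ← hconjT]
      exact Subgroup.relIndex_map_map_of_injective _ _ (MulAut.conj g).injective
    rw [← hidx, ← h1]; rfl
  have hSp : IsPGroup p T := hP.to_subgroup T
  haveI hAn : (E.subgroupOf T).Normal := by
    rw [Subgroup.normal_subgroupOf_iff_le_normalizer hET, hTd]
  haveI hA'n : (E'.subgroupOf T).Normal := by
    rw [Subgroup.normal_subgroupOf_iff_le_normalizer hE'le, hNE']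
  have hAc : IsMulCommutative (E.subgroupOf T) :=
    ⟨⟨fun a b => Subtype.ext (Subtype.ext (hS.ab _ a.2 _ b.2))⟩⟩
  have hE'comm : ∀ a ∈ E', ∀ b ∈ E', a * b = b * a := by
    intro a ha b hb
    rw [hE', mem_conjS] at ha hb
    have h3 := hS.ab _ ha _ hb
    have h4 : g * (g⁻¹ * a * g * (g⁻¹ * b * g)) * g⁻¹ =
        g * (g⁻¹ * b * g * (g⁻¹ * a * g)) * g⁻¹ := by rw [h3]
    calc a * b = g * (g⁻¹ * a * g * (g⁻¹ * b * g)) * g⁻¹ := by group
      _ = g * (g⁻¹ * b * g * (g⁻¹ * a * g)) * g⁻¹ := h4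
      _ = b * a := by group
  have hA'c : IsMulCommutative (E'.subgroupOf T) :=
    ⟨⟨fun a b => Subtype.ext (Subtype.ext (hE'comm _ a.2 _ b.2))⟩⟩
  have hna : ¬ IsMulCommutative T := by
    intro hc
    have h1 : T ≤ centralizer (E : Set P) := by
      intro t ht
      rw [Subgroup.mem_centralizer_iff]
      intro e he
      have := hc.is_comm.comm ⟨e, hET he⟩ ⟨t, ht⟩
      exact congrArg Subtype.val this
    have h2 : T ≤ E := h1.trans hS.self
    have h3 : E.relIndex T = 1 := Subgroup.relIndex_eq_one.mpr h2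
    rw [hidx] at h3
    exact hpp.one_lt.ne h3.symm
  have hne : ¬ E'.subgroupOf T ≤ E.subgroupOf T := by
    intro hle
    have h1 : E' ≤ E := by
      intro x hx
      exact hle (show (⟨x, hE'le hx⟩ : T) ∈ E'.subgroupOf T from hx)
    have h2 : E' = E := Subgroup.eq_of_le_of_card_ge h1 (by rw [hE', card_conjS])
    rw [hE'] at h2
    apply hgT'
    exact mem_normalizer_iff_conjS.mpr h2
  have hco : IsCoatom (E.subgroupOf T) := isCoatom_of_index_prime (by rw [hAi]; exact hpp)
  have hsupT : E'.subgroupOf T ⊔ E.subgroupOf T = ⊤ := by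
    rw [sup_comm]
    apply hco.2
    exact lt_of_le_of_ne le_sup_left (fun e => hne (by rw [e]; exact le_sup_right))
  have hcenter : center T = E.subgroupOf T ⊓ E'.subgroupOf T := by
    apply le_antisymm
    · exact le_inf (center_le_of_abelian_index_prime hna hAc hAi) (center_le_of_abelian_index_prime hna hA'c hA'i)
    · intro x hx
      obtain ⟨hx1, hx2⟩ := Subgroup.mem_inf.mp hx
      rw [Subgroup.mem_center_iff]
      intro y
      apply Subtype.ext
      have hx2' : (x : P) ∈ conjS g E := by rw [← hE']; exact hx2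
      have := central_of_mem_inf hS hgN' hgT' hx1 hx2' (y : P) (by rw [← hTd]; exact y.2)
      exact this
  have hcenidx : (center T).index = p ^ 2 := by
    rw [hcenter]
    have h1 := Subgroup.relIndex_mul_index (inf_le_left : E.subgroupOf T ⊓ E'.subgroupOf T ≤ E.subgroupOf T)
    rw [← h1, Subgroup.inf_relIndex_left, ← Subgroup.relIndex_sup_left, hsupT, Subgroup.relIndex_top_right,
      hA'i, hAi, pow_two]
  have hcomm : Nat.card (commutator T) = p :=
    Cfsg.Agent.Lib.PSmall.card_commutator_of_index_center hpp hcenidx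
  have hmapc : (commutator T).map T.subtype = ⁅T, T⁆ := by
    exact Subgroup.map_subtype_commutator T
  refine ⟨?_, ?_, ?_⟩
  · rw [← hmapc, Subgroup.card_map_of_injective T.subtype_injective, hcomm]
  · rw [← hmapc]
    rintro _ ⟨s, hs, rfl⟩
    exact commutator_le_of_index_prime hAi hs
  · -- the count
    obtain ⟨e₀, he₀, he₀c⟩ : ∃ e₀ ∈ E, ¬ ∀ t ∈ T, t * e₀ = e₀ * t := by
      by_contra hcon
      push Not at hcon
      have h1 : E.subgroupOf T ≤ center T := by
        intro x hx
        rw [Subgroup.mem_center_iff]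
        intro y
        exact Subtype.ext (hcon _ hx y y.2)
      have h2 : center T = E.subgroupOf T :=
        le_antisymm (center_le_of_abelian_index_prime hna hAc hAi) h1
      rw [h2, hAi] at hcenidx
      have : p * 1 = p * p := by rw [mul_one]; nth_rewrite 1 [hcenidx]; ring
      have := Nat.eq_of_mul_eq_mul_left hpp.pos this
      exact hpp.one_lt.ne this
    obtain ⟨T₂, hT₂⟩ : ∃ T₂ : Subgroup P, T₂ = normalizer (T : Set P) := ⟨_, rfl⟩
    have hTT₂ : T ≤ T₂ := by rw [hT₂]; exact Subgroup.le_normalizer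
    have hgT₂ : g ∈ T₂ := by rw [hT₂]; exact hgN
    rw [← hT₂]
    have hm1 : T.relIndex T₂ ≠ 1 := by
      intro h
      exact hgT (Subgroup.relIndex_eq_one.mp h hgT₂)
    have hmd : T.relIndex T₂ ∣ p ^ (Nat.card T₂).primeFactorsList.length := by
      have h1 : Nat.card T₂ = p ^ _ := Nat.eq_prime_pow_of_unique_prime_dvd (n := Nat.card T₂) (p := p) Nat.card_pos.ne' (by
        intro d hd hdd
        haveI : Fact d.Prime := ⟨hd⟩
        obtain ⟨n, hn⟩ := IsPGroup.iff_card.mp (hP.to_subgroup T₂)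
        rw [hn] at hdd
        exact (Nat.prime_dvd_prime_iff_eq hd hpp).mp (hd.dvd_of_dvd_pow hdd))
      rw [← h1]
      exact Subgroup.relIndex_dvd_card _ _
    obtain ⟨k, -, hk⟩ := (Nat.dvd_prime_pow hpp).mp hmd
    have hlt : T.relIndex T₂ < p ^ 2 := by
      have hcardV : Nat.card (T ⧸ center T) = p ^ 2 := hcenidx
      have hcardQ : Nat.card (T₂ ⧸ T.subgroupOf T₂) = T.relIndex T₂ := rfl
      rw [← hcardV, ← hcardQ]
      have hconjmem : ∀ y : T₂, (y : P) * e₀ * (y : P)⁻¹ ∈ T := by
        intro y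
        have hy : (y : P) ∈ normalizer (T : Set P) := by rw [← hT₂]; exact y.2
        exact (Subgroup.mem_normalizer_iff.mp hy e₀).mp (hET he₀)
      let F : (T₂ ⧸ T.subgroupOf T₂) → (T ⧸ center T) := fun q =>
        QuotientGroup.mk ⟨(q.out : P) * e₀ * (q.out : P)⁻¹, hconjmem q.out⟩
      have hnc : ∀ y : T₂, ¬ ∀ t ∈ T, t * ((y : P) * e₀ * (y : P)⁻¹) = ((y : P) * e₀ * (y : P)⁻¹) * t := by
        intro y hy
        apply he₀c
        have hy' : (y : P)⁻¹ ∈ normalizer (T : Set P) := by
          rw [← hT₂]; exact inv_mem y.2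
        have := conj_central hy' hy
        have e : (y : P)⁻¹ * ((y : P) * e₀ * (y : P)⁻¹) * ((y : P)⁻¹)⁻¹ = e₀ := by group
        rwa [e] at this
      have hinj : Function.Injective F := by
        intro q q' hqq
        have h0 := QuotientGroup.eq.mp hqq
        obtain ⟨y, hy⟩ : ∃ y : P, y = ((q.out : T₂) : P) := ⟨_, rfl⟩
        obtain ⟨y', hy'⟩ : ∃ y' : P, y' = ((q'.out : T₂) : P) := ⟨_, rfl⟩
        have hyN : y ∈ normalizer (T : Set P) := by
          rw [← hT₂, hy]; exact (q.out : T₂).2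
        have hy'N : y' ∈ normalizer (T : Set P) := by
          rw [← hT₂, hy']; exact (q'.out : T₂).2
        have hc0 : ∀ t ∈ T, t * ((y * e₀ * y⁻¹)⁻¹ * (y' * e₀ * y'⁻¹)) =
            ((y * e₀ * y⁻¹)⁻¹ * (y' * e₀ * y'⁻¹)) * t := by
          intro t ht
          have h1 := (Subgroup.mem_center_iff.mp h0) ⟨t, ht⟩
          have h2 := congrArg Subtype.val h1
          rw [hy, hy']
          exact h2
        obtain ⟨c, hc⟩ : ∃ c, c = (y * e₀ * y⁻¹)⁻¹ * (y' * e₀ * y'⁻¹) := ⟨_, rfl⟩
        rw [← hc] at hc0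
        have hc' := conj_central (inv_mem hyN) hc0
        have hc'E : y⁻¹ * c * y⁻¹⁻¹ ∈ E := by
          apply hS.self
          rw [Subgroup.mem_centralizer_iff]
          intro e he
          exact hc' e (hET he)
        have hw : (y⁻¹ * y') * e₀ * (y⁻¹ * y')⁻¹ = e₀ * (y⁻¹ * c * y⁻¹⁻¹) := by
          rw [hc]; group
        have hwE : (y⁻¹ * y') * e₀ * (y⁻¹ * y')⁻¹ ∈ E := by
          rw [hw]; exact mul_mem he₀ hc'E
        have hwN : y⁻¹ * y' ∈ normalizer ((normalizer (E : Set P) : Subgroup P) : Set P) := by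
          rw [← hTd]; exact mul_mem (inv_mem hyN) hy'N
        by_cases hwT : y⁻¹ * y' ∈ T
        · rw [← QuotientGroup.out_eq' q, ← QuotientGroup.out_eq' q', QuotientGroup.eq]
          show (((q.out : T₂)⁻¹ * (q'.out : T₂) : T₂) : P) ∈ T
          have : (((q.out : T₂)⁻¹ * (q'.out : T₂) : T₂) : P) = y⁻¹ * y' := by
            rw [hy, hy']; rfl
          rw [this]; exact hwT
        · exfalso
          have hwT' : y⁻¹ * y' ∉ normalizer (E : Set P) := by rw [← hTd]; exact hwT
          have hc1 := central_of_mem_inf hS hwN hwT' hwE (conj_mem_conjS he₀)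
          rw [← hTd] at hc1
          have hc2 := conj_central (inv_mem (by
            rw [← hTd] at hwN; exact hwN)) hc1
          have e : (y⁻¹ * y')⁻¹ * ((y⁻¹ * y') * e₀ * (y⁻¹ * y')⁻¹) * (y⁻¹ * y')⁻¹⁻¹ = e₀ := by group
          rw [e] at hc2
          exact he₀c hc2
      have hnot1 : (1 : T ⧸ center T) ∉ Set.range F := by
        rintro ⟨q, hq⟩
        have h1 := (QuotientGroup.eq_one_iff _).mp hq
        apply hnc q.out
        intro t ht
        have h2 := (Subgroup.mem_center_iff.mp h1) ⟨t, ht⟩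
        exact congrArg Subtype.val h2
      haveI : Fintype (T₂ ⧸ T.subgroupOf T₂) := Fintype.ofFinite _
      haveI : Fintype (T ⧸ center T) := Fintype.ofFinite _
      rw [Nat.card_eq_fintype_card, Nat.card_eq_fintype_card]
      exact Fintype.card_lt_of_injective_of_notMem F hinj hnot1
    have hk1 : k = 1 := by
      have hk0 : k ≠ 0 := by
        rintro rfl
        rw [pow_zero] at hk
        exact hm1 hk
      have hk2 : k < 2 := by
        by_contra hcon
        have : p ^ 2 ≤ p ^ k := Nat.pow_le_pow_right hpp.pos (by omega)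
        rw [hk] at hlt
        omega
      omega
    rw [hk, hk1, pow_one]

section Quot

variable {Z : Subgroup P} [Z.Normal]

/-- The natural projection. -/
local notation "π" => QuotientGroup.mk' Z

theorem mem_map_iff {K : Subgroup P} (hZ : Z ≤ K) (x : P) :
    (x : P ⧸ Z) ∈ K.map (QuotientGroup.mk' Z) ↔ x ∈ K := by
  have h : (K.map (QuotientGroup.mk' Z)).comap (QuotientGroup.mk' Z) = K :=
    Subgroup.comap_map_eq_self (by rw [QuotientGroup.ker_mk']; exact hZ)
  conv_rhs => rw [← h]
  rfl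

theorem normalizer_map_eq {K : Subgroup P} (hZ : Z ≤ K) :
    normalizer ((K.map (QuotientGroup.mk' Z) : Subgroup (P ⧸ Z)) : Set (P ⧸ Z)) =
      (normalizer (K : Set P)).map (QuotientGroup.mk' Z) := by
  apply le_antisymm
  · intro x hx
    obtain ⟨y, rfl⟩ := QuotientGroup.mk_surjective x
    refine ⟨y, ?_, rfl⟩
    rw [SetLike.mem_coe, Subgroup.mem_normalizer_iff]
    intro k
    have h1 := (Subgroup.mem_normalizer_iff.mp hx) (k : P ⧸ Z)
    rw [mem_map_iff hZ k] at h1
    rw [h1]
    exact mem_map_iff hZ (y * k * y⁻¹)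
  · exact Subgroup.le_normalizer_map _

theorem relIndex_map_map {K N : Subgroup P} (hZ : Z ≤ K) :
    (K.map (QuotientGroup.mk' Z)).relIndex (N.map (QuotientGroup.mk' Z)) = K.relIndex N := by
  have h : (K.map (QuotientGroup.mk' Z)).comap (QuotientGroup.mk' Z) = K :=
    Subgroup.comap_map_eq_self (by rw [QuotientGroup.ker_mk']; exact hZ)
  rw [← Subgroup.relIndex_comap, h]

theorem relIndex_normalizer_map {K : Subgroup P} (hZ : Z ≤ K) :
    (K.map (QuotientGroup.mk' Z)).relIndex
      (normalizer ((K.map (QuotientGroup.mk' Z) : Subgroup (P ⧸ Z)) : Set (P ⧸ Z))) =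
      K.relIndex (normalizer (K : Set P)) := by
  rw [normalizer_map_eq hZ, relIndex_map_map hZ]

theorem map_le_map_iff' {K L : Subgroup P} (hZ : Z ≤ K) :
    K.map (QuotientGroup.mk' Z) ≤ L.map (QuotientGroup.mk' Z) ↔ K ≤ L ⊔ Z := by
  rw [Subgroup.map_le_map_iff, QuotientGroup.ker_mk']

/-- Pulling back the conclusions. -/
theorem pull {F : Subgroup P} (hZ : Z ≤ F)
    (h : (∀ K L : Subgroup (P ⧸ Z), F.map (QuotientGroup.mk' Z) ≤ K → F.map (QuotientGroup.mk' Z) ≤ L →
        K ≤ L ∨ L ≤ K) ∧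
      ∀ K : Subgroup (P ⧸ Z), F.map (QuotientGroup.mk' Z) ≤ K → K ≠ ⊤ →
        K.relIndex (normalizer (K : Set (P ⧸ Z))) = p) :
    (∀ K L : Subgroup P, F ≤ K → F ≤ L → K ≤ L ∨ L ≤ K) ∧
      ∀ K : Subgroup P, F ≤ K → K ≠ ⊤ → K.relIndex (normalizer (K : Set P)) = p := by
  constructor
  · intro K L hK hL
    rcases h.1 _ _ (Subgroup.map_mono hK) (Subgroup.map_mono hL) with h1 | h1
    · left
      intro x hx
      exact (mem_map_iff (hZ.trans hL) x).mp (h1 ((mem_map_iff (hZ.trans hK) x).mpr hx))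
    · right
      intro x hx
      exact (mem_map_iff (hZ.trans hK) x).mp (h1 ((mem_map_iff (hZ.trans hL) x).mpr hx))
  · intro K hK hne
    rw [← relIndex_normalizer_map (hZ.trans hK)]
    refine h.2 _ (Subgroup.map_mono hK) ?_
    intro htop
    apply hne
    rw [eq_top_iff]
    intro x _
    rw [← mem_map_iff (hZ.trans hK), htop]
    trivial

theorem isSoft_map {F : Subgroup P} (hZ : Z ≤ F) (hab : ∀ a ∈ F, ∀ b ∈ F, ⁅a, b⁆ ∈ Z)
    (hself : ∀ y, (∀ e ∈ F, ⁅y, e⁆ ∈ Z) → y ∈ F) (hidx : F.relIndex (normalizer (F : Set P)) = p) :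
    IsSoft p (F.map (QuotientGroup.mk' Z)) := by
  refine ⟨?_, ?_, ?_⟩
  · rintro _ ⟨a, ha, rfl⟩ _ ⟨b, hb, rfl⟩
    have h1 : (QuotientGroup.mk' Z ⁅a, b⁆) = 1 := by
      rw [← MonoidHom.mem_ker, QuotientGroup.ker_mk']; exact hab a ha b hb
    rw [map_commutatorElement, commutatorElement_eq_one_iff_mul_comm] at h1
    exact h1
  · intro x hx
    obtain ⟨y, rfl⟩ := QuotientGroup.mk_surjective x
    rw [mem_map_iff hZ]
    apply hself
    intro e he
    rw [Subgroup.mem_centralizer_iff] at hx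
    have h1 := hx (e : P ⧸ Z) ((mem_map_iff hZ e).mpr he)
    rw [← QuotientGroup.eq_one_iff]
    have h2 : ((⁅y, e⁆ : P) : P ⧸ Z) = ⁅(y : P ⧸ Z), (e : P ⧸ Z)⁆ := rfl
    rw [h2, commutatorElement_eq_one_iff_mul_comm]
    exact h1.symm
  · rw [relIndex_normalizer_map hZ]; exact hidx

end Quot

/-- Conjugation in terms of commutators: a subgroup containing `Z` and all commutators with `Z`. -/
theorem mem_normalizer_of_comm {E Z : Subgroup P} (hZ : Z ≤ E) {y : P} (h : ∀ e ∈ E, ⁅y, e⁆ ∈ Z) :
    y ∈ normalizer (E : Set P) := by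
  have hfwd : ∀ e ∈ E, y * e * y⁻¹ ∈ E := by
    intro e he
    have h1 : y * e * y⁻¹ = ⁅y, e⁆ * e := by rw [commutatorElement_def]; group
    rw [h1]
    exact mul_mem (hZ (h e he)) he
  exact Cfsg.Agent.Lib.Transfer.mem_normalizer_of_forall_conj hfwd

theorem eq_bot_or_eq_of_le_of_prime {Q X : Subgroup P} (hQ : Nat.card Q = p) (h : X ≤ Q) : X = ⊥ ∨ X = Q := by
  have h1 : Nat.card X ∣ p := by rw [← hQ]; exact Subgroup.card_dvd_of_le h
  rcases (Nat.dvd_prime hp.out).mp h1 with h2 | h2
  · left; exact Subgroup.eq_bot_of_card_eq X h2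
  · right; exact Subgroup.eq_of_le_of_card_ge h (by rw [h2, hQ])

/-- The chain property and the normalizer property. -/
theorem chain_main (p : ℕ) [hp : Fact p.Prime] : ∀ (n : ℕ) (P : Type u) [Group P] [Finite P], Nat.card P = n → IsPGroup p P →
    ∀ E : Subgroup P, IsSoft p E →
      (∀ K L : Subgroup P, E ≤ K → E ≤ L → K ≤ L ∨ L ≤ K) ∧
        ∀ K : Subgroup P, E ≤ K → K ≠ ⊤ → K.relIndex (normalizer (K : Set P)) = p := by
  intro n
  induction n using Nat.strong_induction_on with
  | _ n ih =>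
  intro P _ _ hcard hP E hS
  have hpp : p.Prime := hp.out
  by_cases hT : normalizer (E : Set P) = ⊤
  · -- `E` is normal of index `p`
    have hdich : ∀ K : Subgroup P, E ≤ K → K = E ∨ K = ⊤ := by
      intro K hK
      have h1 : K ≤ normalizer (E : Set P) := by rw [hT]; exact le_top
      rcases eq_or_eq_of_relIndex hS.idx hK h1 with h2 | h2
      · exact Or.inl h2
      · right; rw [h2, hT]
    constructor
    · intro K L hK hL
      rcases hdich K hK with rfl | rfl
      · exact Or.inl hL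
      · rcases hdich L hL with rfl | rfl
        · exact Or.inr hK
        · exact Or.inl le_rfl
    · intro K hK hne
      rcases hdich K hK with rfl | rfl
      · exact hS.idx
      · exact absurd rfl hne
  · -- the main case
    obtain ⟨hDcard, hDE, hTidx⟩ := data hP hS hT
    obtain ⟨T, hTd⟩ : ∃ T : Subgroup P, T = normalizer (E : Set P) := ⟨_, rfl⟩
    rw [← hTd] at hDcard hDE hTidx hT
    obtain ⟨D, hDd⟩ : ∃ D : Subgroup P, D = ⁅T, T⁆ := ⟨_, rfl⟩
    rw [← hDd] at hDcard hDE
    have hET : E ≤ T := by rw [hTd]; exact Subgroup.le_normalizer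
    -- a central subgroup of order `p`
    haveI : Nontrivial P := by
      by_contra hnt
      rw [not_nontrivial_iff_subsingleton] at hnt
      exact hT (Subsingleton.elim _ _)
    obtain ⟨z, hzc, hz1⟩ : ∃ z ∈ center P, orderOf z = p := by
      haveI : Nontrivial (center P) := hP.center_nontrivial
      have hdvd : p ∣ Nat.card (center P) := by
        obtain ⟨k, hk⟩ := IsPGroup.iff_card.mp (hP.to_subgroup (center P))
        rw [hk]
        have hk0 : k ≠ 0 := by
          rintro rfl
          have := Finite.one_lt_card (α := center P)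
          rw [hk] at this
          simp at this
        exact dvd_pow_self p hk0
      obtain ⟨x, hx⟩ := exists_prime_orderOf_dvd_card' p hdvd
      refine ⟨x, x.2, ?_⟩
      rw [← hx]; exact Subgroup.orderOf_coe x
    obtain ⟨Z₀, hZd⟩ : ∃ Z₀ : Subgroup P, Z₀ = Subgroup.zpowers z := ⟨_, rfl⟩
    have hZcen : Z₀ ≤ center P := by rw [hZd, Subgroup.zpowers_le]; exact hzc
    haveI hZn : Z₀.Normal := by
      constructor
      intro a ha g
      have := (Subgroup.mem_center_iff.mp (hZcen ha)) g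
      rw [this]; group; exact ha
    have hZcard : Nat.card Z₀ = p := by rw [hZd, Nat.card_zpowers, hz1]
    have hZE : Z₀ ≤ E := by
      apply le_trans _ hS.self
      intro a ha
      rw [Subgroup.mem_centralizer_iff]
      intro e _
      exact (Subgroup.mem_center_iff.mp (hZcen ha)) e
    have hlt : Nat.card (P ⧸ Z₀) < n := by
      have h1 := Subgroup.card_mul_index Z₀
      rw [hZcard] at h1
      rw [← hcard]
      have h2 : Nat.card (P ⧸ Z₀) = Z₀.index := rfl
      rw [h2, ← h1]
      have h3 : 0 < Z₀.index := Nat.pos_of_ne_zero Subgroup.index_ne_zero_of_finite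
      nlinarith [hpp.two_le]
    have hPq : IsPGroup p (P ⧸ Z₀) := hP.to_quotient Z₀
    have hcomm_T : ∀ a ∈ T, ∀ b ∈ T, ⁅a, b⁆ ∈ D := by
      intro a ha b hb
      rw [hDd]
      exact Subgroup.commutator_mem_commutator ha hb
    by_cases hZD : Z₀ = D
    · -- `D` is normal; pass to `T/D`
      have hZT : Z₀ ≤ T := hZE.trans hET
      have hsoft : IsSoft p (T.map (QuotientGroup.mk' Z₀)) := by
        refine isSoft_map hZT ?_ ?_ hTidx
        · intro a ha b hb
          rw [hZD]; exact hcomm_T a ha b hb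
        · intro y hy
          rw [hTd]
          apply mem_normalizer_of_comm hZE
          intro e he
          exact hy e (hET he)
      have h1 := ih _ hlt (P ⧸ Z₀) rfl hPq _ hsoft
      obtain ⟨h2, h3⟩ := pull hZT h1
      have hover : ∀ K : Subgroup P, E ≤ K → K = E ∨ T ≤ K := by
        intro K hK
        rcases eq_or_lt_of_le hK with h | h
        · exact Or.inl h.symm
        · right; rw [hTd]; exact normalizer_le hP hS h
      constructor
      · intro K L hK hL
        rcases hover K hK with rfl | hK'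
        · exact Or.inl hL
        · rcases hover L hL with rfl | hL'
          · exact Or.inr hK
          · exact h2 K L hK' hL'
      · intro K hK hne
        rcases hover K hK with rfl | hK'
        · exact hS.idx
        · exact h3 K hK' hne
    · -- `Z₀ ∩ D = 1`
      have hinf : ∀ x, x ∈ Z₀ → x ∈ D → x = 1 := by
        intro x hxZ hxD
        by_contra hx1
        have hne : Z₀ = D := by
          have hZD' : Z₀ ⊓ D ≠ ⊥ := by
            intro h
            apply hx1
            have : x ∈ Z₀ ⊓ D := Subgroup.mem_inf.mpr ⟨hxZ, hxD⟩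
            rw [h] at this
            exact this
          have hi1 : Z₀ ⊓ D = Z₀ := by
            rcases eq_bot_or_eq_of_le_of_prime hZcard (inf_le_left : Z₀ ⊓ D ≤ Z₀) with h | h
            · exact absurd h hZD'
            · exact h
          have hi2 : Z₀ ⊓ D = D := by
            rcases eq_bot_or_eq_of_le_of_prime hDcard (inf_le_right : Z₀ ⊓ D ≤ D) with h | h
            · exact absurd h hZD'
            · exact h
          rw [← hi1, hi2]
        exact hZD hne
      have hsoft : IsSoft p (E.map (QuotientGroup.mk' Z₀)) := by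
        refine isSoft_map hZE ?_ ?_ hS.idx
        · intro a ha b hb
          have := hS.ab a ha b hb
          rw [commutatorElement_eq_one_iff_mul_comm.mpr this]
          exact one_mem _
        · intro y hy
          have hyT : y ∈ normalizer (E : Set P) := mem_normalizer_of_comm hZE hy
          apply hS.self
          rw [Subgroup.mem_centralizer_iff]
          intro e he
          have h1 : ⁅y, e⁆ = 1 := by
            apply hinf _ (hy e he)
            apply hcomm_T
            · rw [hTd]; exact hyT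
            · exact hET he
          exact (commutatorElement_eq_one_iff_mul_comm.mp h1).symm
      have h1 := ih _ hlt (P ⧸ Z₀) rfl hPq _ hsoft
      exact pull hZE h1

section PartC

theorem mem_normalizer_sup {X Y : Subgroup P} {y : P} (hX : ∀ a ∈ X, y * a * y⁻¹ ∈ X ⊔ Y)
    (hY : ∀ a ∈ Y, y * a * y⁻¹ ∈ X ⊔ Y) : y ∈ normalizer ((X ⊔ Y : Subgroup P) : Set P) := by
  apply Cfsg.Agent.Lib.Transfer.mem_normalizer_of_forall_conj
  have h : X ⊔ Y ≤ (X ⊔ Y).comap (MulAut.conj y).toMonoidHom := sup_le hX hY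
  intro a ha
  exact h ha

/-- The subgroup of those `v ∈ K` with `⁅u, v⁆ ∈ M`. -/
def commS (K M : Subgroup P) (hM : K ≤ normalizer (M : Set P)) (u : P) : Subgroup P where
  carrier := {v | v ∈ K ∧ ⁅u, v⁆ ∈ M}
  mul_mem' := by
    rintro a b ⟨ha, ha'⟩ ⟨hb, hb'⟩
    refine ⟨mul_mem ha hb, ?_⟩
    rw [Breadth.comm_mul_right]
    exact mul_mem ha' ((Subgroup.mem_normalizer_iff.mp (hM ha) _).mp hb')
  one_mem' := by
    refine ⟨one_mem _, ?_⟩
    rw [commutatorElement_one_right]
    exact one_mem _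
  inv_mem' := by
    rintro a ⟨ha, ha'⟩
    refine ⟨inv_mem ha, ?_⟩
    have h1 : ⁅u, a⁻¹⁆ = a⁻¹ * (⁅u, a⁆)⁻¹ * a⁻¹⁻¹ := by
      simp only [commutatorElement_def]; group
    rw [h1]
    exact (Subgroup.mem_normalizer_iff.mp (hM (inv_mem ha)) _).mp (inv_mem ha')

variable (K : Subgroup P)

theorem lcs_le (n : ℕ) : K.lowerCentralSeries n ≤ K :=
  K.lowerCentralSeries_antitone (Nat.zero_le n)

theorem comm_mem_lcs_succ {n : ℕ} {u v : P} (hu : u ∈ K.lowerCentralSeries n) (hv : v ∈ K) :
    ⁅u, v⁆ ∈ K.lowerCentralSeries (n + 1) :=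
  Subgroup.commutator_mem_commutator hu hv

theorem lcs_comm_mem (n : ℕ) {u v : P} (hu : u ∈ K.lowerCentralSeries n) (hv : v ∈ K.lowerCentralSeries 1) :
    ⁅u, v⁆ ∈ K.lowerCentralSeries (n + 2) := by
  have h := Cfsg.Agent.Lib.ClassSizes.HallPet.lcs_comm (↥K) 1 n
  have h2 := Subgroup.map_mono (f := K.subtype) h
  rw [Subgroup.map_commutator, Subgroup.top_subtype_lowerCentralSeries,
    Subgroup.top_subtype_lowerCentralSeries, Subgroup.top_subtype_lowerCentralSeries] at h2
  exact h2 (Subgroup.commutator_mem_commutator hu hv)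

variable {K}

/-- An abelian subgroup with a flat step commutes with the series modulo the next term. -/
theorem flat_comm {A : Subgroup P} (hA : ∀ a ∈ A, ∀ b ∈ A, a * b = b * a) (hAK : A ≤ K) {n : ℕ}
    (hflat : A ⊔ K.lowerCentralSeries n = A ⊔ K.lowerCentralSeries (n + 1))
    {u e : P} (hu : u ∈ K.lowerCentralSeries n) (he : e ∈ A) :
    ⁅u, e⁆ ∈ K.lowerCentralSeries (n + 2) := by
  have h1 : u ∈ A ⊔ K.lowerCentralSeries (n + 1) := by
    rw [← hflat]; exact (le_sup_right : _ ≤ A ⊔ K.lowerCentralSeries n) hu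
  have h2 : A ≤ normalizer ((K.lowerCentralSeries (n + 1) : Subgroup P) : Set P) :=
    hAK.trans (K.self_le_normalizer_lowerCentralSeries (n + 1))
  rw [← SetLike.mem_coe, Subgroup.coe_mul_of_left_le_normalizer_right A _ h2] at h1
  obtain ⟨y, hy, z, hz, rfl⟩ := Set.mem_mul.mp h1
  rw [Breadth.comm_mul_left]
  have h3 : ⁅y, e⁆ = 1 := commutatorElement_eq_one_iff_mul_comm.mpr (hA y hy e he)
  rw [h3, mul_one]
  have h4 : ⁅z, e⁆ ∈ K.lowerCentralSeries (n + 2) := comm_mem_lcs_succ K hz (hAK he)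
  exact (Subgroup.mem_normalizer_iff.mp (K.self_le_normalizer_lowerCentralSeries (n + 2) (hAK hy)) _).mp h4

theorem lcs_eq_bot_of_stable [Group.IsNilpotent K] {m : ℕ}
    (h : K.lowerCentralSeries m ≤ K.lowerCentralSeries (m + 1)) : K.lowerCentralSeries m = ⊥ := by
  obtain ⟨c, hc⟩ := (Subgroup.isNilpotent_iff_lowerCentralSeries K).mp inferInstance
  have hst : ∀ j, K.lowerCentralSeries (m + j) = K.lowerCentralSeries m := by
    intro j
    induction j with
    | zero => rfl
    | succ j ih =>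
      have h1 : K.lowerCentralSeries (m + (j + 1)) = ⁅K.lowerCentralSeries (m + j), K⁆ := rfl
      rw [h1, ih]
      exact le_antisymm (K.lowerCentralSeries_antitone (Nat.le_succ m)) h
  have h2 := hst c
  rw [← h2, eq_bot_iff, ← hc]
  exact K.lowerCentralSeries_antitone (by omega)

variable {E : Subgroup P}

theorem relIndex_of_eq_normalizer (hS : ∀ K : Subgroup P, E ≤ K → K ≠ ⊤ → K.relIndex (normalizer (K : Set P)) = p)
    {L L' : Subgroup P} (hL : E ≤ L) (hne : L ≠ ⊤) (h1 : L ≤ L') (h2 : L' ≤ normalizer (L : Set P)) :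
    L' = L ∨ Nat.card L' = p * Nat.card L := by
  have h3 := hS L hL hne
  rcases eq_or_eq_of_relIndex h3 h1 h2 with h4 | h4
  · exact Or.inl h4
  · right
    have h5 := Cfsg.Agent.Lib.PGroup.card_inf_mul_relIndex L L'
    rw [inf_eq_left.mpr h1] at h5
    rw [← h5]
    have h6 : L.relIndex L' = p := by rw [h4]; exact h3
    rw [h6, mul_comm]

theorem sup_lcs_le_normalizer (hab : ∀ a ∈ E, ∀ b ∈ E, a * b = b * a) (hEK : E ≤ K) (n : ℕ) :
    E ⊔ K.lowerCentralSeries n ≤
      normalizer ((E ⊔ K.lowerCentralSeries (n + 1) : Subgroup P) : Set P) := by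
  have hN : ∀ x ∈ K, ∀ a ∈ K.lowerCentralSeries (n + 1), x * a * x⁻¹ ∈ E ⊔ K.lowerCentralSeries (n + 1) := by
    intro x hx a ha
    exact (le_sup_right : _ ≤ E ⊔ K.lowerCentralSeries (n + 1))
      ((Subgroup.mem_normalizer_iff.mp (K.self_le_normalizer_lowerCentralSeries (n + 1) hx) a).mp ha)
  apply sup_le
  · intro e he
    apply mem_normalizer_sup
    · intro a ha
      exact (le_sup_left : E ≤ E ⊔ K.lowerCentralSeries (n + 1)) (mul_mem (mul_mem he ha) (inv_mem he))
    · exact hN e (hEK he)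
  · intro u hu
    apply mem_normalizer_sup
    · intro a ha
      rw [Breadth.conj_eq_comm_mul]
      exact mul_mem ((le_sup_right : _ ≤ E ⊔ K.lowerCentralSeries (n + 1)) (comm_mem_lcs_succ K hu (hEK ha)))
        ((le_sup_left : E ≤ E ⊔ K.lowerCentralSeries (n + 1)) ha)
    · exact hN u (lcs_le K n hu)

theorem sup_lcs_le (hEK : E ≤ K) (n : ℕ) : E ⊔ K.lowerCentralSeries n ≤ K :=
  sup_le hEK (lcs_le K n)

theorem sup_lcs_mono (n : ℕ) : E ⊔ K.lowerCentralSeries (n + 1) ≤ E ⊔ K.lowerCentralSeries n :=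
  sup_le_sup_left (K.lowerCentralSeries_antitone (Nat.le_succ n)) E

theorem sup_lcs_step (hch : ∀ K : Subgroup P, E ≤ K → K ≠ ⊤ → K.relIndex (normalizer (K : Set P)) = p)
    (hab : ∀ a ∈ E, ∀ b ∈ E, a * b = b * a) (hEK : E ≤ K) (hKne : K ≠ ⊤) (n : ℕ) :
    E ⊔ K.lowerCentralSeries n = E ⊔ K.lowerCentralSeries (n + 1) ∨
      Nat.card (E ⊔ K.lowerCentralSeries n : Subgroup P) =
        p * Nat.card (E ⊔ K.lowerCentralSeries (n + 1) : Subgroup P) := by
  apply relIndex_of_eq_normalizer hch le_sup_left _ (sup_lcs_mono n) (sup_lcs_le_normalizer hab hEK n)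
  intro h
  apply hKne
  rw [eq_top_iff, ← h]
  exact sup_lcs_le hEK _

/-- `K` is generated by `E`, a conjugate of `E` and the commutator subgroup. -/
theorem top_decomp (hP : IsPGroup p P) (hch : ∀ K : Subgroup P, E ≤ K → K ≠ ⊤ → K.relIndex (normalizer (K : Set P)) = p)
    (hab : ∀ a ∈ E, ∀ b ∈ E, a * b = b * a) (hEK : E ≤ K) (hne : E ≠ K) (hKne : K ≠ ⊤) :
    ∃ E' : Subgroup P, (∀ a ∈ E', ∀ b ∈ E', a * b = b * a) ∧ E' ≤ K ∧
      (∀ n, E ⊔ K.lowerCentralSeries n = E ⊔ K.lowerCentralSeries (n + 1) →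
        E' ⊔ K.lowerCentralSeries n = E' ⊔ K.lowerCentralSeries (n + 1)) ∧
      K ≤ E ⊔ E' ⊔ K.lowerCentralSeries 1 := by
  obtain ⟨g, -, hgK, hgN⟩ := exists_mem_normalizer_of_lt (hP.to_subgroup (⊤ : Subgroup P)) (lt_top_iff_ne_top.mpr hKne)
  have hKg : conjS g K = K := mem_normalizer_iff_conjS.mp hgN
  have hLg : ∀ n, conjS g (K.lowerCentralSeries n) = K.lowerCentralSeries n := by
    intro n
    have h1 := Subgroup.map_lowerCentralSeries K (MulAut.conj g).toMonoidHom n
    have h2 : K.map (MulAut.conj g).toMonoidHom = K := hKg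
    rw [h2] at h1
    exact h1
  have hmap : ∀ n, conjS g (E ⊔ K.lowerCentralSeries n) = conjS g E ⊔ K.lowerCentralSeries n := by
    intro n
    have h1 : conjS g (E ⊔ K.lowerCentralSeries n) = conjS g E ⊔ conjS g (K.lowerCentralSeries n) :=
      Subgroup.map_sup _ _ _
    rw [h1, hLg]
  refine ⟨conjS g E, ?_, ?_, ?_, ?_⟩
  · intro a ha b hb
    have ha' := mem_conjS.mp ha
    have hb' := mem_conjS.mp hb
    have h3 := hab _ ha' _ hb'
    have h4 : g * (g⁻¹ * a * g * (g⁻¹ * b * g)) * g⁻¹ = g * (g⁻¹ * b * g * (g⁻¹ * a * g)) * g⁻¹ := by rw [h3]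
    calc a * b = g * (g⁻¹ * a * g * (g⁻¹ * b * g)) * g⁻¹ := by group
      _ = g * (g⁻¹ * b * g * (g⁻¹ * a * g)) * g⁻¹ := h4
      _ = b * a := by group
  · rw [← hKg]; exact conjS_mono g hEK
  · intro n h
    rw [← hmap, ← hmap, h]
  · -- `W₁ = E ⊔ K'` is a proper subgroup of `K`
    obtain ⟨W, hW⟩ : ∃ W : Subgroup P, W = E ⊔ K.lowerCentralSeries 1 := ⟨_, rfl⟩
    have hEW : E ≤ W := by rw [hW]; exact le_sup_left
    have hWK : W ≤ K := by rw [hW]; exact sup_lcs_le hEK 1
    have hWne : W ≠ K := by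
      intro hWK'
      have h1 : E.subgroupOf K ≠ ⊤ := by
        intro h
        apply hne
        apply le_antisymm hEK
        intro x hx
        have : (⟨x, hx⟩ : K) ∈ E.subgroupOf K := by rw [h]; trivial
        exact this
      obtain ⟨M, hM, hEM⟩ := (eq_top_or_exists_le_coatom (E.subgroupOf K)).resolve_left h1
      have h2 := Cfsg.Agent.Lib.Transfer.commutator_le_coatom (hP.to_subgroup K) hM
      have h3 : K.lowerCentralSeries 1 ≤ M.map K.subtype := by
        rw [← Subgroup.top_subtype_lowerCentralSeries, Subgroup.top_lowerCentralSeries_one]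
        exact Subgroup.map_mono h2
      have h4 : E ≤ M.map K.subtype := by
        intro x hx
        exact ⟨⟨x, hEK hx⟩, hEM hx, rfl⟩
      have h5' : W ≤ M.map K.subtype := by
        rw [hW]
        exact sup_le h4 h3
      have h5 : K ≤ M.map K.subtype := hWK'.ge.trans h5'
      apply hM.1
      rw [eq_top_iff]
      rintro x -
      obtain ⟨y, hy, hyx⟩ := h5 x.2
      have : y = x := Subtype.ext hyx
      rwa [← this]
    have hKnorm : K ≤ normalizer (W : Set P) := by
      have h1 := sup_lcs_le_normalizer hab hEK 0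
      have h2 : E ⊔ K.lowerCentralSeries 0 = K := sup_eq_right.mpr hEK
      rw [h2] at h1
      rw [hW]
      exact h1
    have hWtop : W ≠ ⊤ := by
      intro h
      apply hKne
      rw [eq_top_iff, ← h]
      exact hWK
    have hidx := hch W hEW hWtop
    have hNW : K = normalizer (W : Set P) :=
      (eq_or_eq_of_relIndex hidx hWK hKnorm).resolve_left (fun h => hWne h.symm)
    have hgW : g ∉ normalizer (W : Set P) := by rw [← hNW]; exact hgK
    have hWg : conjS g W ≤ K := by
      rw [← hKg]; exact conjS_mono g hWK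
    have hsup : W ⊔ conjS g W = K := by
      rcases eq_or_eq_of_relIndex (H := W) (L := W ⊔ conjS g W) (M := normalizer (W : Set P)) hidx le_sup_left
        (by rw [← hNW]; exact sup_le hWK hWg) with h | h
      · exfalso
        have h1 : conjS g W ≤ W := le_sup_right.trans h.le
        have h2 : conjS g W = W := Subgroup.eq_of_le_of_card_ge h1 (by rw [card_conjS])
        exact hgW (mem_normalizer_iff_conjS.mpr h2)
      · rw [h, ← hNW]
    have hgoal : W ⊔ conjS g W ≤ E ⊔ conjS g E ⊔ K.lowerCentralSeries 1 := by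
      have h1 : conjS g W = conjS g E ⊔ K.lowerCentralSeries 1 := by rw [hW]; exact hmap 1
      rw [h1, hW]
      exact sup_le (sup_le_sup_right le_sup_left _) (sup_le_sup_right le_sup_right _)
    exact hsup.ge.trans hgoal

/-- Flat steps force triviality. -/
theorem flat_bot [Group.IsNilpotent K] (hab : ∀ a ∈ E, ∀ b ∈ E, a * b = b * a) (hEK : E ≤ K)
    {E' : Subgroup P} (hab' : ∀ a ∈ E', ∀ b ∈ E', a * b = b * a) (hE'K : E' ≤ K)
    (hdec : K ≤ E ⊔ E' ⊔ K.lowerCentralSeries 1) {n : ℕ}
    (h1 : E ⊔ K.lowerCentralSeries n = E ⊔ K.lowerCentralSeries (n + 1))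
    (h2 : E' ⊔ K.lowerCentralSeries n = E' ⊔ K.lowerCentralSeries (n + 1)) :
    K.lowerCentralSeries (n + 1) = ⊥ := by
  apply lcs_eq_bot_of_stable
  have h3 : K.lowerCentralSeries (n + 1) = ⁅K.lowerCentralSeries n, K⁆ := rfl
  rw [h3, Subgroup.commutator_le]
  intro u hu v hv
  have hM : K ≤ normalizer ((K.lowerCentralSeries (n + 1 + 1) : Subgroup P) : Set P) :=
    K.self_le_normalizer_lowerCentralSeries _
  have hle : E ⊔ E' ⊔ K.lowerCentralSeries 1 ≤ commS K _ hM u := by
    refine sup_le (sup_le ?_ ?_) ?_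
    · intro e he
      exact ⟨hEK he, flat_comm hab hEK h1 hu he⟩
    · intro e he
      exact ⟨hE'K he, flat_comm hab' hE'K h2 hu he⟩
    · intro e he
      exact ⟨lcs_le K 1 he, lcs_comm_mem K n hu he⟩
  exact (hle (hdec hv)).2

/-- The counting dichotomy. -/
theorem count_q (hch : ∀ K : Subgroup P, E ≤ K → K ≠ ⊤ → K.relIndex (normalizer (K : Set P)) = p)
    (hab : ∀ a ∈ E, ∀ b ∈ E, a * b = b * a) (hEK : E ≤ K) (hKne : K ≠ ⊤) [Group.IsNilpotent K]
    {E' : Subgroup P} (hab' : ∀ a ∈ E', ∀ b ∈ E', a * b = b * a) (hE'K : E' ≤ K)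
    (hflat' : ∀ n, E ⊔ K.lowerCentralSeries n = E ⊔ K.lowerCentralSeries (n + 1) →
        E' ⊔ K.lowerCentralSeries n = E' ⊔ K.lowerCentralSeries (n + 1))
    (hdec : K ≤ E ⊔ E' ⊔ K.lowerCentralSeries 1) (n : ℕ) :
    K.lowerCentralSeries n = ⊥ ∨ Nat.card (E ⊔ K.lowerCentralSeries n : Subgroup P) * p ^ n = Nat.card K := by
  induction n with
  | zero =>
    right
    have h2 : E ⊔ K.lowerCentralSeries 0 = K := sup_eq_right.mpr hEK
    rw [h2, pow_zero, mul_one]
  | succ n ih =>
    rcases ih with ih | ih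
    · left
      rw [eq_bot_iff, ← ih]
      exact K.lowerCentralSeries_antitone (Nat.le_succ n)
    · rcases sup_lcs_step hch hab hEK hKne n with h | h
      · left
        exact flat_bot hab hEK hab' hE'K hdec h (hflat' n h)
      · right
        rw [← ih, h, pow_succ]
        ring

theorem class_eq (hP : IsPGroup p P) (hS : IsSoft p E)
    (hch : ∀ K : Subgroup P, E ≤ K → K ≠ ⊤ → K.relIndex (normalizer (K : Set P)) = p)
    (hbot : E ≠ ⊥) [Group.IsNilpotent K] (hEK : E ≤ K) (hKne : K ≠ ⊤) {i : ℕ}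
    (hi : K.index * p ^ i = E.index) : Group.nilpotencyClass ↥K = i + 1 := by
  have hpp := hp.out
  have hcardK : Nat.card K = Nat.card E * p ^ i := by
    have h1 := Subgroup.card_mul_index K
    have h2 := Subgroup.card_mul_index E
    rw [← h2, ← hi, ← mul_assoc, mul_right_comm] at h1
    exact (Nat.eq_of_mul_eq_mul_right (Nat.pos_of_ne_zero Subgroup.index_ne_zero_of_finite) h1).symm ▸ rfl
  -- translate the class
  have hcl : ∀ m, Group.nilpotencyClass ↥K ≤ m ↔ K.lowerCentralSeries m = ⊥ := by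
    intro m
    rw [← Subgroup.lowerCentralSeries_eq_bot_iff_nilpotencyClass_le, ← Subgroup.top_subtype_lowerCentralSeries K m,
      Subgroup.map_eq_bot_iff_of_injective _ K.subtype_injective]
  have hKbot : K ≠ ⊥ := by
    intro h
    apply hbot
    rw [eq_bot_iff, ← h]
    exact hEK
  obtain ⟨c, hc⟩ : ∃ c, Group.nilpotencyClass ↥K = c + 1 := by
    obtain ⟨c, hc⟩ : ∃ c, c = Group.nilpotencyClass ↥K := ⟨_, rfl⟩
    rcases c with _ | c
    · exfalso
      apply hKbot
      have := (hcl 0).mp (by rw [← hc])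
      exact this
    · exact ⟨c, hc.symm⟩
  have hc0 : K.lowerCentralSeries c ≠ ⊥ := by
    intro h
    have := (hcl c).mpr h
    omega
  have hc1 : K.lowerCentralSeries (c + 1) = ⊥ := (hcl _).mp hc.le
  have hcE : K.lowerCentralSeries c ≤ E := by
    apply le_trans _ hS.self
    intro u hu
    rw [Subgroup.mem_centralizer_iff]
    intro e he
    have h1 : ⁅u, e⁆ = 1 := by
      have := comm_mem_lcs_succ K hu (hEK he)
      rw [hc1] at this
      exact this
    exact (commutatorElement_eq_one_iff_mul_comm.mp h1).symm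
  have hWc : E ⊔ K.lowerCentralSeries c = E := sup_eq_left.mpr hcE
  by_cases hKE : E = K
  · -- `K = E`
    have hi0 : i = 0 := by
      by_contra h0
      have h1 : p ^ i = 1 := by
        rw [← hKE] at hi
        have h2 : 0 < E.index := Nat.pos_of_ne_zero Subgroup.index_ne_zero_of_finite
        nlinarith
      have h3 : 1 < p ^ i := Nat.one_lt_pow h0 hpp.one_lt
      omega
    have h1 : K.lowerCentralSeries 1 = ⊥ := by
      rw [eq_bot_iff]
      have h3 : K.lowerCentralSeries 1 = ⁅K.lowerCentralSeries 0, K⁆ := rfl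
      rw [h3, Subgroup.commutator_le]
      intro u hu v hv
      rw [← hKE] at hv
      have hu' : u ∈ E := by rw [hKE]; exact hu
      exact commutatorElement_eq_one_iff_mul_comm.mpr (hS.ab u hu' v hv)
    have := (hcl 1).mpr h1
    omega
  · obtain ⟨E', hab', hE'K, hfl, hdec⟩ := top_decomp hP hch hS.ab hEK hKE hKne
    have hq := count_q hch hS.ab hEK hKne hab' hE'K hfl hdec c
    rcases hq with hq | hq
    · exact absurd hq hc0
    · rw [hWc, hcardK] at hq
      have h1 := Nat.eq_of_mul_eq_mul_left (Nat.card_pos (α := E)) hq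
      have h2 := Nat.pow_right_injective hpp.two_le h1
      rw [hc, h2]

end PartC

/-- The main theorem. -/
theorem main (hP : IsPGroup p P) {E : Subgroup P} (hS : IsSoft p E) (hidx : p ^ 2 ≤ E.index) :
    (∀ K L : Subgroup P, E ≤ K → E ≤ L → K ≤ L ∨ L ≤ K) ∧
      (∀ K : Subgroup P, E ≤ K → K ≠ ⊤ → K.relIndex (normalizer (K : Set P)) = p) ∧
      ∀ (i : ℕ) (K : Subgroup P) [Group.IsNilpotent ↥K], E ≤ K → K ≠ ⊤ → K.index * p ^ i = E.index →
        Group.nilpotencyClass ↥K = i + 1 := by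
  obtain ⟨h1, h2⟩ := chain_main p _ P rfl hP E hS
  refine ⟨h1, h2, ?_⟩
  intro i K _ hEK hKne hi
  refine class_eq hP hS h2 ?_ hEK hKne hi
  rintro rfl
  have h3 : centralizer ((⊥ : Subgroup P) : Set P) = ⊤ := by simp
  have h4 := hS.self
  rw [h3] at h4
  have h5 : (⊥ : Subgroup P) = ⊤ := le_antisymm bot_le h4
  rw [h5, Subgroup.index_top] at hidx
  have := Nat.pow_le_pow_left hp.out.two_le 2
  omega

end Cfsg.Agent.Lib.PGroup.Soft
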